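import Cfsg.Agent.CITGroups.Main
import Cfsg.Agent.PrimePowerOrders.Arith
import Cfsg.Agent.SuzukiUnique.Zassenhaus
import Cfsg.Agent.Suz.Partition
import Cfsg.Agent.Suz.Lie
import Cfsg.Agent.S0252
import Cfsg.Agent.S0253
import Cfsg.Agent.S0254

/-!
Simple groups all of whose non-identity elements have prime power order.
-/

set_option autoImplicit false
set_option linter.unusedSectionVars false
set_option linter.style.haveILetI false

namespace Cfsg.Lib.CITGroups.Eppo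

open Subgroup
open Cfsg.Lib.GLTwo
open scoped MatrixGroups

/-- every non-identity element has prime power order -/
def PP (G : Type*) [Group G] : Prop := ∀ g : G, g ≠ 1 → IsPrimePow (orderOf g)

theorem PP.of_injective {G H : Type*} [Group G] [Group H] (h : PP G) (f : H →* G) (hf : Function.Injective f) :
    PP H := fun x hx => by
  rw [← orderOf_injective f hf]
  exact h _ fun e => hx (hf (e.trans (map_one f).symm))

theorem PP.cit {G : Type*} [Group G] [Finite G] (h : PP G) : CIT G := by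
  intro t ht
  haveI : Fact (Nat.Prime 2) := ⟨Nat.prime_two⟩
  rw [IsPGroup.iff_orderOf]
  rintro ⟨g, hg⟩
  rw [orderOf_mk]
  have hc : Commute g t := mem_centralizer_singleton_iff.1 hg
  by_contra hno
  push Not at hno
  have hg1 : g ≠ 1 := fun e => hno 0 (by rw [e, orderOf_one, pow_zero])
  obtain ⟨p, k, hp, hk, hpk⟩ := (isPrimePow_nat_iff _).1 (h g hg1)
  have hp2 : p ≠ 2 := fun e => hno k (by rw [← hpk, e])
  have hco : (orderOf g).Coprime (orderOf t) := by
    rw [← hpk, ht]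
    exact (Nat.Coprime.pow_left k ((Nat.coprime_primes hp Nat.prime_two).2 hp2))
  have hpow := hc.orderOf_mul_eq_mul_orderOf_of_coprime hco
  rw [ht, ← hpk] at hpow
  have hne : g * t ≠ 1 := fun e => by
    rw [e, orderOf_one] at hpow
    omega
  obtain ⟨r, j, hr, -, hrj⟩ := (isPrimePow_nat_iff _).1 (h _ hne)
  have h2 : 2 ∣ r ^ j := hrj ▸ hpow ▸ dvd_mul_left 2 _
  have hpd : p ∣ r ^ j := hrj ▸ hpow ▸ (dvd_pow_self p (by omega)).mul_right _
  exact hp2 (((Nat.prime_dvd_prime_iff_eq hp hr).1 (hp.dvd_of_dvd_pow hpd)).trans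
    ((Nat.prime_dvd_prime_iff_eq Nat.prime_two hr).1 (Nat.prime_two.dvd_of_dvd_pow h2)).symm)

theorem eq_pow_of_dvd {N r : ℕ} (hr : r.Prime) (h : IsPrimePow N) (hd : r ∣ N) : ∃ a, 0 < a ∧ N = r ^ a := by
  obtain ⟨p, k, hp, hk, rfl⟩ := (isPrimePow_nat_iff _).1 h
  obtain rfl := (Nat.prime_dvd_prime_iff_eq hr hp).1 (hr.dvd_of_dvd_pow hd)
  exact ⟨k, hk, rfl⟩

/-- no power of three is next to a large power of two -/
theorem three_pow_ne {n a : ℕ} (hn : 4 ≤ n) : 2 ^ n + 1 ≠ 3 ^ a ∧ 2 ^ n ≠ 3 ^ a + 1 := by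
  have h16 : 2 ^ n % 16 = 0 := by
    obtain ⟨j, rfl⟩ := Nat.exists_eq_add_of_le hn
    rw [pow_add]
    omega
  have hm : 3 ^ a % 16 = 3 ^ (a % 4) % 16 := by
    conv_lhs => rw [← Nat.div_add_mod a 4, pow_add, pow_mul, Nat.mul_mod, Nat.pow_mod]
    norm_num
  refine ⟨fun e => ?_, fun e => ?_⟩
  · rcases (by omega : a % 4 = 0 ∨ a % 4 = 1 ∨ a % 4 = 2 ∨ a % 4 = 3) with h | h | h | h <;>
      rw [h] at hm <;> norm_num at hm
    · obtain ⟨c, hc⟩ : 4 ∣ a := Nat.dvd_of_mod_eq_zero h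
      have h5 : 3 ^ a % 5 = 1 := by rw [hc, pow_mul, Nat.pow_mod]; norm_num
      have : 5 ∣ 2 ^ n := by omega
      exact absurd ((Nat.prime_dvd_prime_iff_eq Nat.prime_five Nat.prime_two).1
        (Nat.prime_five.dvd_of_dvd_pow this)) (by norm_num)
    all_goals omega
  · rcases (by omega : a % 4 = 0 ∨ a % 4 = 1 ∨ a % 4 = 2 ∨ a % 4 = 3) with h | h | h | h <;>
      rw [h] at hm <;> norm_num at hm <;> omega

theorem dvd_exponent : ∀ (j a : ℕ), 2 ^ (j + 2) ∣ 5 ^ a - 1 → 2 ^ j ∣ a := by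
  intro j
  induction j with
  | zero => intro a _; simp
  | succ j ih =>
    intro a h
    rcases Nat.even_or_odd a with ⟨c, rfl⟩ | ⟨c, rfl⟩
    · have h1 : 1 ≤ 5 ^ c := Nat.one_le_pow _ _ (by norm_num)
      have h4 : 5 ^ c % 4 = 1 := by rw [Nat.pow_mod]; norm_num
      obtain ⟨r, hr⟩ : ∃ r, 5 ^ c + 1 = 2 * (2 * r + 1) := ⟨5 ^ c / 4, by omega⟩
      have e : 5 ^ (c + c) - 1 = 2 * ((2 * r + 1) * (5 ^ c - 1)) := by
        rw [← mul_assoc, ← hr, ← two_mul, pow_mul', Nat.pow_two]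
        rw [Nat.mul_sub, mul_one, add_mul, one_mul]
        omega
      rw [e, pow_succ', Nat.mul_dvd_mul_iff_left (by norm_num : 0 < 2)] at h
      have hco : (2 ^ (j + 2)).Coprime (2 * r + 1) :=
        Nat.Coprime.pow_left _ (Nat.coprime_two_left.2 ⟨r, rfl⟩)
      rw [← two_mul, pow_succ']
      exact mul_dvd_mul_left 2 (ih c (hco.dvd_of_dvd_mul_left h))
    · exfalso
      have h8 : 5 ^ (2 * c + 1) % 8 = 5 := by
        rw [pow_succ, pow_mul, Nat.mul_mod, Nat.pow_mod]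
        norm_num
      have h2 : 2 ^ 3 ∣ 5 ^ (2 * c + 1) - 1 := (Nat.pow_dvd_pow 2 (by omega)).trans h
      rw [show (2 : ℕ) ^ 3 = 8 from rfl] at h2
      clear h ih
      generalize 5 ^ (2 * c + 1) = x at h8 h2
      omega

section PSL

variable {F : Type*} [Field F] [Fintype F]

theorem psl_cases (h : PP (Matrix.ProjectiveSpecialLinearGroup (Fin 2) F))
    (hns : ¬ Group.IsSolvable (Matrix.ProjectiveSpecialLinearGroup (Fin 2) F))
    (hq : Fintype.card F = 9 ∨ (∃ n : ℕ, Fintype.card F = 2 ^ n) ∨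
      ((Fintype.card F).Prime ∧ ∃ k : ℕ, Fintype.card F = 2 ^ k + 1 ∨ Fintype.card F + 1 = 2 ^ k)) :
    Fintype.card F ∈ ({4, 5, 7, 8, 9, 17} : Finset ℕ) := by
  have hq1 := Fintype.one_lt_card (α := F)
  have hcard : Nat.gcd 2 (Fintype.card F - 1) * Nat.card (Matrix.ProjectiveSpecialLinearGroup (Fin 2) F) =
      Fintype.card F * (Fintype.card F ^ 2 - 1) := Cfsg.Lib.Classical.SmallPSL.card_psl rfl
  have h23 : Fintype.card F ≠ 2 ∧ Fintype.card F ≠ 3 := by
    refine ⟨fun e => ?_, fun e => ?_⟩ <;> rw [e] at hcard <;> norm_num at hcard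
    · exact hns (Cfsg.Lib.Chars.burnside_isSolvable 2 3 Nat.prime_two Nat.prime_three _ ⟨1, 1, by norm_num; omega⟩)
    · exact hns (Cfsg.Lib.Chars.burnside_isSolvable 2 3 Nat.prime_two Nat.prime_three _ ⟨2, 1, by norm_num; omega⟩)
  obtain ⟨n2, n3⟩ := h23
  obtain ⟨sm, hsm⟩ := exists_orderOf_sub_one (F := F)
  obtain ⟨sp, hsp⟩ := exists_orderOf_add_one (F := F)
  have hpp : ∀ (s : SL(2, F)) (N : ℕ), orderOf (prj s) = N → 1 < N → IsPrimePow N := fun s N e hN =>
    e ▸ h _ fun e1 => by rw [← e, e1, orderOf_one] at hN; omega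
  simp only [Finset.mem_insert, Finset.mem_singleton]
  rcases hq with h9 | ⟨n, hn⟩ | ⟨hprime, k, hk⟩
  · tauto
  · by_contra hno
    push Not at hno
    have hn4 : 4 ≤ n := by
      by_contra hlt
      rcases (by omega : n = 0 ∨ n = 1 ∨ n = 2 ∨ n = 3) with rfl | rfl | rfl | rfl <;>
        simp_all
    have hg : Nat.gcd 2 (Fintype.card F - 1) = 1 := by
      have h2 : 2 ∣ Fintype.card F := hn ▸ dvd_pow_self 2 (by omega)
      exact (Nat.coprime_two_left (n := Fintype.card F - 1)).2 ⟨(Fintype.card F - 2) / 2, by omega⟩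
    have hm : orderOf (prj sm) = 2 ^ n - 1 := by rw [orderOf_prj, hg, pow_one, hsm, hn]
    have hp : orderOf (prj sp) = 2 ^ n + 1 := by rw [orderOf_prj, hg, pow_one, hsp, hn]
    have h16 : 16 ≤ 2 ^ n := le_trans (by norm_num) (Nat.pow_le_pow_right (by norm_num) hn4)
    rcases (by
      have : ¬ 3 ∣ 2 ^ n := fun hd => by
        have := (Nat.prime_dvd_prime_iff_eq Nat.prime_three Nat.prime_two).1 (Nat.prime_three.dvd_of_dvd_pow hd)
        omega
      omega : 3 ∣ 2 ^ n - 1 ∨ 3 ∣ 2 ^ n + 1) with h3 | h3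
    · obtain ⟨a, -, ha⟩ := eq_pow_of_dvd Nat.prime_three (hpp sm _ hm (by omega)) h3
      exact (three_pow_ne (a := a) hn4).2 (by omega)
    · obtain ⟨a, -, ha⟩ := eq_pow_of_dvd Nat.prime_three (hpp sp _ hp (by omega)) h3
      exact (three_pow_ne (a := a) hn4).1 ha
  · by_contra hno
    push Not at hno
    have hk5 : 5 ≤ k := by
      by_contra hlt
      rcases (by omega : k = 0 ∨ k = 1 ∨ k = 2 ∨ k = 3 ∨ k = 4) with rfl | rfl | rfl | rfl | rfl <;>
        norm_num at hk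
      all_goals first
        | omega
        | (rcases hk with hk | hk <;> first
            | omega
            | (rw [show Fintype.card F = 15 by omega] at hprime; norm_num at hprime))
    have h32 : 32 ≤ 2 ^ k := le_trans (by norm_num) (Nat.pow_le_pow_right (by norm_num) hk5)
    have hnd3 : ¬ 3 ∣ Fintype.card F := fun hd => n3 ((Nat.prime_dvd_prime_iff_eq Nat.prime_three hprime).1 hd).symm
    obtain ⟨j, rfl⟩ : ∃ j, k = j + 1 := ⟨k - 1, by omega⟩
    rw [pow_succ] at hk h32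
    have hg : Nat.gcd 2 (Fintype.card F - 1) = 2 := by
      exact Nat.gcd_eq_left (by omega)
    have hhalf : ∀ (s : SL(2, F)) (N : ℕ), orderOf s = 2 * N → orderOf (prj s) = N := fun s N e => by
      rw [orderOf_prj, hg, orderOf_pow' _ two_ne_zero, e, Nat.gcd_eq_right (dvd_mul_right 2 N),
        Nat.mul_div_cancel_left _ two_pos]
    have h3n : ¬ 3 ∣ 2 ^ j := fun hd => by
      have := (Nat.prime_dvd_prime_iff_eq Nat.prime_three Nat.prime_two).1 (Nat.prime_three.dvd_of_dvd_pow hd)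
      omega
    obtain ⟨e, he | he⟩ : ∃ e, 2 ^ j = 3 * e + 1 ∨ 2 ^ j = 3 * e + 2 := ⟨2 ^ j / 3, by omega⟩ <;>
      rcases hk with hk | hk
    · exact hnd3 ⟨2 * e + 1, by omega⟩
    rotate_left
    rotate_left
    · exact hnd3 ⟨2 * e + 1, by omega⟩
    rotate_left
    · obtain ⟨a, -, ha⟩ := eq_pow_of_dvd Nat.prime_three
        (hpp sp _ (hhalf sp (2 ^ j + 1) (by omega)) (by omega)) (by omega)
      exact (three_pow_ne (a := a) (show 4 ≤ j by omega)).1 ha
    · obtain ⟨a, -, ha⟩ := eq_pow_of_dvd Nat.prime_three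
        (hpp sm _ (hhalf sm (2 ^ j - 1) (by omega)) (by omega)) (by omega)
      exact (three_pow_ne (a := a) (show 4 ≤ j by omega)).2 (by omega)

end PSL

/-- only two Suzuki groups qualify -/
theorem sz_cases {F : Type} [Field F] [Fintype F] {m : ℕ} (hm : 1 ≤ m) (hF : Fintype.card F = 2 ^ (2 * m + 1))
    (h : PP ↥(Cfsg.Lie.Sz F (2 ^ (m + 1)))) : m = 1 ∨ m = 2 := by
  have Q : Cfsg.Lib.Suz.Par F m := ⟨hm, hF⟩
  have h' : PP ↥(Cfsg.Sz F m) := h.of_injective (Cfsg.Lib.Suz.lieEquiv Q).toMonoidHom (Cfsg.Lib.Suz.lieEquiv Q).injective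
  by_contra hno
  have hm3 : 3 ≤ m := by omega
  set q := 2 ^ (2 * m + 1) with hq
  set r := 2 ^ (m + 1) with hr
  have hrr : r * r = 2 * q := by rw [hr, hq, ← pow_add, ← pow_succ']; congr 1; omega
  have hr16 : 16 ≤ r := le_trans (by norm_num) (Nat.pow_le_pow_right (by norm_num) (show 4 ≤ m + 1 by omega))
  have hqr : 2 * r ≤ q := by nlinarith
  have hqle : q + r + 1 ≤ 4 ^ (m + 1) := by
    have : 4 ^ (m + 1) = 2 * q := by
      rw [show (4 : ℕ) = 2 ^ 2 by norm_num, ← pow_mul, hq, ← pow_succ']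
      congr 1
    omega
  have h5 : 5 ∣ q + r + 1 ∨ 5 ∣ q - r + 1 := by
    refine (Nat.Prime.dvd_mul Nat.prime_five).1 ?_
    have e : (q + r + 1) * (q - r + 1) = q * q + 1 := by
      obtain ⟨s, hs⟩ := Nat.exists_eq_add_of_le (show r ≤ q by omega)
      rw [hs, Nat.add_sub_cancel_left]
      rw [hs] at hrr
      nlinarith
    rw [e]
    have e4 : q * q % 5 = 4 := by
      rw [hq, ← pow_add, show 2 * m + 1 + (2 * m + 1) = 4 * m + 2 by ring, pow_add, pow_mul, Nat.mul_mod,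
        Nat.pow_mod]
      norm_num
    omega
  have key : ∀ N, N ∈ ({q + r + 1, q - r + 1} : Set ℕ) → 5 ∣ N → False := by
    intro N hN hd
    obtain ⟨U, hU, hcard, -⟩ := Cfsg.Lib.Suz.tori Q N hN
    obtain ⟨g, hg⟩ := hU.exists_generator
    have ho : orderOf (g : ↥(Cfsg.Sz F m)) = N := by
      rw [orderOf_coe, orderOf_eq_card_of_forall_mem_zpowers hg, hcard]
    have hN2 : 2 ≤ N ∧ N ≤ q + r + 1 ∧ r ∣ N - 1 := by
      have hrq : r ∣ q := Nat.pow_dvd_pow 2 (by omega)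
      rcases hN with rfl | rfl
      · exact ⟨by omega, le_rfl, by rw [Nat.add_sub_cancel]; exact dvd_add hrq dvd_rfl⟩
      · exact ⟨by omega, by omega, by rw [Nat.add_sub_cancel]; exact Nat.dvd_sub hrq dvd_rfl⟩
    obtain ⟨a, ha0, ha⟩ := eq_pow_of_dvd Nat.prime_five
      (ho ▸ h' _ (fun e => by rw [e, orderOf_one] at ho; omega)) hd
    obtain ⟨j, hj⟩ : ∃ j, m + 1 = j + 2 := ⟨m - 1, by omega⟩
    have h2 := hN2.2.2
    rw [ha, hr, hj] at h2
    have hle := Nat.le_of_dvd ha0 (dvd_exponent j a h2)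
    have hj2 : j + 2 ≤ 2 ^ j := by
      have : ∀ i, i + 4 ≤ 2 ^ (i + 2) := by
        intro i
        induction i with
        | zero => norm_num
        | succ i ih => rw [show i + 1 + 2 = i + 2 + 1 by ring, pow_succ]; omega
      obtain ⟨i, rfl⟩ := Nat.exists_eq_add_of_le (show 2 ≤ j by omega)
      rw [add_comm 2 i]
      have := this i
      omega
    have h45 : 4 ^ (m + 1) < 5 ^ a :=
      lt_of_lt_of_le (Nat.pow_lt_pow_left (by norm_num) (by omega)) (Nat.pow_le_pow_right (by norm_num) (by omega))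
    omega
  rcases h5 with h5 | h5
  · exact key _ (Or.inl rfl) h5
  · exact key _ (Or.inr rfl) h5

end Cfsg.Lib.CITGroups.Eppo
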