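import Cfsg.Agent.CITGroups.Swap
import Cfsg.Agent.PrimePowerOrders.Arith

/-!
Two maximal local subgroups with a common maximal 2-subgroup: a self-centralising four-group, or the two
subgroups are those of a projective plane over four elements.
-/

set_option autoImplicit false
set_option linter.unusedSectionVars false
set_option linter.style.haveILetI false

namespace Cfsg.Lib.CITGroups

open Subgroup Cfsg.Lib.PrimePowerOrders

variable {G : Type*} [Group G] [Finite G]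

theorem omega_eq_of_elem {R : Subgroup G} (hR : Elem R) : omega R = R :=
  le_antisymm (omega_le R) fun _ hx => ⟨hx, fun _ hy => hR.comm hx hy, hR _ hx⟩

theorem MaxLocal.eq_of_eq {M R M' : Subgroup G} (L : MaxLocal M R) (L' : MaxLocal M' R) : M = M' :=
  L.norm.symm.trans L'.norm

/-- Commuting fixed-point-free maps of exponent three generate at most a cyclic group. -/
theorem fpf_three {X : Type*} [CommGroup X] (hsq : ∀ u : X, u * u = 1) (Z B : X →* X)
    (hZB : ∀ u, Z (B u) = B (Z u)) (hZ3 : ∀ u, Z (Z (Z u)) = u) (hB3 : ∀ u, B (B (B u)) = u)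
    (h1 : ∀ u, Z u = u → u = 1) (h2 : ∀ u, B u = u → u = 1) (h3 : ∀ u, Z (B u) = u → u = 1)
    (h4 : ∀ u, Z (Z (B u)) = u → u = 1) (w : X) : w = 1 := by
  have hN : ∀ (F : X →* X), (∀ u, F (F (F u)) = u) → (∀ u, F u = u → u = 1) → ∀ u, u * F u * F (F u) = 1 :=
    fun F hF hf u => hf _ (by rw [map_mul, map_mul, hF u]; ac_rfl)
  have hc : ∀ u, Z (Z (B (Z (Z (B u))))) = Z (B (B u)) := fun u => by simp only [← hZB, hZ3]
  have hc' : ∀ u, Z (B (Z (B u))) = Z (Z (B (B u))) := fun u => by simp only [← hZB]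
  have e1 := hN B hB3 h2 w
  have e2 := hN (Z.comp B) (fun u => by
    show Z (B (Z (B (Z (B u))))) = u
    simp only [← hZB, hZ3, hB3]) h3 w
  have e3 := hN (Z.comp (Z.comp B)) (fun u => by
    show Z (Z (B (Z (Z (B (Z (Z (B u)))))))) = u
    simp only [← hZB, hZ3, hB3]) h4 w
  have e4 := hN Z hZ3 h1 (B w)
  have e5 := hN Z hZ3 h1 (B (B w))
  simp only [MonoidHom.comp_apply] at e2 e3
  rw [hc'] at e2
  rw [hc] at e3
  have h : w * B w * B (B w) * (w * Z (B w) * Z (Z (B (B w)))) * (w * Z (Z (B w)) * Z (B (B w))) =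
      w * w * w * (B w * Z (B w) * Z (Z (B w))) * (B (B w) * Z (B (B w)) * Z (Z (B (B w)))) := by ac_rfl
  rw [e1, e2, e3, e4, e5] at h
  simpa [hsq] using h.symm

/-- two maximal local subgroups as in the projective plane of order four -/
structure Flag (M V M' A T W : Subgroup G) : Prop where
  left : Off M V T A W
  right : Off M' A T V W
  elemV : Elem V
  ne : M ≠ M'
  card : Nat.card ↥W = 4

namespace Off

variable {M R T A W : Subgroup G} (O : Off M R T A W) (h : CIT G)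
include O h

/-- A cyclic permutation of three points by an element of order three. -/
theorem exists_cycle {k a : G} (hk : k ∈ M) (hkN : k ∉ stab M W) (ha : a ∈ A) (haR : a ∉ R) :
    ∃ x ∈ M, orderOf x = 3 ∧ x ∉ stab M W ∧ (∀ w ∈ W, ∃ w' ∈ W, x * w * x⁻¹ = k * w' * k⁻¹) ∧
      (∀ w ∈ W, ∃ w' ∈ W, x * (k * w * k⁻¹) * x⁻¹ = (a * k) * w' * (a * k)⁻¹) := by
  obtain ⟨s, hsM, hs1, hs2, hss, hs3⟩ := O.exists_swap h hk hkN ha haR
  have haa : a * a = 1 := O.elem a ha
  have hs3' := O.T_stab h hs3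
  set g := s * a with hg
  have n1 : k⁻¹ * g ∈ stab M W := by simpa [hg, mul_assoc] using mul_mem hs1 (O.A_stab ha)
  have n2 : (a * k)⁻¹ * g * k ∈ stab M W := by simpa [hg, mul_assoc] using hs3'
  have n3 : g * (a * k) ∈ stab M W := by
    rw [show g * (a * k) = s * (a * a) * k by simp only [hg]; group, haa, mul_one]
    exact hs2
  have hgM : g ∈ M := M.mul_mem hsM (O.A_le_M ha)
  have hg3 : g * g * g ∈ R := by
    refine O.three h hk hkN ha haR (mem_base.2 ⟨?_, ?_⟩) ?_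
    · rw [show g * g * g = g * (a * k) * ((a * k)⁻¹ * g * k) * (k⁻¹ * g) by group]
      exact mul_mem (mul_mem n3 n2) n1
    · rw [show k⁻¹ * (g * g * g) * k = k⁻¹ * g * (g * (a * k)) * ((a * k)⁻¹ * g * k) by group]
      exact mul_mem (mul_mem n1 n3) n2
    · rw [show (a * k)⁻¹ * (g * g * g) * (a * k) = (a * k)⁻¹ * g * k * (k⁻¹ * g) * (g * (a * k)) by group]
      exact mul_mem (mul_mem n2 n1) n3
  have hgR : g ∉ R := fun hh => hkN (by simpa using inv_mem (mul_mem n1 (inv_mem (O.R_stab hh))))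
  obtain ⟨i, hi⟩ := two_of_mem O.loc.two hg3
  have hd : orderOf g ∣ 3 * 2 ^ i := by
    refine orderOf_dvd_of_pow_eq_one ?_
    rw [pow_mul, pow_three', ← hi, pow_orderOf_eq_one]
  have h3 : 3 ∣ orderOf g := by
    by_contra hn
    have hd' : orderOf g ∣ 2 ^ i :=
      ((Nat.prime_three.coprime_iff_not_dvd).2 hn).symm.dvd_of_dvd_mul_left hd
    obtain ⟨j, -, hj⟩ := (Nat.dvd_prime_pow Nat.prime_two).1 hd'
    have hpow : g ^ (2 ^ j) = 1 := hj ▸ pow_orderOf_eq_one g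
    refine hgR ?_
    have hcop : Nat.Coprime 3 (2 ^ j) := Nat.Coprime.pow_right j (by norm_num)
    obtain ⟨m, hm⟩ := exists_pow_eq_self_of_coprime (x := g) (n := 3) (hj ▸ hcop)
    rw [← hm, show g ^ 3 = g * g * g from pow_three' g]
    exact R.pow_mem hg3 m
  obtain ⟨c, hc⟩ := h3
  have hc2 : c ∣ 2 ^ i := by
    rw [hc] at hd
    exact Nat.dvd_of_mul_dvd_mul_left (by norm_num) hd
  obtain ⟨j, -, rfl⟩ := (Nat.dvd_prime_pow Nat.prime_two).1 hc2
  set x := g ^ (2 ^ j * 2 ^ j) with hx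
  have hxo : orderOf x = 3 := by
    rw [hx, pow_mul, orderOf_pow' _ (pow_ne_zero j two_ne_zero), orderOf_pow' _ (pow_ne_zero j two_ne_zero), hc,
      Nat.gcd_mul_left_left, Nat.mul_div_cancel _ (pow_pos two_pos j),
      (Nat.Coprime.pow_right j (by norm_num : Nat.Coprime 3 2)).gcd_eq_one, Nat.div_one]
  obtain ⟨d, hd'⟩ : ∃ d, 2 ^ j * 2 ^ j = 3 * d + 1 := by
    refine ⟨2 ^ j * 2 ^ j / 3, ?_⟩
    have := Nat.div_add_mod (2 ^ j * 2 ^ j) 3
    rw [← mul_pow, show (2 * 2 : ℕ) = 4 by norm_num, four_pow_mod] at this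
    rw [← mul_pow, show (2 * 2 : ℕ) = 4 by norm_num]
    omega
  set r := (g * g * g) ^ d
  have hxr : x = r * g := by rw [hx, hd', pow_succ, pow_mul, pow_three']
  have hr : r ∈ R := R.pow_mem hg3 d
  have hconj : ∀ v ∈ omega R, x * v * x⁻¹ = g * v * g⁻¹ := fun v hv => by
    have hv' := O.loc.omega_normal hgM hv
    rw [hxr, show r * g * v * (r * g)⁻¹ = r * (g * v * g⁻¹) * r⁻¹ by group, (O.commR hv' hr).eq,
      mul_inv_cancel_right]
  refine ⟨x, pow_mem hgM _, hxo, fun hh => hkN ?_, fun w hw => ⟨_, O.stab_conj n1 hw, ?_⟩,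
    fun w hw => ⟨_, O.stab_conj n2 hw, ?_⟩⟩
  · have h5 : g ∈ stab M W := by simpa [hxr] using mul_mem (inv_mem (O.R_stab hr)) hh
    simpa using inv_mem (mul_mem n1 (inv_mem h5))
  · rw [hconj w (O.W_le_V hw)]; group
  · rw [hconj _ (O.loc.omega_normal hk (O.W_le_V hw))]; group

/-- the maps of a two-point stabiliser: two elements of order three modulo `R` generate a cyclic group -/
theorem cube_classes {k : G} (hk : k ∈ M) (hkN : k ∉ stab M W)
    (hcube : ∀ g ∈ base M W k, g * g * g ∈ R) {z b : G} (hz : z ∈ base M W k) (hzR : z ∉ R)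
    (hb : b ∈ base M W k) : b ∈ R ∨ z * b ∈ R ∨ z * z * b ∈ R := by
  by_contra hcon
  push Not at hcon
  obtain ⟨hbR, hzbR, hzzbR⟩ := hcon
  obtain ⟨a, ha, haR⟩ := O.out
  obtain ⟨s, hsM, hs1, hs2, hss, -⟩ := O.exists_swap h hk hkN ha haR
  obtain ⟨w₀, hw₀, hw₀1⟩ := O.exists_mem_W
  letI : CommGroup ↥W :=
    { (inferInstance : Group ↥W) with
      mul_comm := fun u v => Subtype.ext ((elem_omega R).comm (O.W_le_V u.2) (O.W_le_V v.2)).eq }
  let F : ↥(base M W k) → (↥W →* ↥W) := fun g => MonoidHom.mk'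
    (fun u => ⟨(g : G) * u * (g : G)⁻¹, O.stab_conj (mem_base.1 g.2).1 u.2⟩)
    fun u v => Subtype.ext (by
      show (g : G) * ((u : G) * v) * (g : G)⁻¹ = (g : G) * u * (g : G)⁻¹ * ((g : G) * v * (g : G)⁻¹)
      group)
  have hR : ∀ g ∈ R, ∀ u : ↥W, g * (u : G) * g⁻¹ = u := fun g hg u => by
    rw [(O.R_cent hg _ u.2).eq, mul_inv_cancel_right]
  have hfix : ∀ g : ↥(base M W k), (g : G) ∉ R → ∀ u, F g u = u → u = 1 := fun g hg u hu => by
    by_contra hu1
    refine hg (O.fpf h hk hkN g.2 u.2 (fun e => hu1 (Subtype.ext e)) ?_)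
    exact mul_inv_eq_iff_eq_mul.1 (congrArg Subtype.val hu)
  have hF3 : ∀ g : ↥(base M W k), ∀ u, F g (F g (F g u)) = u := fun g u => Subtype.ext (by
    show (g : G) * ((g : G) * ((g : G) * u * (g : G)⁻¹) * (g : G)⁻¹) * (g : G)⁻¹ = u
    rw [show (g : G) * ((g : G) * ((g : G) * u * (g : G)⁻¹) * (g : G)⁻¹) * (g : G)⁻¹ =
      ((g : G) * g * g) * u * ((g : G) * g * g)⁻¹ by group]
    exact hR _ (hcube g g.2) u)
  -- commutation modulo `R` from inversion
  have hcm : z * b * (b * z)⁻¹ ∈ R := by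
    haveI := O.loc.normal
    set π := QuotientGroup.mk' (R.subgroupOf M)
    have hzM := (mem_base.1 hz).1.1
    have hbM := (mem_base.1 hb).1.1
    have inv : ∀ (g : G) (hgM : g ∈ M), g ∈ base M W k →
        π ⟨s, hsM⟩ * π ⟨g, hgM⟩ * (π ⟨s, hsM⟩)⁻¹ = (π ⟨g, hgM⟩)⁻¹ := fun g hgM hg => by
      refine eq_inv_of_mul_eq_one_left ?_
      rw [← map_inv, ← map_mul, ← map_mul, ← map_mul]
      exact (QuotientGroup.eq_one_iff _).2 (O.inverts h hk hkN hsM hs1 hs2 hss hg)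
    have e1 := inv z hzM hz
    have e2 := inv b hbM hb
    have e3 := inv (b * z) (M.mul_mem hbM hzM) (mul_mem hb hz)
    have hmul : π ⟨b * z, M.mul_mem hbM hzM⟩ = π ⟨b, hbM⟩ * π ⟨z, hzM⟩ := map_mul π ⟨b, hbM⟩ ⟨z, hzM⟩
    rw [hmul, show π ⟨s, hsM⟩ * (π ⟨b, hbM⟩ * π ⟨z, hzM⟩) * (π ⟨s, hsM⟩)⁻¹ =
      (π ⟨s, hsM⟩ * π ⟨b, hbM⟩ * (π ⟨s, hsM⟩)⁻¹) * (π ⟨s, hsM⟩ * π ⟨z, hzM⟩ * (π ⟨s, hsM⟩)⁻¹) by group,
      e1, e2, ← mul_inv_rev, inv_inj] at e3
    exact (QuotientGroup.eq_one_iff ((⟨z, hzM⟩ : ↥M) * ⟨b, hbM⟩ * (⟨b, hbM⟩ * ⟨z, hzM⟩ : ↥M)⁻¹)).1 (by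
      show π _ = 1
      rw [map_mul, map_mul, map_inv, map_mul, ← e3, mul_inv_cancel])
  set z' : ↥(base M W k) := ⟨z, hz⟩
  set b' : ↥(base M W k) := ⟨b, hb⟩
  refine hw₀1 (congrArg Subtype.val (fpf_three (fun u => Subtype.ext ((elem_omega R) _ (O.W_le_V u.2)))
    (F z') (F b') ?_ (hF3 z') (hF3 b') (hfix z' hzR) (hfix b' hbR) ?_ ?_ (⟨w₀, hw₀⟩ : ↥W)))
  · intro u
    refine Subtype.ext ?_
    show z * (b * (u : G) * b⁻¹) * z⁻¹ = b * (z * u * z⁻¹) * b⁻¹
    rw [show z * (b * (u : G) * b⁻¹) * z⁻¹ =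
        (z * b * (b * z)⁻¹) * (b * (z * (u : G) * z⁻¹) * b⁻¹) * (z * b * (b * z)⁻¹)⁻¹ by group,
      (O.R_cent hcm _ (O.stab_conj (mem_base.1 hb).1 (O.stab_conj (mem_base.1 hz).1 u.2))).eq, mul_inv_cancel_right]
  · intro u hu
    refine hfix ⟨z * b, mul_mem hz hb⟩ hzbR u (Subtype.ext ?_)
    show z * b * (u : G) * (z * b)⁻¹ = u
    rw [show z * b * (u : G) * (z * b)⁻¹ = z * (b * u * b⁻¹) * z⁻¹ by group]
    exact congrArg Subtype.val hu
  · intro u hu
    refine hfix ⟨z * z * b, mul_mem (mul_mem hz hz) hb⟩ hzzbR u (Subtype.ext ?_)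
    show z * z * b * (u : G) * (z * z * b)⁻¹ = u
    rw [show z * z * b * (u : G) * (z * z * b)⁻¹ = z * (z * (b * u * b⁻¹) * z⁻¹) * z⁻¹ by group]
    exact congrArg Subtype.val hu

variable {M' R' : Subgroup G} (L' : Setup M' R' T) (hne : M ≠ M') (hTR' : ¬ T ≤ R')
include L' hne hTR'

/-- The largest normal 2-subgroup of an offending group is elementary. -/
theorem omega_eq : R = omega R := by
  by_contra hRV
  have hRT := O.toSetup.le_T
  have hR'T := L'.le_T
  set V' := omega R'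
  have hV'T : V' ≤ T := L'.V_T
  have hcV : ∀ t ∈ T, ∀ v ∈ V', cm t v ∈ V' := fun t ht v hv => L'.cm_mem (L'.le ht) hv
  have toV : ∀ u ∈ V', u ∈ R → (∀ r ∈ R, Commute r u) → u ∈ omega R := fun u hu huR hc =>
    ⟨huR, fun y hy => (hc y hy).symm, hu.2.2⟩
  have hback : ∀ {t r : G}, t ∈ T → r ∈ R → t⁻¹ * r * t ∈ R := fun ht hr => by
    simpa using O.loc.conjR (inv_mem (O.le ht)) hr
  by_cases hA : ∀ u ∈ V', u ∈ R → ∀ r ∈ R, Commute r u
  · by_cases hV'R : V' ≤ R
    · have hV'V : V' ≤ omega R := fun u hu => toV u hu (hV'R hu) (hA u hu (hV'R hu))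
      have hRR' : R ≤ R' := fun r hr =>
        L'.cent_omega h (L'.le (hRT hr)) fun u hu => hA u hu (hV'R hu) r hr
      rcases eq_or_lt_of_le hRR' with e | hlt
      · exact hne (MaxLocal.eq_of_eq O.loc (e ▸ L'.loc))
      obtain ⟨t, ht, htR⟩ := SetLike.exists_of_lt hlt
      obtain ⟨htM, htW⟩ := (O.mem_T h).1 (hR'T ht)
      have hV'W : V' ≤ W := fun u hu => O.fix_cent h htM htW htR (hV'V hu) ((hu.2.1 t ht).symm)
      refine hTR' fun t' ht' => ?_
      obtain ⟨a, ha, r, hr, rfl⟩ := O.T_decomp h ht'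
      exact R'.mul_mem (L'.cent_omega h (L'.le (O.leA ha)) fun u hu => O.A_cent ha u (hV'W hu)) (hRR' hr)
    · obtain ⟨v, hv, hvR⟩ := SetLike.not_le_iff_exists.1 hV'R
      obtain ⟨hvM, hvW⟩ := (O.mem_T h).1 (hV'T hv)
      have hfR : ∀ e ∈ R, cm e v ∈ R := fun e he => by
        rw [show cm e v = e * (v * e⁻¹ * v⁻¹) by simp only [cm]; group]
        exact R.mul_mem he (O.loc.conjR hvM (inv_mem he))
      have hfc : ∀ e ∈ R, ∀ r ∈ R, Commute r (cm e v) := fun e he =>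
        hA _ (hcV e (hRT he) v hv) (hfR e he)
      have hfW : ∀ e ∈ R, cm e v ∈ W := fun e he =>
        O.fix_cent h hvM hvW hvR (toV _ (hcV e (hRT he) v hv) (hfR e he) (hfc e he))
          ((elem_omega R').comm hv (hcV e (hRT he) v hv))
      let φ : ↥R →* ↥W := MonoidHom.mk' (fun e => ⟨cm e v, hfW e e.2⟩) fun a b => Subtype.ext (by
        show cm ((a : G) * b) v = cm (a : G) v * cm (b : G) v
        rw [show cm ((a : G) * b) v = (a : G) * cm (b : G) v * (a : G)⁻¹ * cm (a : G) v by simp only [cm]; group,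
          (hfc b b.2 a a.2).eq, mul_inv_cancel_right,
          ((elem_omega R).comm (O.W_le_V (hfW a a.2)) (O.W_le_V (hfW b b.2))).eq])
      set K := φ.ker.map R.subtype
      have h1 := O.toSetup.fixed_sq_le' h hvM (two_of_mem O.two (hV'T hv)) hvR le_rfl
        (fun g hg x hx => O.loc.conjR hg hx) K (map_subtype_le _) (by
          rintro _ ⟨y, hy, rfl⟩
          exact (cm_eq_one.1 (congrArg Subtype.val (MonoidHom.mem_ker.1 hy))).symm.symm)
      have h2 := φ.ker.card_mul_index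
      rw [Subgroup.index_ker, ← card_map_of_injective R.subtype_injective] at h2
      change Nat.card ↥K * Nat.card ↥φ.range = Nat.card ↥R at h2
      have h3 : Nat.card ↥φ.range ≤ Nat.card ↥W := φ.range.card_le_card_group
      have h4 : Nat.card ↥K ≤ Nat.card ↥W :=
        Nat.le_of_mul_le_mul_left (h1.trans (h2.ge.trans (Nat.mul_le_mul_left _ h3))) Nat.card_pos
      refine hRV (eq_of_le_of_card_ge (omega_le R) ?_).symm
      rw [O.card]
      exact h2.ge.trans (Nat.mul_le_mul h4 h3)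
  -- an element of `R` commuting with all its commutators
  push Not at hA
  obtain ⟨v₁, hv₁, hv₁R, r₁, hr₁, hv₁c⟩ := hA
  haveI : Fact (Nat.Prime 2) := ⟨Nat.prime_two⟩
  obtain ⟨v, ⟨hvV', hvR⟩, ⟨r₀, hr₀, hr₀v⟩, hvT⟩ : ∃ v, (v ∈ V' ∧ v ∈ R) ∧ (∃ r ∈ R, ¬ Commute r v) ∧
      ∀ t ∈ T, ∀ r ∈ R, Commute r (cm t v) := by
    by_contra hcon
    push Not at hcon
    obtain ⟨n, hn⟩ := (Subgroup.nilpotent_iff_lowerCentralSeries).1 O.two.isNilpotent
    have hind : ∀ i, ∃ u : ↥T, u ∈ (⊤ : Subgroup ↥T).lowerCentralSeries i ∧ ((u : G) ∈ V' ∧ (u : G) ∈ R) ∧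
        ∃ r ∈ R, ¬ Commute r (u : G) := by
      intro i
      induction i with
      | zero => exact ⟨⟨v₁, hV'T hv₁⟩, by rw [Subgroup.lowerCentralSeries_zero]; exact mem_top _, ⟨hv₁, hv₁R⟩,
          r₁, hr₁, hv₁c⟩
      | succ i ih =>
        obtain ⟨u, hui, hu, r, hr, hru⟩ := ih
        obtain ⟨t, ht, r', hr', hr'c⟩ := hcon (u : G) hu ⟨r, hr, hru⟩
        refine ⟨(⟨t, ht⟩ : ↥T) * u * (⟨t, ht⟩ : ↥T)⁻¹ * u⁻¹, ?_, ⟨hcV t ht _ hu.1,
          R.mul_mem (O.loc.conjR (O.le ht) hu.2) (inv_mem hu.2)⟩, r', hr', hr'c⟩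
        rw [Subgroup.lowerCentralSeries_succ, commutator_comm]
        exact commutator_mem_commutator (mem_top _) hui
    obtain ⟨u, hu, -, r, -, hru⟩ := hind n
    rw [hn, mem_bot] at hu
    exact hru (by rw [hu]; exact Commute.one_right r)
  have hR'R : ¬ R' ≤ R := by
    intro hle
    have hV'R' : omega R' ≤ R' := omega_le R'
    have hVR' : omega R ≤ R' := fun w hw =>
      L'.cent_omega h (L'.le (O.toSetup.V_T hw)) fun u hu => (O.commR hw (hle (hV'R' hu))).symm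
    have hVV' : omega R ≤ omega R' := fun w hw =>
      ⟨hVR' hw, fun y hy => (O.commR hw (hle hy)).symm, hw.2.2⟩
    obtain ⟨a, ha, haR⟩ := O.out
    by_cases hoff : Offending R' T
    · obtain ⟨A', W', O'⟩ := exists_off h L' hoff
      rcases eq_or_lt_of_le hle with e | hlt
      · exact hne (MaxLocal.eq_of_eq O.loc (e ▸ L'.loc))
      obtain ⟨e, he, heR'⟩ := SetLike.exists_of_lt hlt
      obtain ⟨heM, heW⟩ := (O'.mem_T h).1 (hRT he)
      refine haR (O.toSetup.cent_omega h (O.A_le_M ha) fun w hw => ?_)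
      exact ((O'.mem_T h).1 (O.leA ha)).2 w (O'.fix_cent h heM heW heR' (hVV' hw) (O.commR hw he))
    · exact haR (hle (by_contra fun haR' => hoff ⟨A, O.leA, O.elem, O.maxA, fun hh => haR' (hh ha)⟩))
  obtain ⟨e', he', he'R⟩ := SetLike.not_le_iff_exists.1 hR'R
  obtain ⟨he'M, he'W⟩ := (O.mem_T h).1 (hR'T he')
  have hfR : ∀ e ∈ R, cm e v ∈ R := fun e he => R.mul_mem (R.mul_mem (R.mul_mem he hvR) (inv_mem he)) (inv_mem hvR)
  have hfW : ∀ e ∈ R, cm e v ∈ W := fun e he =>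
    O.fix_cent h he'M he'W he'R (toV _ (hcV e (hRT he) v hvV') (hfR e he) (hvT e (hRT he)))
      ((hcV e (hRT he) v hvV').2.1 e' he').symm
  have hfinv : ∀ t ∈ T, ∀ e ∈ R, cm (t * e * t⁻¹) v = cm e v := by
    intro t ht e he
    have hz := hvT t⁻¹ (inv_mem ht)
    set z := cm t⁻¹ v with hzdef
    have hzR : z ∈ R := by
      simp only [hzdef, cm]
      simpa using R.mul_mem (hback ht hvR) (inv_mem hvR)
    have h1 : cm (t * e * t⁻¹) v = t * (z * cm e v * z⁻¹) * t⁻¹ := by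
      have e1 : t * e * t⁻¹ * v * (t * e * t⁻¹)⁻¹ * v⁻¹ = t * ((e * z * e⁻¹) * cm e v * z⁻¹) * t⁻¹ := by
        simp only [hzdef, cm]; group
      rw [show cm (t * e * t⁻¹) v = t * e * t⁻¹ * v * (t * e * t⁻¹)⁻¹ * v⁻¹ from rfl, e1, (hz e he).eq,
        mul_inv_cancel_right]
    rw [h1, (O.R_cent hzR _ (hfW e he)).eq, mul_inv_cancel_right, (((O.mem_T h).1 ht).2 _ (hfW e he)).eq,
      mul_inv_cancel_right]
  -- the cyclic permutation
  obtain ⟨k, hk, hkN⟩ := O.exists_point h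
  obtain ⟨a, ha, haR⟩ := O.out
  obtain ⟨x, hxM, hxo, hxN, hx1, hx2⟩ := O.exists_cycle h hk hkN ha haR
  set K := R ⊓ centralizer (R : Set G) with hKdef
  have hKn : ∀ y ∈ M, y ∈ normalizer (K : Set G) := fun y hy => mem_nrm fun u hu => ⟨O.loc.conjR hy hu.1,
    mem_centralizer_iff.2 fun r hr => by
      have := congrArg (MulAut.conj y) (mem_centralizer_iff.1 hu.2 _ (O.loc.conjR (inv_mem hy) hr))
      simpa [mul_assoc] using this⟩
  have hfK : ∀ e ∈ R, cm e v ∈ K := fun e he =>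
    ⟨hfR e he, mem_centralizer_iff.2 fun r hr => (hvT e (hRT he) r hr).eq⟩
  set v₁' := x * v * x⁻¹ with hv1def
  set v₂' := x * v₁' * x⁻¹ with hv2def
  have hv1R : v₁' ∈ R := O.loc.conjR hxM hvR
  have hv2R : v₂' ∈ R := O.loc.conjR hxM hv1R
  set w := v * v₁' * v₂' with hwdef
  have hwR : w ∈ R := R.mul_mem (R.mul_mem hvR hv1R) hv2R
  have hwK : w ∈ K := by
    refine h.fixed_mem (O.loc.two.to_le inf_le_left) Nat.prime_three (by norm_num) hxo (hKn x hxM)
      (hKn w (O.loc.le hwR)) (two_of_mem O.loc.two hwR) ?_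
    have hxxx : x * x * x = 1 := by rw [← pow_three', ← hxo, pow_orderOf_eq_one]
    have hx3 : x * v₂' * x⁻¹ = v := by
      simp only [v₂', v₁']
      rw [show x * (x * (x * v * x⁻¹) * x⁻¹) * x⁻¹ = (x * x * x) * v * (x * x * x)⁻¹ by group, hxxx]
      group
    have e1 : x * w * x⁻¹ = v₁' * v₂' * v := by
      rw [hwdef, show x * (v * v₁' * v₂') * x⁻¹ = (x * v * x⁻¹) * (x * v₁' * x⁻¹) * (x * v₂' * x⁻¹) by group, hx3]
    have e2 : x * w * x⁻¹ * w⁻¹ = v⁻¹ * cm w v * v := by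
      rw [e1, hwdef]; simp only [cm]; group
    rw [e2]
    have := nrm_conj (hKn _ (inv_mem (O.loc.le hvR))) (hfK w hwR)
    rwa [inv_inv] at this
  set C := R ⊓ centralizer ({v} : Set G)
  have hxinv : ∀ e ∈ R, x⁻¹ * e * x ∈ R := fun e he => by simpa using O.loc.conjR (inv_mem hxM) he
  have hxC : ∀ e ∈ C, x⁻¹ * e * x ∈ C := by
    intro e he
    have heR : e ∈ R := he.1
    have hev : cm e v = 1 := cm_eq_one.2 (mem_centralizer_singleton_iff.1 he.2)
    obtain ⟨w₁, hw₁, hc1⟩ := hx1 _ (hfW _ (hxinv e heR))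
    obtain ⟨w₂', hw₂', hc2'⟩ := hx1 _ (hfW _ (hxinv _ (hxinv e heR)))
    obtain ⟨w₂, hw₂, hc2⟩ := hx2 _ hw₂'
    have e1 : cm e v₁' = k * w₁ * k⁻¹ := by rw [← hc1]; simp only [hv1def, cm]; group
    have e2 : cm e v₂' = (a * k) * w₂ * (a * k)⁻¹ := by
      rw [← hc2, ← hc2']; simp only [hv2def, hv1def, cm]; group
    have hakM : a * k ∈ M := M.mul_mem (O.A_le_M ha) hk
    have h2V : (a * k) * w₂ * (a * k)⁻¹ ∈ omega R := O.loc.omega_normal hakM (O.W_le_V hw₂)
    have hew : cm e w = 1 := cm_eq_one.2 (mem_centralizer_iff.1 hwK.2 e heR)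
    have h12 : cm e v₁' * cm e v₂' = 1 := by
      have e3 : cm e w = cm e v * (v * (cm e v₁' * (v₁' * cm e v₂' * v₁'⁻¹)) * v⁻¹) := by
        simp only [hwdef, cm]; group
      have hc : v₁' * cm e v₂' * v₁'⁻¹ = cm e v₂' := by
        rw [e2, (O.commR h2V hv1R).eq, mul_inv_cancel_right]
      rw [hev, hc, one_mul, hew] at e3
      exact conj_eq_one_iff.1 e3.symm
    rw [e1, e2] at h12
    have hw₁1 : w₁ = 1 := by
      by_contra hne1
      have h5 : (k⁻¹ * (a * k)) * w₂ * (k⁻¹ * (a * k))⁻¹ ∈ W := by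
        rw [show (k⁻¹ * (a * k)) * w₂ * (k⁻¹ * (a * k))⁻¹ = k⁻¹ * ((a * k) * w₂ * (a * k)⁻¹) * k by group,
          eq_inv_of_mul_eq_one_right h12, show k⁻¹ * (k * w₁ * k⁻¹)⁻¹ * k = w₁⁻¹ by group]
        exact inv_mem hw₁
      have h6 : w₂ ≠ 1 := fun e6 => hne1 (by
        rw [e6] at h12
        simpa using h12)
      refine haR (O.fix_point h hk hkN ha ?_)
      simpa [mul_assoc] using O.ti h (M.mul_mem (inv_mem hk) hakM) hw₂ h6 h5
    refine ⟨hxinv e heR, mem_centralizer_singleton_iff.2 ?_⟩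
    have h7 : cm e v₁' = 1 := by rw [e1, hw₁1]; simp
    have h8 : x * cm (x⁻¹ * e * x) v * x⁻¹ = 1 := by rw [← h7]; simp only [hv1def, cm]; group
    exact (cm_eq_one.1 (conj_eq_one_iff.1 h8)).eq
  have hxC' : x ∈ normalizer (C : Set G) := by
    rw [← inv_mem_iff]
    exact mem_nrm fun e he => by rw [inv_inv]; exact hxC e he
  let D : Subgroup G :=
    { carrier := {g | g ∈ M ∧ g ∈ normalizer (C : Set G) ∧ ∀ e ∈ R, cm g e ∈ C}
      one_mem' := ⟨one_mem _, one_mem _, fun e _ => by simp [cm]⟩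
      mul_mem' := by
        rintro g g' ⟨hg, hgC, hgc⟩ ⟨hg', hg'C, hg'c⟩
        refine ⟨M.mul_mem hg hg', mul_mem hgC hg'C, fun e he => ?_⟩
        rw [show cm (g * g') e = g * cm g' e * g⁻¹ * cm g e by simp only [cm]; group]
        exact C.mul_mem (nrm_conj hgC (hg'c e he)) (hgc e he)
      inv_mem' := by
        rintro g ⟨hg, hgC, hgc⟩
        refine ⟨inv_mem hg, inv_mem hgC, fun e he => ?_⟩
        rw [show cm g⁻¹ e = (cm g (g⁻¹ * e * g))⁻¹ by simp only [cm]; group]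
        exact inv_mem (hgc _ (by simpa using O.loc.conjR (inv_mem hg) he)) }
  have hTD : ∀ t ∈ T, t ∈ D := by
    intro t ht
    have hcmC : ∀ e ∈ R, cm t e ∈ C := fun e he => by
      refine ⟨R.mul_mem (O.loc.conjR (O.le ht) he) (inv_mem he), mem_centralizer_singleton_iff.2 ?_⟩
      refine (cm_eq_one.1 ?_).eq
      rw [show cm (cm t e) v = (t * e * t⁻¹) * cm e⁻¹ v * (t * e * t⁻¹)⁻¹ * cm (t * e * t⁻¹) v by
        simp only [cm]; group, hfinv t ht e he,
        (hvT e⁻¹ (hRT (inv_mem he)) _ (O.loc.conjR (O.le ht) he)).eq, mul_inv_cancel_right]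
      have h9 : e⁻¹ * cm e v * e⁻¹⁻¹ * cm e⁻¹ v = 1 := by simp only [cm]; group
      rw [(hvT e (hRT he) _ (inv_mem he)).eq, mul_inv_cancel_right] at h9
      rw [(hvT e⁻¹ (hRT (inv_mem he)) _ (hfR e he)).eq] at h9
      exact h9
    refine ⟨O.le ht, mem_nrm fun c hc => ?_, hcmC⟩
    simpa [cm] using C.mul_mem (hcmC c hc.1) hc
  set b := x * a * x⁻¹ with hbdef
  have haD : a ∈ D := hTD a (O.leA ha)
  have hbD : b ∈ D := by
    obtain ⟨-, haC, hac⟩ := haD
    refine ⟨M.mul_mem (M.mul_mem hxM (O.A_le_M ha)) (inv_mem hxM), mul_mem (mul_mem hxC' haC) (inv_mem hxC'),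
      fun e he => ?_⟩
    rw [show cm b e = x * cm a (x⁻¹ * e * x) * x⁻¹ by simp only [hbdef, cm]; group]
    exact nrm_conj hxC' (hac _ (hxinv e he))
  have hP : closure {a, b} ≤ D := (closure_le _).2 (by
    rintro y (rfl | rfl)
    exacts [haD, hbD])
  by_cases hall : ∀ y ∈ closure {a, b}, Two y
  · have hp : IsPGroup 2 ↥(closure {a, b}) := IsPGroup.iff_orderOf.2 fun y => by
      obtain ⟨i, hi⟩ := hall y y.2
      exact ⟨i, by rwa [← orderOf_coe]⟩
    have hPM : closure {a, b} ≤ M := fun y hy => (hP hy).1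
    have hp' : IsPGroup 2 ↥(closure {a, b} ⊔ R) :=
      hp.to_sup_of_normal_right' O.loc.two (hPM.trans O.loc.norm.ge)
    obtain ⟨u, hu, hu1, huP⟩ := exists_fixed hp' ((omega_le R).trans le_sup_right)
      (omega_ne_bot O.loc.two O.loc.ne) fun p hp v hv =>
        O.cm_mem ((sup_le hPM O.loc.le : closure {a, b} ⊔ R ≤ M) hp) hv
    have huW := O.fix a ha haR u hu (huP a (mem_sup_left (subset_closure (Or.inl rfl))))
    have huW' : x⁻¹ * u * x ∈ W := by
      refine O.fix a ha haR _ (by simpa using O.loc.omega_normal (inv_mem hxM) hu) ?_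
      simpa [hbdef, mul_assoc] using
        (huP b (mem_sup_left (subset_closure (Or.inr rfl)))).map (MulAut.conj x⁻¹).toMonoidHom
    refine hxN (O.ti h hxM huW' (fun e => hu1 ?_) (by simpa [mul_assoc] using huW))
    simpa [mul_assoc] using congrArg (MulAut.conj x) e
  · push Not at hall
    obtain ⟨y, hy, hy2⟩ := hall
    obtain ⟨p, n, hp, hp2, hn⟩ := exists_odd_prime hy2
    obtain ⟨-, hyC, hyc⟩ := D.pow_mem (hP hy) n
    refine hr₀v (mem_centralizer_singleton_iff.1 (h.fixed_mem (O.loc.two.to_le inf_le_left) hp hp2 hn hyC ?_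
      (two_of_mem O.loc.two hr₀) (hyc r₀ hr₀)).2)
    exact (hTD r₀ (hRT hr₀)).2.1

omit L' hne hTR' in
/-- the involutions of the maximal 2-subgroup, for elementary `R` -/
theorem elem_cases (hRV : R = omega R) {B : Subgroup G} (hBT : B ≤ T) (hB : Elem B) : B ≤ R ∨ B ≤ A := by
  have inv_cases : ∀ y ∈ B, y ∈ R ∨ y ∈ A := by
    intro y hy
    obtain ⟨a, ha, r, hr, rfl⟩ := O.T_decomp h (hBT hy)
    by_cases haR : a ∈ R
    · exact Or.inl (R.mul_mem haR hr)
    have hrV : r ∈ omega R := hRV ▸ hr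
    refine Or.inr (A.mul_mem ha (O.W_le_A (O.fix a ha haR r hrV (cm_eq_one.1 ?_))))
    have h1 := hB _ hy
    rw [show cm a r = a * r * (a⁻¹ * r⁻¹) by simp only [cm]; group, O.elem.inv ha, (elem_omega R).inv hrV]
    exact h1
  by_contra hcon
  push Not at hcon
  obtain ⟨y, hy, hyR⟩ := SetLike.not_le_iff_exists.1 hcon.1
  obtain ⟨z, hz, hzA⟩ := SetLike.not_le_iff_exists.1 hcon.2
  have hyA := (inv_cases y hy).resolve_left hyR
  have hzR := (inv_cases z hz).resolve_right hzA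
  rcases inv_cases _ (B.mul_mem hy hz) with e | e
  · exact hyR (by simpa using R.mul_mem e (inv_mem hzR))
  · exact hzA (by simpa using A.mul_mem (inv_mem hyA) e)

/-- An offending subgroup makes a four-group or a plane. -/
theorem amalgam_off :
    (∃ V : Subgroup G, Nat.card ↥V = 4 ∧ (∀ v ∈ V, v * v = 1) ∧ centralizer (V : Set G) = V) ∨
      ∃ M V M' A T W : Subgroup G, Flag M V M' A T W := by
  classical
  have hRV := O.omega_eq h L' hne hTR'
  have hRe : Elem R := hRV ▸ elem_omega R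
  have hAcard : Nat.card ↥A = Nat.card ↥R := by
    have h1 := O.cardA
    rw [show A ⊓ R = W by rw [O.eqW, ← hRV]] at h1
    rw [h1, ← O.card, ← hRV]
  have hoff' : Offending R' T := by
    by_contra hno
    refine hTR' fun t ht => ?_
    have hA' : A ≤ R' := by_contra fun hh => hno ⟨A, O.leA, O.elem, O.maxA, hh⟩
    have hR' : R ≤ R' := by_contra fun hh =>
      hno ⟨R, O.toSetup.le_T, hRe, fun B hB hBe => (O.maxA B hB hBe).trans hAcard.le, hh⟩
    obtain ⟨a, ha, r, hr, rfl⟩ := O.T_decomp h ht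
    exact R'.mul_mem (hA' ha) (hR' hr)
  obtain ⟨A', W', O'⟩ := exists_off h L' hoff'
  obtain ⟨a₁, ha₁, ha₁R⟩ := O.out
  have hTR : ¬ T ≤ R := fun hh => ha₁R (hh (O.leA ha₁))
  have hR'V := O'.omega_eq h O.toSetup hne.symm hTR
  have hR'e : Elem R' := hR'V ▸ elem_omega R'
  have hR'A : R' = A := by
    rcases O.elem_cases h hRV L'.le_T hR'e with e | e
    · exfalso
      have hRR' : R ≤ R' := fun r hr => L'.cent_omega h (L'.le (O.toSetup.le_T hr))
        fun u hu => hRe.comm hr (e (omega_le R' hu))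
      exact hne (MaxLocal.eq_of_eq O.loc (le_antisymm hRR' e ▸ L'.loc))
    · exact le_antisymm e fun a ha => L'.cent_omega h (L'.le (O.leA ha))
        fun u hu => O.elem.comm ha (e (omega_le R' hu))
  subst hR'A
  obtain ⟨a', ha', ha'R⟩ := O'.out
  have hA'R : A' = R := by
    rcases O.elem_cases h hRV O'.leA O'.elem with e | e
    · exact eq_of_le_of_card_ge e (O'.maxA R O.toSetup.le_T hRe)
    · exact absurd (e ha') ha'R
  subst hA'R
  have hWW : W' = W := by
    rw [O'.eqW, O.eqW, omega_eq_of_elem O.elem, omega_eq_of_elem hRe, inf_comm]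
  subst hWW
  obtain ⟨k, hk, hkN⟩ := O.exists_point h
  have hcube : ∀ g ∈ base M W' k, g * g * g ∈ A' := by
    intro g hg
    obtain ⟨hgN, hgk⟩ := mem_base.1 hg
    have hgA : ∀ a ∈ R', g * a * g⁻¹ ∈ R' := by
      have hle : R'.map (MulAut.conj g).toMonoidHom ≤ T := by
        rintro _ ⟨a, ha, rfl⟩
        exact O.stab_nrm h hgN (O.leA ha)
      have hel : Elem (R'.map (MulAut.conj g).toMonoidHom) := by
        rintro _ ⟨a, ha, rfl⟩
        rw [← map_mul, O.elem a ha, map_one]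
      rcases O.elem_cases h hRV hle hel with e | e
      · exfalso
        refine ha₁R ?_
        have h1 := e ⟨a₁, ha₁, rfl⟩
        simpa [mul_assoc] using O.loc.conjR (inv_mem hgN.1) h1
      · exact fun a ha => e ⟨a, ha, rfl⟩
    have hgN' : g ∈ stab M' W' := ⟨O'.loc.norm ▸ mem_nrm hgA, hgN.2⟩
    have hgg : g * g * g ∈ base M W' k := mul_mem (mul_mem hg hg) hg
    obtain ⟨w₀, hw₀, hw₀1⟩ := O.exists_mem_W
    suffices hall : ∀ w ∈ W', Commute (g * g * g) w from O.fpf h hk hkN hgg hw₀ hw₀1 (hall w₀ hw₀)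
    intro w hw
    obtain ⟨v, hv, hvw⟩ := O.surjV a₁ ha₁ ha₁R w hw
    have hvR : v ∈ A' := omega_le A' hv
    have hga : g * a₁ * g⁻¹ ∈ R' := hgA a₁ ha₁
    have hcc : ∀ a ∈ R', ∀ y ∈ omega A', cm y a = cm a y := fun a ha y hy => by
      have hc := O.W_le_A (O.cmW a ha y hy)
      have : cm y a = (cm a y)⁻¹ := by simp only [cm]; group
      rw [this, O.elem.inv hc]
    have k2 := O'.key h hgN' hvR (show a₁ ∈ omega R' by rw [omega_eq_of_elem O.elem]; exact ha₁)
    rw [hcc _ hga v hv, hcc _ ha₁ v hv, hvw] at k2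
    have k1 := O.key h hgN hga hv
    have e0 : g * w * g⁻¹ = cm (g * a₁ * g⁻¹) (g * v * g⁻¹) := by rw [← hvw, cm_conj]
    rw [← e0, k2] at k1
    show g * g * g * w = w * (g * g * g)
    calc g * g * g * w = g * g * (g * w * g⁻¹) * g := by group
      _ = g * g * (g⁻¹ * (g⁻¹ * w * g) * g) * g := by rw [k1]
      _ = w * (g * g * g) := by group
  -- the count
  have hq : Nat.card ↥W' ≤ 4 := by
    have hWA : W' ≤ R' := O.W_le_A
    have hc0 : ∀ u ∈ R', u ∈ A' → u ∈ W' := fun u hu huR => by rw [O.eqW, ← hRV]; exact ⟨hu, huR⟩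
    obtain ⟨z, hz, hzR⟩ | hno := em (∃ z ∈ base M W' k, z ∉ A')
    swap
    · push Not at hno
      have hcls : ∀ a ∈ R', a ∉ A' → a * a₁⁻¹ ∈ W' := by
        intro a ha haR
        obtain ⟨g, hg, hga⟩ := O.conj_elem h hk hkN ha₁ ha₁R ha haR
        refine hc0 _ (R'.mul_mem ha (inv_mem ha₁)) ?_
        have hgR := hno g hg
        rw [show a * a₁⁻¹ = (g * a₁ * g⁻¹ * a⁻¹)⁻¹ * (g * (a₁ * g⁻¹ * a₁⁻¹)) by group]
        exact mul_mem (inv_mem hga) (mul_mem hgR (O.loc.conjR (O.A_le_M ha₁) (inv_mem hgR)))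
      let f : ↥R' → ↥W' × Bool := fun a => if ha : (a : G) ∈ A' then (⟨a, hc0 _ a.2 ha⟩, false)
        else (⟨_, hcls a a.2 ha⟩, true)
      have hf : Function.Injective f := fun a b e => by
        simp only [f] at e
        split_ifs at e with ha hb hb <;> simp only [Prod.mk.injEq, Subtype.mk.injEq, Bool.false_eq_true,
          Bool.true_eq_false, and_false, and_true] at e
        · exact Subtype.ext e
        · exact Subtype.ext (mul_right_cancel e)
      have h1 := Nat.card_le_card_of_injective f hf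
      rw [Nat.card_prod, Nat.card_eq_fintype_card (α := Bool), Fintype.card_bool, O.cardA,
        show R' ⊓ A' = W' by rw [O.eqW, ← hRV]] at h1
      have := Nat.le_of_mul_le_mul_left h1 Nat.card_pos
      omega
    set c : Fin 3 → G := fun i => z ^ (i : ℕ) * a₁ * (z ^ (i : ℕ))⁻¹ with hcdef
    have hcls : ∀ a ∈ R', a ∉ A' → ∃ i, a * (c i)⁻¹ ∈ A' := by
      intro a ha haR
      obtain ⟨g, hg, hga⟩ := O.conj_elem h hk hkN ha₁ ha₁R ha haR
      have hm : ∀ g' : G, g' ∈ base M W' k → ∀ i : Fin 3, g * (g')⁻¹ ∈ A' → g' = z ^ (i : ℕ) →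
          a * (c i)⁻¹ ∈ A' := by
        intro g' hg' i hr e
        subst e
        set u := g * (z ^ (i : ℕ))⁻¹ with hu
        rw [show a * (c i)⁻¹ = (g * a₁ * g⁻¹ * a⁻¹)⁻¹ * (u * (c i * u⁻¹ * (c i)⁻¹)) by
          simp only [hu, hcdef]; group]
        refine mul_mem (inv_mem hga) (mul_mem hr (O.loc.conjR ?_ (inv_mem hr)))
        exact M.mul_mem (M.mul_mem (mem_base.1 hg').1.1 (O.A_le_M ha₁)) (inv_mem (mem_base.1 hg').1.1)
      have hz3 := hcube z hz
      rcases O.cube_classes h hk hkN hcube hz hzR hg with e | e | e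
      · exact ⟨0, hm 1 (one_mem _) 0 (by simpa using e) (by simp)⟩
      · refine ⟨2, hm (z ^ 2) (pow_mem hz 2) 2 ?_ rfl⟩
        have h5 := mul_mem (O.loc.conjR (inv_mem (mem_base.1 hz).1.1) e) (inv_mem hz3)
        rw [inv_inv] at h5
        rw [show g * (z ^ 2)⁻¹ = z⁻¹ * (z * g) * z * (z * z * z)⁻¹ by rw [pow_two]; group]
        exact h5
      · refine ⟨1, hm (z ^ 1) (pow_mem hz 1) 1 ?_ rfl⟩
        have hzz : z * z ∈ M := M.mul_mem (mem_base.1 hz).1.1 (mem_base.1 hz).1.1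
        have h5 := mul_mem (O.loc.conjR (inv_mem hzz) e) (inv_mem hz3)
        rw [inv_inv] at h5
        rw [pow_one, show g * z⁻¹ = (z * z)⁻¹ * (z * z * g) * (z * z) * (z * z * z)⁻¹ by group]
        exact h5
    choose idx hidx using fun a : {a : ↥R' // (a : G) ∉ A'} => hcls a.1 a.1.2 a.2
    have hrep : ∀ i, ∀ a b : {a : ↥R' // (a : G) ∉ A'}, idx a = i → idx b = i → ((a.1 : G)) * (b.1 : G)⁻¹ ∈ W' := by
      intro i a b ha hb
      refine hc0 _ (R'.mul_mem a.1.2 (inv_mem b.1.2)) ?_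
      have := A'.mul_mem (hidx a) (inv_mem (hidx b))
      rw [ha, hb] at this
      simpa [mul_assoc] using this
    let r : Fin 3 → ↥R' := fun i => if hi : ∃ a, idx a = i then hi.choose.1 else 1
    have hr : ∀ a : {a : ↥R' // (a : G) ∉ A'}, (a.1 : G) * (r (idx a) : G)⁻¹ ∈ W' := fun a => by
      have hi : ∃ b, idx b = idx a := ⟨a, rfl⟩
      simp only [r, dif_pos hi]
      exact hrep (idx a) a hi.choose rfl hi.choose_spec
    let f : ↥R' → ↥W' × Option (Fin 3) := fun a => if ha : (a : G) ∈ A' then (⟨a, hc0 _ a.2 ha⟩, none)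
      else (⟨_, hr ⟨a, ha⟩⟩, some (idx ⟨a, ha⟩))
    have hf : Function.Injective f := fun a b e => by
      simp only [f] at e
      split_ifs at e with ha hb hb <;> simp only [Prod.mk.injEq, Subtype.mk.injEq, reduceCtorEq, and_false,
        and_true, Option.some.injEq] at e
      · exact Subtype.ext e
      · rw [e.2] at e
        exact Subtype.ext (mul_right_cancel e.1)
    have h1 := Nat.card_le_card_of_injective f hf
    rw [Nat.card_prod, Nat.card_eq_fintype_card (α := Option (Fin 3)), Fintype.card_option, Fintype.card_fin,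
      O.cardA, show R' ⊓ A' = W' by rw [O.eqW, ← hRV]] at h1
    exact Nat.le_of_mul_le_mul_left h1 Nat.card_pos
  obtain ⟨n, hn⟩ := IsPGroup.iff_card.1 (O.two.to_le (O.W_le_A.trans O.leA))
  have h1 := O.one_lt
  rcases n with _ | _ | _ | n
  · rw [hn] at h1; norm_num at h1
  · left
    refine ⟨A', ?_, hRe, le_antisymm ?_ ?_⟩
    · rw [hRV, O.card, hn]; norm_num
    · intro c hc
      have hcM : c ∈ M := O.loc.norm ▸ centralizer_le_normalizer _ hc
      exact O.toSetup.cent_omega h hcM fun v hv => (mem_centralizer_iff.1 hc v (omega_le A' hv)).symm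
    · exact fun v hv => mem_centralizer_iff.2 fun u hu => (hRe.comm hu hv).eq
  · exact Or.inr ⟨M, A', M', R', T, W', O, O', hRe, hne, hn⟩
  · rw [hn] at hq
    have : 2 ^ 3 ≤ 2 ^ (n + 3) := Nat.pow_le_pow_right (by norm_num) (by omega)
    rw [show n + 1 + 1 + 1 = n + 3 from rfl] at hq
    omega

end Off

/-- **Amalgam.** Two maximal local subgroups with a common maximal 2-subgroup. -/
theorem amalgam (h : CIT G) {M R M' R' T : Subgroup G} (L : Setup M R T) (L' : Setup M' R' T) (hne : M ≠ M')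
    (hTR : ¬ T ≤ R) (hTR' : ¬ T ≤ R') :
    (∃ V : Subgroup G, Nat.card ↥V = 4 ∧ (∀ v ∈ V, v * v = 1) ∧ centralizer (V : Set G) = V) ∨
      ∃ M V M' A T W : Subgroup G, Flag M V M' A T W := by
  classical
  by_cases hoff : Offending R T
  · obtain ⟨A, W, O⟩ := exists_off h L hoff
    exact O.amalgam_off h L' hne hTR'
  by_cases hoff' : Offending R' T
  · obtain ⟨A, W, O⟩ := exists_off h L' hoff'
    exact O.amalgam_off h L hne.symm hTR
  exfalso
  set S := {A : Subgroup G | A ≤ T ∧ Elem A ∧ ∀ B : Subgroup G, B ≤ T → Elem B → Nat.card ↥B ≤ Nat.card ↥A}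
  set J := sSup S
  have inR : ∀ {M R : Subgroup G}, Setup M R T → ¬ Offending R T → J ≤ R ∧ M ≤ normalizer (J : Set G) := by
    intro M R L hno
    have hle : ∀ A ∈ S, A ≤ R := fun A hA => by_contra fun hh => hno ⟨A, hA.1, hA.2.1, hA.2.2, hh⟩
    refine ⟨sSup_le hle, fun g hg => mem_nrm fun v hv => ?_⟩
    have hmap : J.map (MulAut.conj g).toMonoidHom ≤ J := by
      refine map_le_iff_le_comap.2 (sSup_le fun A hA => map_le_iff_le_comap.1 (le_sSup ⟨?_, ?_, ?_⟩))
      · rintro _ ⟨x, hx, rfl⟩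
        exact L.le_T (L.loc.conjR hg (hle A hA hx))
      · rintro _ ⟨x, hx, rfl⟩
        simpa [mul_assoc] using congrArg (MulAut.conj g) (hA.2.1 x hx)
      · intro B hB hBe
        rw [card_map_of_injective (MulAut.conj g).injective]
        exact hA.2.2 B hB hBe
    exact hmap ⟨v, hv, rfl⟩
  obtain ⟨hJR, hJM⟩ := inR L hoff
  obtain ⟨-, hJM'⟩ := inR L' hoff'
  obtain ⟨A, ⟨hAT, hA⟩, hmax⟩ := Set.exists_max_image {A : Subgroup G | A ≤ T ∧ Elem A}
    (fun A => Nat.card ↥A) (Set.toFinite _) ⟨omega R, L.V_T, elem_omega R⟩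
  have hJ : J ≠ ⊥ := fun e => by
    have h1 : Nat.card ↥(omega R) ≤ Nat.card ↥A := hmax _ ⟨L.V_T, elem_omega R⟩
    have h2 : A ≤ J := le_sSup ⟨hAT, hA, fun B hB hBe => hmax B ⟨hB, hBe⟩⟩
    rw [(eq_bot_iff.2 (e ▸ h2) : A = ⊥), card_bot] at h1
    exact omega_ne_bot L.loc.two L.loc.ne (eq_bot_of_card_le _ h1)
  exact hne ((L.loc.max J (L.loc.two.to_le hJR) hJ hJM).symm.trans (L'.loc.max J (L.loc.two.to_le hJR) hJ hJM'))

end Cfsg.Lib.CITGroups
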