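import Cfsg.Agent.PrimePowerOrders.Amalgam
import Cfsg.Agent.Quadratic.BaerSuzuki

/-!
Groups in which the centraliser of every involution is a 2-group: inheritance, and elements of odd order.
-/

set_option autoImplicit false
set_option linter.unusedSectionVars false
set_option linter.style.haveILetI false

namespace Cfsg.Lib.CITGroups

open Subgroup Cfsg.Lib.PrimePowerOrders

/-- the centraliser of every involution is a 2-group -/
def CIT (G : Type*) [Group G] : Prop :=
  ∀ t : G, orderOf t = 2 → IsPGroup 2 ↥(centralizer ({t} : Set G))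

variable {G : Type*} [Group G] [Finite G]

/-- being of order a power of two -/
def Two (g : G) : Prop := ∃ k, orderOf g = 2 ^ k

theorem two_of_mem {P : Subgroup G} (hP : IsPGroup 2 ↥P) {g : G} (hg : g ∈ P) : Two g := by
  obtain ⟨k, hk⟩ := IsPGroup.iff_orderOf.1 hP ⟨g, hg⟩
  exact ⟨k, by rwa [orderOf_mk] at hk⟩

theorem eq_one_of_two_odd {g : G} (h2 : Two g) (ho : Odd (orderOf g)) : g = 1 := by
  obtain ⟨k, hk⟩ := h2
  rcases k with _ | k
  · exact orderOf_eq_one_iff.1 (by simpa using hk)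
  · rw [hk, pow_succ, mul_comm] at ho
    exact absurd ho (Nat.not_odd_iff_even.2 (even_two_mul _))

/-- an element which is not a 2-element has a power of odd prime order -/
theorem exists_odd_prime {g : G} (hg : ¬ Two g) :
    ∃ (p n : ℕ), p.Prime ∧ p ≠ 2 ∧ orderOf (g ^ n) = p := by
  obtain ⟨p, hp, hd, hne⟩ : ∃ p, p.Prime ∧ p ∣ orderOf g ∧ p ≠ 2 := by
    by_contra hcon
    push Not at hcon
    exact hg ⟨_, Nat.eq_prime_pow_of_unique_prime_dvd (orderOf_pos g).ne' fun {p} hp hd => hcon p hp hd⟩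
  exact ⟨p, orderOf g / p, hp, hne, orderOf_pow_orderOf_div (orderOf_pos g).ne' hd⟩

variable (h : CIT G)
include h

/-- An element of odd prime order commutes with no nontrivial 2-element. -/
theorem CIT.comm_two {x s : G} {p : ℕ} (hp : p.Prime) (hp2 : p ≠ 2) (hx : orderOf x = p) (hs : Two s)
    (hc : Commute x s) : s = 1 := by
  by_contra hs1
  obtain ⟨k, hk⟩ := hs
  rcases k with _ | k
  · exact hs1 (orderOf_eq_one_iff.1 (by simpa using hk))
  set i := s ^ (orderOf s / 2)
  have hi : orderOf i = 2 := orderOf_pow_orderOf_div (orderOf_pos s).ne' (hk ▸ dvd_pow_self 2 k.succ_ne_zero)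
  obtain ⟨j, hj⟩ := IsPGroup.iff_orderOf.1 (h i hi)
    ⟨x, mem_centralizer_singleton_iff.2 (hc.pow_right _).eq⟩
  rw [orderOf_mk, hx] at hj
  exact hp2 ((Nat.prime_dvd_prime_iff_eq hp Nat.prime_two).1 (hp.dvd_of_dvd_pow (dvd_of_eq hj)))

/-- A nontrivial 2-element is centralised only by 2-elements. -/
theorem CIT.two_of_comm {g s : G} (hs : Two s) (hs1 : s ≠ 1) (hc : Commute g s) : Two g := by
  by_contra hg
  obtain ⟨p, n, hp, hp2, hn⟩ := exists_odd_prime hg
  exact hs1 (h.comm_two hp hp2 hn hs (hc.pow_left n))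

/-- The centraliser of a nontrivial 2-element is a 2-group. -/
theorem CIT.isPGroup_centralizer {s : G} (hs : Two s) (hs1 : s ≠ 1) :
    IsPGroup 2 ↥(centralizer ({s} : Set G)) := by
  rw [IsPGroup.iff_orderOf]
  rintro ⟨g, hg⟩
  rw [orderOf_mk]
  exact h.two_of_comm hs hs1 (mem_centralizer_singleton_iff.1 hg)

theorem CIT.subgroup (H : Subgroup G) : CIT ↥H := by
  intro t ht
  haveI : Fact (Nat.Prime 2) := ⟨Nat.prime_two⟩
  rw [IsPGroup.iff_orderOf]
  rintro ⟨g, hg⟩
  rw [orderOf_mk, ← orderOf_coe g]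
  exact h.two_of_comm (s := (t : G)) ⟨1, by rw [orderOf_coe, ht, pow_one]⟩
    (fun e => by rw [← orderOf_coe, e, orderOf_one] at ht; omega)
    (congrArg Subtype.val (mem_centralizer_singleton_iff.1 hg))

/-- The property passes to quotients by normal 2-subgroups. -/
theorem CIT.quotient (N : Subgroup G) [N.Normal] (hN : IsPGroup 2 ↥N) : CIT (G ⧸ N) := by
  intro t ht
  rw [IsPGroup.iff_orderOf]
  rintro ⟨c, hc⟩
  rw [orderOf_mk]
  by_contra hct
  obtain ⟨p, n, hp, hp2, hn⟩ := exists_odd_prime hct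
  have hct' : Commute c t := mem_centralizer_singleton_iff.1 hc
  have hcomm : Commute (c ^ n) t := hct'.pow_left n
  haveI := Fact.mk hp
  obtain ⟨d, hd⟩ := QuotientGroup.mk'_surjective N (c ^ n)
  obtain ⟨t₀, rfl⟩ := QuotientGroup.mk'_surjective N t
  set π := QuotientGroup.mk' N
  have hpd : p ∣ orderOf d := hn ▸ hd ▸ orderOf_map_dvd π d
  set m := orderOf d / p
  set d' := d ^ m
  have hd' : orderOf d' = p := orderOf_pow_orderOf_div (orderOf_pos d).ne' hpd
  have hnorm : ∀ v : G, π v = π t₀ → π (d' * v * d'⁻¹) = π t₀ := fun v hv => by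
    rw [map_mul, map_mul, map_inv, hv, map_pow, hd, (hcomm.pow_left m).eq, mul_inv_cancel_right]
  letI : MulAction ↥(zpowers d') {v : G // π v = π t₀} :=
    { smul := fun g v => ⟨(g : G) * v * (g : G)⁻¹, by
        obtain ⟨i, hi⟩ := mem_powers_iff_mem_zpowers.2 g.2
        rw [← hi]
        show π (d' ^ i * v * (d' ^ i)⁻¹) = π t₀
        clear hi
        induction i with
        | zero => simpa using v.2
        | succ i ih =>
          rw [show d' ^ (i + 1) * (v : G) * (d' ^ (i + 1))⁻¹ = d' * (d' ^ i * v * (d' ^ i)⁻¹) * d'⁻¹ by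
            rw [pow_succ']; group]
          exact hnorm _ ih⟩
      one_smul := fun v => Subtype.ext (by show ((1 : ↥(zpowers d')) : G) * v * _ = v; simp)
      mul_smul := fun g g' v => Subtype.ext (by
        show ((g * g' : ↥(zpowers d')) : G) * v * ((g * g' : ↥(zpowers d')) : G)⁻¹ =
          g * (g' * v * (g' : G)⁻¹) * (g : G)⁻¹
        push_cast
        group) }
  have hP : IsPGroup p ↥(zpowers d') := IsPGroup.of_card (n := 1) (by rw [Nat.card_zpowers, hd', pow_one])
  have hcard : Nat.card {v : G // π v = π t₀} = Nat.card ↥N := by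
    refine Nat.card_congr
      { toFun := fun v => ⟨t₀⁻¹ * v, QuotientGroup.eq.1 v.2.symm⟩
        invFun := fun k => ⟨t₀ * k, by
          show π (t₀ * k) = π t₀
          rw [map_mul, show π (k : G) = 1 from (QuotientGroup.eq_one_iff _).2 k.2, mul_one]⟩
        left_inv := fun v => Subtype.ext (mul_inv_cancel_left _ _)
        right_inv := fun k => Subtype.ext (inv_mul_cancel_left _ _) }
  have hnd : ¬ p ∣ Nat.card {v : G // π v = π t₀} := by
    rw [hcard]
    intro hd2
    obtain ⟨k, hk⟩ := IsPGroup.iff_card.1 hN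
    rw [hk] at hd2
    exact hp2 ((Nat.prime_dvd_prime_iff_eq hp Nat.prime_two).1 (hp.dvd_of_dvd_pow hd2))
  obtain ⟨⟨s, hs⟩, hsfix⟩ := hP.nonempty_fixed_point_of_prime_not_dvd_card _ hnd
  have hcs : Commute d' s := by
    have e : d' * s * d'⁻¹ = s := congrArg Subtype.val (hsfix ⟨d', mem_zpowers d'⟩)
    exact mul_inv_eq_iff_eq_mul.1 e
  have hs2 : s * s ∈ N := by
    refine (QuotientGroup.eq_one_iff _).1 ?_
    show π (s * s) = 1
    rw [map_mul, hs, ← pow_two, ← ht, pow_orderOf_eq_one]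
  have hs' : Two s := by
    by_contra hns
    obtain ⟨r, i, hr, hr2, hri⟩ := exists_odd_prime hns
    obtain ⟨k, hk⟩ := two_of_mem hN (N.pow_mem hs2 i)
    rw [← pow_two, ← pow_mul, mul_comm, pow_mul, orderOf_pow' _ two_ne_zero, hri,
      ((Nat.coprime_primes hr Nat.prime_two).2 hr2).gcd_eq_one, Nat.div_one] at hk
    exact hr2 ((Nat.prime_dvd_prime_iff_eq hr Nat.prime_two).1 (hr.dvd_of_dvd_pow (dvd_of_eq hk)))
  have hs1 : s = 1 := h.comm_two hp hp2 hd' hs' hcs
  rw [hs1, map_one] at hs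
  rw [← hs, orderOf_one] at ht
  omega

/-- An element of odd prime order fixes no nontrivial coset of a 2-subgroup it normalises. -/
theorem CIT.fixed_mem {K : Subgroup G} (hK : IsPGroup 2 ↥K) {x w : G} {p : ℕ} (hp : p.Prime) (hp2 : p ≠ 2)
    (hx : orderOf x = p) (hxn : x ∈ normalizer (K : Set G)) (hwn : w ∈ normalizer (K : Set G)) (hw : Two w)
    (hc : x * w * x⁻¹ * w⁻¹ ∈ K) : w ∈ K := by
  set N := normalizer (K : Set G)
  haveI : (K.subgroupOf N).Normal := normal_subgroupOf_of_le_normalizer le_rfl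
  set π := QuotientGroup.mk' (K.subgroupOf N)
  set x' : ↥N := ⟨x, hxn⟩
  set w' : ↥N := ⟨w, hwn⟩
  have hcomm : Commute (π x') (π w') := by
    have h1 : π (x' * w' * x'⁻¹ * w'⁻¹) = 1 := (QuotientGroup.eq_one_iff _).2 hc
    rw [map_mul, map_mul, map_mul, map_inv, map_inv, mul_inv_eq_one, mul_inv_eq_iff_eq_mul] at h1
    exact h1
  have hx1 : orderOf (π x') = p := by
    refine ((Nat.dvd_prime hp).1 ?_).resolve_left fun e => ?_
    · rw [← hx]
      exact (orderOf_map_dvd π x').trans (by rw [← orderOf_coe x'])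
    · have hxK : x ∈ K := (QuotientGroup.eq_one_iff x').1 (orderOf_eq_one_iff.1 e)
      obtain ⟨j, hj⟩ := two_of_mem hK hxK
      rw [hx] at hj
      exact hp2 ((Nat.prime_dvd_prime_iff_eq hp Nat.prime_two).1 (hp.dvd_of_dvd_pow (dvd_of_eq hj)))
  obtain ⟨k, hk⟩ := hw
  have hd : orderOf (π w') ∣ 2 ^ k := hk ▸ (orderOf_map_dvd π w').trans (by rw [← orderOf_coe w'])
  obtain ⟨j, -, hj⟩ := (Nat.dvd_prime_pow Nat.prime_two).1 hd
  have hq : CIT (↥N ⧸ K.subgroupOf N) :=
    (h.subgroup N).quotient _ (hK.comap_of_injective N.subtype N.subtype_injective)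
  exact (QuotientGroup.eq_one_iff w').1 (hq.comm_two hp hp2 hx1 ⟨j, hj⟩ hcomm)

end Cfsg.Lib.CITGroups
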