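import Cfsg.Agent.PrimePowerOrders.StrongEmb
import Cfsg.Agent.InvolCalc.StronglyEmbedded
import Cfsg.Agent.CITGroups.Basic
import Cfsg.Agent.Coprime.SolvableBasics
import Cfsg.Agent.OddLocal.CN
import Cfsg.Agent.OddChar.Zassenhaus.Feit
import Cfsg.Agent.RankOne.StabOrder
import Cfsg.Agent.S0001
import Cfsg.Agent.S0215
import Cfsg.Agent.S1477
import Mathlib.GroupTheory.GroupAction.MultipleTransitivity

/-!
A simple CN-group in which some involution centraliser is not a 2-group does not exist: the maximal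
nilpotent subgroup over the centraliser gives a Zassenhaus group whose kernel is not of prime power order.
-/

set_option autoImplicit false
set_option linter.unusedSectionVars false
set_option linter.style.haveILetI false

namespace Cfsg.Lib.CITGroups

open Subgroup Cfsg.Lib.PrimePowerOrders

variable {G : Type*} [Group G] [Finite G]

/-- a nilpotent subgroup, not of prime power order, with trivial intersections and with all centralisers inside -/
structure CNFrame (M H : Subgroup G) : Prop where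
  nil : Group.IsNilpotent ↥H
  notpp : ¬ IsPrimePow (Nat.card ↥H)
  proper : M ≠ ⊤
  le : H ≤ M
  norm : ∀ m ∈ M, ∀ v ∈ H, m * v * m⁻¹ ∈ H
  ti : ∀ g x : G, x ∈ H → x ≠ 1 → g * x * g⁻¹ ∈ H → g ∈ M
  cent : ∀ x ∈ H, x ≠ 1 → centralizer ({x} : Set G) ≤ H
  hall : (Nat.card ↥H).Coprime H.index
  even : 2 ∣ Nat.card ↥H

namespace CNFrame

variable {M H : Subgroup G} (L : CNFrame M H)
include L

theorem normal : (H.subgroupOf M).Normal := ⟨fun v hv g => L.norm g g.2 v hv⟩

theorem coprime_index : (Nat.card ↥H).Coprime (H.subgroupOf M).index :=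
  L.hall.coprime_dvd_right (relIndex_dvd_index_of_le L.le)

theorem index_odd : Odd (H.subgroupOf M).index := by
  rw [← Nat.not_even_iff_odd, even_iff_two_dvd]
  exact fun hd => (Nat.prime_two.coprime_iff_not_dvd.1 (L.coprime_index.coprime_dvd_left L.even)) hd

theorem index_pos : 0 < (H.subgroupOf M).index := Nat.pos_of_ne_zero Subgroup.index_ne_zero_of_finite

/-- elements of order prime to the index lie in the subgroup -/
theorem mem_of_coprime {v : G} (hv : v ∈ M) (hc : (orderOf v).Coprime (H.subgroupOf M).index) : v ∈ H := by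
  haveI := L.normal
  have h1 : orderOf (QuotientGroup.mk' (H.subgroupOf M) ⟨v, hv⟩) = 1 :=
    Nat.eq_one_of_dvd_coprimes hc
      ((orderOf_map_dvd _ _).trans (by rw [← orderOf_coe (⟨v, hv⟩ : ↥M)]))
      (_root_.orderOf_dvd_natCard _)
  exact (QuotientGroup.eq_one_iff (⟨v, hv⟩ : ↥M)).1 (orderOf_eq_one_iff.1 h1)

theorem inv_mem_H {z : G} (hz : orderOf z = 2) (hzM : z ∈ M) : z ∈ H :=
  L.mem_of_coprime hzM (hz ▸ L.coprime_index.coprime_dvd_left L.even)

theorem ne_one {z : G} (hz : orderOf z = 2) : z ≠ 1 := fun e => by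
  rw [e, orderOf_one] at hz; omega

theorem ti_inv {z g : G} (hz : orderOf z = 2) (hzM : z ∈ M) (hg : g * z * g⁻¹ ∈ M) : g ∈ M :=
  L.ti g z (L.inv_mem_H hz hzM) (L.ne_one hz)
    (L.inv_mem_H (by rw [← MulAut.conj_apply, MulEquiv.orderOf_eq, hz]) hg)

theorem strong : Cfsg.IsStronglyEmbedded M := by
  refine ⟨L.proper, even_iff_two_dvd.2 (L.even.trans (Subgroup.card_dvd_of_le L.le)), fun g hg => ?_⟩
  rw [← Nat.not_even_iff_odd]
  intro he
  obtain ⟨v, hv, hv2⟩ := Cfsg.Lib.StrongEmb.exists_involution_of_even he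
  obtain ⟨hvM, hvg⟩ := mem_inf.1 hv
  obtain ⟨w, hw, rfl⟩ := hvg
  refine hg ?_
  have hw2 : orderOf w = 2 := by rwa [MulEquiv.coe_toMonoidHom, MulEquiv.orderOf_eq] at hv2
  exact L.ti_inv hw2 hw hvM

theorem exists_central : ∃ z ∈ H, orderOf z = 2 ∧ ∀ y ∈ H, Commute z y := by
  haveI := L.nil
  haveI : Fact (Nat.Prime 2) := ⟨Nat.prime_two⟩
  obtain ⟨P⟩ : Nonempty (Sylow 2 ↥H) := inferInstance
  haveI : (P : Subgroup ↥H).Normal :=
    P.normal_of_all_max_subgroups_normal fun K hK => (Group.normalizerCondition_of_isNilpotent (G := ↥H)).normal_of_coatom K hK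
  have hne := Cfsg.Lib.Coprime.inf_center_ne_bot (P : Subgroup ↥H) (P.ne_bot_of_dvd_card L.even)
  haveI : Nontrivial ↥((P : Subgroup ↥H) ⊓ center ↥H) := (nontrivial_iff_ne_bot _).2 hne
  have hp : IsPGroup 2 ↥((P : Subgroup ↥H) ⊓ center ↥H) := P.isPGroup'.to_le inf_le_left
  obtain ⟨z, hz⟩ := exists_prime_orderOf_dvd_card' (G := ↥((P : Subgroup ↥H) ⊓ center ↥H)) 2 (by
    obtain ⟨n, hn⟩ := IsPGroup.iff_card.1 hp
    have := Finite.one_lt_card (α := ↥((P : Subgroup ↥H) ⊓ center ↥H))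
    rcases n with _ | n
    · rw [pow_zero] at hn; omega
    · rw [hn]; exact dvd_pow_self 2 (by omega))
  refine ⟨((z : ↥H) : G), (z : ↥H).2, by rw [orderOf_coe, orderOf_coe, hz], fun y hy => ?_⟩
  exact (congrArg Subtype.val (mem_center_iff.1 z.2.2 ⟨y, hy⟩)).symm

theorem one_class {a b : G} (ha : orderOf a = 2) (hb : orderOf b = 2) : IsConj a b :=
  Cfsg.Lib.StrongEmb.all_conj L.strong ha hb

theorem cent_inv {z : G} (hz : orderOf z = 2) (hzM : z ∈ M) : centralizer ({z} : Set G) = H := by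
  refine le_antisymm (L.cent z (L.inv_mem_H hz hzM) (L.ne_one hz)) ?_
  obtain ⟨a, ha, ha2, hac⟩ := L.exists_central
  obtain ⟨c, hc⟩ := isConj_iff.1 (L.one_class ha2 hz)
  have hcM : c ∈ M := L.ti_inv ha2 (L.le ha) (hc.symm ▸ hzM)
  intro y hy
  have h1 := hac (c⁻¹ * y * c) (by simpa using L.norm c⁻¹ (inv_mem hcM) y hy)
  refine mem_centralizer_singleton_iff.2 ?_
  rw [← hc, show y * (c * a * c⁻¹) = c * ((c⁻¹ * y * c) * a) * c⁻¹ by group, ← h1.eq]
  group

omit L in
theorem mem_two {u : G} (hu : orderOf u = 2) : u * u = 1 := by rw [← pow_two, ← hu, pow_orderOf_eq_one]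

/-- the intersection with a conjugate meets the subgroup trivially -/
theorem meet_H {u d : G} (hu : u ∉ M) (hd : d ∈ meet M u) (hdH : d ∈ H) : d = 1 := by
  by_contra hd1
  obtain ⟨-, hdu⟩ := mem_meet.1 hd
  refine hu ?_
  have h1 : u⁻¹ * d * u ∈ H := L.mem_of_coprime hdu (by
    rw [show u⁻¹ * d * u = MulAut.conj u⁻¹ d by simp, MulEquiv.orderOf_eq]
    exact L.coprime_index.coprime_dvd_left (Subgroup.orderOf_dvd_natCard H hdH))
  have h2 := L.ti u⁻¹ d hdH hd1 (by rwa [inv_inv])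
  exact inv_mem_iff.1 h2

theorem inj_of_meets (D : Subgroup G) (hD : D ≤ M) (h : ∀ d ∈ D, d ∈ H → d = 1) :
    Function.Injective fun d : ↥D => (QuotientGroup.mk (⟨d, hD d.2⟩ : ↥M) : ↥M ⧸ H.subgroupOf M) := by
  intro a b e
  have e' : QuotientGroup.mk (⟨a, hD a.2⟩ : ↥M) = (QuotientGroup.mk (⟨b, hD b.2⟩ : ↥M) : ↥M ⧸ H.subgroupOf M) := e
  have h0 : (⟨a, hD a.2⟩ : ↥M)⁻¹ * ⟨b, hD b.2⟩ ∈ H.subgroupOf M := QuotientGroup.eq.1 e'
  have h1 : ((a⁻¹ * b : ↥D) : G) ∈ H := h0
  exact (inv_mul_eq_one.1 (Subtype.ext (h _ (a⁻¹ * b).2 h1)))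

theorem card_le_index (D : Subgroup G) (hD : D ≤ M) (h : ∀ d ∈ D, d ∈ H → d = 1) :
    Nat.card ↥D ≤ (H.subgroupOf M).index :=
  (Nat.card_le_card_of_injective _ (L.inj_of_meets D hD h)).trans (le_of_eq rfl)

/-- Each coset outside holds an involution inverting the intersection with the conjugate by it, a complement. -/
theorem exists_inverter (g : G) (hg : g ∉ M) :
    ∃ u, orderOf u = 2 ∧ u⁻¹ * g ∈ M ∧ u ∉ M ∧ Nat.card ↥(meet M u) = (H.subgroupOf M).index ∧
      ∀ d ∈ meet M u, u * d * u⁻¹ = d⁻¹ := by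
  classical
  set q := (H.subgroupOf M).index with hq
  obtain ⟨z, hzH, hz, -⟩ := L.exists_central
  have hzM := L.le hzH
  have hC := L.cent_inv hz hzM
  -- all involutions
  have hI : Nat.card {v : G // orderOf v = 2} = H.index := by
    have hf : ∀ a b : G, a⁻¹ * b ∈ H → a * z * a⁻¹ = b * z * b⁻¹ := fun a b hab => by
      rw [← hC] at hab
      have e := mem_centralizer_singleton_iff.1 hab
      rw [show b * z * b⁻¹ = a * ((a⁻¹ * b) * z) * b⁻¹ by group, e]
      group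
    let f : G ⧸ H → {v : G // orderOf v = 2} := Quotient.lift
      (fun a => ⟨a * z * a⁻¹, by rw [← MulAut.conj_apply, MulEquiv.orderOf_eq, hz]⟩)
      (fun a b hab => Subtype.ext (hf a b (QuotientGroup.leftRel_apply.1 hab)))
    refine (Nat.card_congr (Equiv.ofBijective f ⟨?_, ?_⟩)).symm
    · intro a b
      induction a using Quotient.inductionOn with | _ a => ?_
      induction b using Quotient.inductionOn with | _ b => ?_
      intro e
      have e' : a * z * a⁻¹ = b * z * b⁻¹ := congrArg Subtype.val e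
      refine QuotientGroup.eq.2 (hC ▸ mem_centralizer_singleton_iff.2 ?_)
      rw [show a⁻¹ * b * z = a⁻¹ * (b * z * b⁻¹) * b by group, ← e']
      group
    · rintro ⟨v, hv⟩
      obtain ⟨c, hc⟩ := isConj_iff.1 (L.one_class hz hv)
      exact ⟨QuotientGroup.mk c, Subtype.ext hc⟩
  have hS : H.index = M.index * q := by
    rw [← relIndex_mul_index L.le, show H.relIndex M = q from rfl, mul_comm]
  -- the bound for each coset
  have hD : ∀ u : G, u ∉ M → Nat.card ↥(meet M u) ≤ q := fun u hu =>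
    L.card_le_index _ inf_le_left fun d hd hdH => L.meet_H hu hd hdH
  have hmem : ∀ {u v : G}, orderOf u = 2 → orderOf v = 2 → u⁻¹ * v ∈ M → u * v ∈ meet M u := by
    intro u v hu hv huv
    have hui : u⁻¹ = u := inv_eq_of_mul_eq_one_right (mem_two hu)
    rw [hui] at huv
    refine mem_meet.2 ⟨huv, ?_⟩
    have := inv_mem huv
    rw [mul_inv_rev, inv_eq_of_mul_eq_one_right (mem_two hv), hui] at this
    rwa [hui, ← mul_assoc, mem_two hu, one_mul]
  have hle : ∀ g : G, Nat.card (CosetInv M g) ≤ q := by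
    intro g
    rcases isEmpty_or_nonempty (CosetInv M g) with he | ⟨⟨u, hu, hug⟩⟩
    · rw [Nat.card_eq_zero.2 (Or.inl he)]; exact Nat.zero_le q
    by_cases huM : u ∈ M
    · let f : CosetInv M g → ↥M ⧸ H.subgroupOf M → Prop := fun v c => ∃ m : ↥M, (m : ↥M ⧸ H.subgroupOf M) = c ∧
        (v : G) = m * z * (m : G)⁻¹
      have hex : ∀ v : CosetInv M g, ∃ c, f v c := fun v => by
        have hvM : (v : G) ∈ M := by
          have := M.mul_mem (M.mul_mem huM hug) (inv_mem v.2.2)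
          simpa [mul_assoc] using this
        obtain ⟨c, hc⟩ := isConj_iff.1 (L.one_class hz v.2.1)
        have hcM : c ∈ M := L.ti_inv hz hzM (hc.symm ▸ hvM)
        exact ⟨_, ⟨c, hcM⟩, rfl, hc.symm⟩
      choose φ hφ using hex
      refine (Nat.card_le_card_of_injective φ fun v w e => ?_).trans (le_of_eq rfl)
      obtain ⟨m, hm, hv⟩ := hφ v
      obtain ⟨m', hm', hw⟩ := hφ w
      refine Subtype.ext ?_
      have h1 : (m⁻¹ * m' : ↥M) ∈ H.subgroupOf M := QuotientGroup.eq.1 (hm.trans (e.trans hm'.symm))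
      have h2 : (m : G)⁻¹ * m' ∈ centralizer ({z} : Set G) := hC.ge h1
      rw [hv, hw, show (m' : G) * z * (m' : G)⁻¹ = m * (((m : G)⁻¹ * m') * z) * (m' : G)⁻¹ by group,
        mem_centralizer_singleton_iff.1 h2]
      group
    · refine le_trans (Nat.card_le_card_of_injective
        (fun v : CosetInv M g => (⟨u * v, hmem hu v.2.1 ?_⟩ : ↥(meet M u))) fun v w e => ?_)
        (hD u huM)
      · simpa [mul_assoc] using M.mul_mem hug (inv_mem v.2.2)
      · exact Subtype.ext (mul_left_cancel (congrArg Subtype.val e))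
  -- the count
  have hsum : ∀ c : G ⧸ M, Nat.card (CosetInv M c.out) = q := by
    haveI := Fintype.ofFinite (G ⧸ M)
    have e : Nat.card {v : G // orderOf v = 2} = ∑ c : G ⧸ M, Nat.card (CosetInv M c.out) := by
      rw [← Nat.card_sigma]
      refine Nat.card_congr
        { toFun := fun v => ⟨QuotientGroup.mk v.1, v.1, v.2, QuotientGroup.eq.1 (QuotientGroup.out_eq' _).symm⟩
          invFun := fun p => ⟨p.2.1, p.2.2.1⟩
          left_inv := fun v => rfl
          right_inv := ?_ }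
      rintro ⟨c, v, hv, hvc⟩
      obtain rfl : QuotientGroup.mk v = c := (QuotientGroup.eq.2 hvc).trans (QuotientGroup.out_eq' c)
      rfl
    intro c
    by_contra hc
    have hlt : ∑ c : G ⧸ M, Nat.card (CosetInv M c.out) < ∑ _c : G ⧸ M, q :=
      Finset.sum_lt_sum (fun c _ => hle _) ⟨c, Finset.mem_univ c, lt_of_le_of_ne (hle _) hc⟩
    rw [← e, hI, hS, Finset.sum_const, Finset.card_univ, smul_eq_mul, ← Nat.card_eq_fintype_card] at hlt
    exact hlt.ne rfl
  set g₀ := (QuotientGroup.mk g : G ⧸ M).out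
  have hg₀ : g₀⁻¹ * g ∈ M := QuotientGroup.eq.1 (QuotientGroup.out_eq' _)
  have hcg : Nat.card (CosetInv M g₀) = q := hsum _
  obtain ⟨⟨u, hu, hug⟩⟩ : Nonempty (CosetInv M g₀) := (Nat.card_pos_iff.1 (hcg.symm ▸ L.index_pos)).1
  have hug' : u⁻¹ * g ∈ M := by simpa [mul_assoc] using M.mul_mem hug hg₀
  have huM : u ∉ M := fun k => hg (by simpa using M.mul_mem k hug')
  let f : CosetInv M g₀ → ↥(meet M u) := fun v => ⟨u * v, hmem hu v.2.1 (by
    simpa [mul_assoc] using M.mul_mem hug (inv_mem v.2.2))⟩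
  have hf : Function.Injective f := fun v w e => Subtype.ext (mul_left_cancel (congrArg Subtype.val e))
  have hcardD : Nat.card ↥(meet M u) = q := le_antisymm (hD u huM) (hcg ▸ Nat.card_le_card_of_injective f hf)
  refine ⟨u, hu, hug', huM, hcardD, fun d hd => ?_⟩
  obtain ⟨v, hv⟩ := (hf.bijective_of_nat_card_le (by rw [hcardD, hcg])).2 ⟨d, hd⟩
  have e : d = u * v := (congrArg Subtype.val hv).symm
  rw [e, mul_inv_rev, inv_eq_of_mul_eq_one_right (mem_two hu), inv_eq_of_mul_eq_one_right (mem_two v.2.1),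
    ← mul_assoc u u, mem_two hu, one_mul]

/-- the intersections have odd order -/
theorem meet_odd {u : G} (hu : u ∉ M) : Odd (Nat.card ↥(meet M u)) := by
  rw [← Nat.not_even_iff_odd]
  intro he
  obtain ⟨d, hd, hd2⟩ := Cfsg.Lib.StrongEmb.exists_involution_of_even he
  exact L.ne_one hd2 (L.meet_H hu hd (L.inv_mem_H hd2 (mem_meet.1 hd).1))

omit L in
/-- a subgroup inverted by one element is commutative -/
theorem meet_comm {u : G} (hinv : ∀ d ∈ meet M u, u * d * u⁻¹ = d⁻¹) {c d : G} (hc : c ∈ meet M u)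
    (hd : d ∈ meet M u) : Commute c d := by
  have h1 := hinv (c * d) ((meet M u).mul_mem hc hd)
  rw [show u * (c * d) * u⁻¹ = (u * c * u⁻¹) * (u * d * u⁻¹) by group, hinv c hc, hinv d hd, ← mul_inv_rev,
    inv_inj] at h1
  exact h1.symm

/-- An element fixing another point is not inverted inside the subgroup. -/
theorem not_inverted {u y m : G} (hu : u ∉ M) (hinv : ∀ d ∈ meet M u, u * d * u⁻¹ = d⁻¹)
    (hcard : Nat.card ↥(meet M u) = (H.subgroupOf M).index) (hy : y ∈ meet M u) (hy1 : y ≠ 1) (hm : m ∈ M)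
    (e : m * y * m⁻¹ = y⁻¹) : False := by
  haveI := L.normal
  set K := H.subgroupOf M
  set π := QuotientGroup.mk' K
  let f : ↥(meet M u) →* ↥M ⧸ K := π.comp (inclusion inf_le_left)
  have hinj : Function.Injective f :=
    L.inj_of_meets (meet M u) inf_le_left fun d hd hdH => L.meet_H hu hd hdH
  have hf : Function.Bijective f := hinj.bijective_of_nat_card_le (by rw [hcard]; rfl)
  obtain ⟨d, hd⟩ := hf.2 (π ⟨m, hm⟩)
  have hc : Commute (π ⟨m, hm⟩) (f ⟨y, hy⟩) := by
    rw [← hd]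
    exact (show Commute d ⟨y, hy⟩ from Subtype.ext (meet_comm hinv d.2 hy).eq).map f
  have h3 : π ⟨m, hm⟩ * f ⟨y, hy⟩ * (π ⟨m, hm⟩)⁻¹ = (f ⟨y, hy⟩)⁻¹ := by
    show π _ * π _ * (π _)⁻¹ = (π _)⁻¹
    rw [← map_inv, ← map_mul, ← map_mul, ← map_inv]
    exact congrArg π (Subtype.ext e)
  rw [hc.eq, mul_inv_cancel_right] at h3
  have h4 : f (⟨y, hy⟩ * ⟨y, hy⟩) = 1 := by
    rw [map_mul]
    exact mul_eq_one_iff_eq_inv.2 h3
  have h5 : y * y = 1 := by simpa using congrArg Subtype.val ((injective_iff_map_eq_one f).1 hinj _ h4)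
  refine hy1 (eq_one_of_two_odd ⟨1, ?_⟩ ?_)
  · rw [pow_one, orderOf_eq_prime (by rw [pow_two]; exact h5) hy1]
  · exact Odd.of_dvd_nat (L.meet_odd hu) (Subgroup.orderOf_dvd_natCard _ hy)

theorem centralizer_eq {u y : G} (hu : u ∉ M) (hinv : ∀ d ∈ meet M u, u * d * u⁻¹ = d⁻¹)
    (hcard : Nat.card ↥(meet M u) = (H.subgroupOf M).index) (hy : y ∈ meet M u) (hy1 : y ≠ 1) :
    centralizer ({y} : Set G) = meet M u := by
  have hyM : y ∈ M := (mem_meet.1 hy).1
  have hle : meet M u ≤ centralizer ({y} : Set G) := fun d hd =>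
    mem_centralizer_singleton_iff.2 (meet_comm hinv hd hy).eq
  have hCM : centralizer ({y} : Set G) ≤ M := by
    intro p hp
    by_contra hpM
    have hpy : p⁻¹ * y * p = y := by
      rw [mul_assoc, ← mem_centralizer_singleton_iff.1 hp, inv_mul_cancel_left]
    obtain ⟨v, hv, hvg, -, -, hi⟩ := L.exists_inverter p hpM
    have hyD : y ∈ meet M v := mem_meet.2 ⟨hyM, by
      have : (v⁻¹ * p) * y * (v⁻¹ * p)⁻¹ ∈ M := M.mul_mem (M.mul_mem hvg hyM) (inv_mem hvg)
      rwa [show (v⁻¹ * p) * y * (v⁻¹ * p)⁻¹ = v⁻¹ * (p * y * p⁻¹) * v by group,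
        mul_inv_eq_iff_eq_mul.2 (mem_centralizer_singleton_iff.1 hp)] at this⟩
    refine L.not_inverted hu hinv hcard hy hy1 (inv_mem hvg) ?_
    rw [show (v⁻¹ * p)⁻¹ * y * (v⁻¹ * p)⁻¹⁻¹ = p⁻¹ * (v * y * v⁻¹) * p by group, hi y hyD]
    rw [show p⁻¹ * y⁻¹ * p = (p⁻¹ * y * p)⁻¹ by group, hpy]
  refine (eq_of_le_of_card_ge hle ?_).symm
  rw [hcard]
  refine L.card_le_index _ hCM fun d hd hdH => ?_
  by_contra hd1
  refine hy1 (L.meet_H hu hy (L.cent d hdH hd1 (mem_centralizer_singleton_iff.2 ?_)))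
  exact (mem_centralizer_singleton_iff.1 hd).symm

/-- a nontrivial element of `M` fixing another point -/
theorem fixing {y g : G} (hy : y ∈ M) (hg : g ∉ M) (hyg : g⁻¹ * y * g ∈ M) :
    ∃ u, orderOf u = 2 ∧ u⁻¹ * g ∈ M ∧ u ∉ M ∧ Nat.card ↥(meet M u) = (H.subgroupOf M).index ∧
      y ∈ meet M u ∧ ∀ d ∈ meet M u, u * d * u⁻¹ = d⁻¹ := by
  obtain ⟨u, hu, hug, huM, hcard, hinv⟩ := L.exists_inverter g hg
  refine ⟨u, hu, hug, huM, hcard, mem_meet.2 ⟨hy, ?_⟩, hinv⟩
  simpa [mul_assoc] using M.mul_mem (M.mul_mem hug hyg) (inv_mem hug)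

/-- at most one further fixed point -/
theorem fixing_unique {y g g' : G} (hy : y ∈ M) (hy1 : y ≠ 1) (hg : g ∉ M) (hyg : g⁻¹ * y * g ∈ M)
    (hg' : g' ∉ M) (hyg' : g'⁻¹ * y * g' ∈ M) : g⁻¹ * g' ∈ M := by
  obtain ⟨u, hu, hug, huM, hcard, hyu, hi⟩ := L.fixing hy hg hyg
  obtain ⟨u', hu', hug', -, -, hyu', hi'⟩ := L.fixing hy hg' hyg'
  have hc : u⁻¹ * u' ∈ centralizer ({y} : Set G) := by
    refine mem_centralizer_singleton_iff.2 ?_
    have e : u' * y * u'⁻¹ = u * y * u⁻¹ := (hi' y hyu').trans (hi y hyu).symm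
    rw [show u⁻¹ * u' * y = u⁻¹ * (u' * y * u'⁻¹) * u' by group, e]
    group
  rw [L.centralizer_eq huM hi hcard hyu hy1] at hc
  simpa [mul_assoc] using M.mul_mem (M.mul_mem (inv_mem hug) (mem_meet.1 hc).1) hug'

/-- the intersections are conjugate complements -/
theorem conj_meet {u v : G} (hcu : Nat.card ↥(meet M u) = (H.subgroupOf M).index)
    (hcv : Nat.card ↥(meet M v) = (H.subgroupOf M).index) :
    ∃ m ∈ M, ∀ d ∈ meet M u, m * d * m⁻¹ ∈ meet M v := by
  haveI := L.normal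
  set N := H.subgroupOf M
  have hcN : Nat.card ↥N = Nat.card ↥H := Nat.card_congr (subgroupOfEquivOfLe L.le).toEquiv
  have hcop : (Nat.card ↥N).Coprime N.index := hcN ▸ L.coprime_index
  have compl : ∀ w : G, Nat.card ↥(meet M w) = N.index →
      Subgroup.IsComplement' N ((meet M w).subgroupOf M) := fun w hc => by
    refine Subgroup.isComplement'_of_coprime ?_ ?_
    · rw [Nat.card_congr (subgroupOfEquivOfLe (show meet M w ≤ M from inf_le_left)).toEquiv, hc, card_mul_index]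
    · rw [Nat.card_congr (subgroupOfEquivOfLe (show meet M w ≤ M from inf_le_left)).toEquiv, hc]
      exact hcop
  haveI := L.nil
  haveI : Group.IsNilpotent ↥N := Group.nilpotent_of_mulEquiv (subgroupOfEquivOfLe L.le).symm
  obtain ⟨m, hm⟩ := Cfsg.Agent.S0001.result N hcop (Or.inl inferInstance) _ _ (compl u hcu) (compl v hcv)
  refine ⟨m, m.2, fun d hd => ?_⟩
  have h1 : m * (⟨d, (mem_meet.1 hd).1⟩ : ↥M) * m⁻¹ ∈ (meet M v).subgroupOf M := by
    rw [← hm]
    exact ⟨⟨d, (mem_meet.1 hd).1⟩, hd, rfl⟩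
  exact h1

/-- `M` is transitive on the other points -/
theorem transitive (hq : 1 < (H.subgroupOf M).index) {g g' : G} (hg : g ∉ M) (hg' : g' ∉ M) :
    ∃ m ∈ M, (m * g)⁻¹ * g' ∈ M := by
  obtain ⟨u, -, hug, huM, hcu, -⟩ := L.exists_inverter g hg
  obtain ⟨u', -, hug', hu'M, hcu', -⟩ := L.exists_inverter g' hg'
  obtain ⟨m, hm, hconj⟩ := L.conj_meet hcu hcu'
  haveI : Nontrivial ↥(meet M u) := Finite.one_lt_card_iff_nontrivial.1 (hcu.symm ▸ hq)
  obtain ⟨⟨d, hd⟩, hd1⟩ := exists_ne (1 : ↥(meet M u))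
  obtain ⟨hdM, hdu⟩ := mem_meet.1 hd
  obtain ⟨hd'M, hd'u⟩ := mem_meet.1 (hconj d hd)
  have hd'1 : m * d * m⁻¹ ≠ 1 := fun e => hd1 (Subtype.ext (conj_eq_one_iff.1 e))
  have hdg : g⁻¹ * d * g ∈ M := by
    simpa [mul_assoc] using M.mul_mem (M.mul_mem (inv_mem hug) hdu) hug
  refine ⟨m, hm, L.fixing_unique hd'M hd'1 (fun k => hg (by simpa using M.mul_mem (inv_mem hm) k)) ?_ hg' ?_⟩
  · simpa [mul_assoc] using hdg
  · simpa [mul_assoc] using M.mul_mem (M.mul_mem (inv_mem hug') hd'u) hug'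

variable [IsSimpleGroup G]

/-- the index is not one -/
theorem one_lt_index (hna : ¬ IsMulCommutative G) : 1 < (H.subgroupOf M).index := by
  refine lt_of_le_of_ne L.index_pos fun e => ?_
  haveI : Fact (Nat.Prime 2) := ⟨Nat.prime_two⟩
  obtain ⟨z, hzH, hz, -⟩ := L.exists_central
  have hMH : M ≤ H := subgroupOf_eq_top.1 (Subgroup.index_eq_one.1 e.symm)
  have huniq : ∀ w : G, orderOf w = 2 → w ∈ M → w = z := fun w hw hwM => by
    obtain ⟨c, hc⟩ := isConj_iff.1 (L.one_class hz hw)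
    have hcM := L.ti_inv hz (L.le hzH) (hc.symm ▸ hwM)
    have hcz := mem_centralizer_singleton_iff.1 ((L.cent_inv hz (L.le hzH)).ge (hMH hcM))
    rw [← hc, hcz, mul_inv_cancel_right]
  have h1 : IsPGroup 2 ↥(Subgroup.zpowers z) := IsPGroup.of_card (n := 1) (by rw [Nat.card_zpowers, hz, pow_one])
  obtain ⟨P, hP⟩ := h1.exists_le_sylow
  have hzP : z ∈ (P : Subgroup G) := hP (mem_zpowers z)
  obtain ⟨a, ha, ha2, hac⟩ := Cfsg.Lib.PrimePowerOrders.exists_central P.isPGroup'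
    (fun e' => L.ne_one hz (mem_bot.1 (e' ▸ hzP)))
  have haz : a = z := huniq a ha2 (L.le (L.cent z hzH (L.ne_one hz)
    (mem_centralizer_singleton_iff.2 (hac z hzP).eq)))
  obtain ⟨N, hN, hodd, hcomm⟩ := Cfsg.Agent.S0215.result P z hz hzP fun g hg => by
    have hg2 : orderOf (g * z * g⁻¹) = 2 := by rw [← MulAut.conj_apply, MulEquiv.orderOf_eq, hz]
    exact huniq _ hg2 (L.le (L.cent z hzH (L.ne_one hz)
      (mem_centralizer_singleton_iff.2 (haz ▸ hac _ hg).eq.symm)))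
  rcases hN.eq_bot_or_eq_top with h0 | h0
  · have hzc : z ∈ center G := mem_center_iff.2 fun g => by
      have := mem_bot.1 (h0 ▸ hcomm g)
      rw [mul_inv_eq_one, mul_inv_eq_iff_eq_mul] at this
      exact this.symm
    rcases (center G).normal_of_characteristic.eq_bot_or_eq_top with h2 | h2
    · exact L.ne_one hz (mem_bot.1 (h2 ▸ hzc))
    · exact hna ⟨⟨fun x y => mem_center_iff.1 (h2 ▸ mem_top y) x⟩⟩
  · rw [h0, Subgroup.card_top] at hodd
    have h2 := _root_.orderOf_dvd_natCard z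
    rw [hz] at h2
    exact absurd (even_iff_two_dvd.2 h2) (Nat.not_even_iff_odd.2 hodd)

open Cfsg.Lib.OddChar.Zassenhaus in
/-- no such frame exists -/
theorem absurd_frame (hna : ¬ IsMulCommutative G) : False := by
  classical
  haveI := Fintype.ofFinite (G ⧸ M)
  have hq := L.one_lt_index hna
  obtain ⟨g₀, -, hg₀⟩ : ∃ g : G, g ∈ (⊤ : Subgroup G) ∧ g ∉ M :=
    SetLike.exists_of_lt (lt_top_iff_ne_top.2 L.proper)
  set o : G ⧸ M := QuotientGroup.mk 1 with ho
  have hstab : ∀ g : G, (g • o = o ↔ g ∈ M) := fun g => by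
    rw [ho, MulAction.Quotient.smul_mk, smul_eq_mul, mul_one, QuotientGroup.eq, mul_one, inv_mem_iff]
  have hstab' : ∀ g a : G, (g • (QuotientGroup.mk a : G ⧸ M) = QuotientGroup.mk a ↔ a⁻¹ * g * a ∈ M) := fun g a => by
    rw [MulAction.Quotient.smul_mk, smul_eq_mul, QuotientGroup.eq, ← inv_mem_iff]
    group
  have hne : ∀ a : G, o ≠ QuotientGroup.mk a ↔ a ∉ M := fun a => by
    rw [ho, Ne, QuotientGroup.eq, inv_one, one_mul]
  have htrans : ∀ a : G ⧸ M, ∃ g : G, g • o = a := fun a => MulAction.exists_smul_eq G o a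
  have hfaith : FaithfulSMul G (G ⧸ M) := by
    refine ⟨fun {a b} hab => ?_⟩
    rcases IsSimpleGroup.eq_bot_or_eq_top_of_normal (MulAction.toPermHom G (G ⧸ M)).ker inferInstance with e | e
    · exact (MonoidHom.ker_eq_bot_iff _).1 e (Equiv.ext hab)
    · refine absurd ((hstab g₀).1 ?_) hg₀
      have h1 : (MulAction.toPermHom G (G ⧸ M)) g₀ = 1 := e.ge (mem_top g₀)
      exact congrArg (fun p : Equiv.Perm (G ⧸ M) => p o) h1
  have h2 : MulAction.IsMultiplyPretransitive G (G ⧸ M) 2 := by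
    rw [MulAction.is_two_pretransitive_iff]
    intro a b c d hab hcd
    obtain ⟨g, rfl⟩ := htrans a
    obtain ⟨g', rfl⟩ := htrans c
    induction b using Quotient.inductionOn with | _ b => ?_
    induction d using Quotient.inductionOn with | _ d => ?_
    have hb : g⁻¹ * b ∉ M := fun k => hab (by
      rw [ho, MulAction.Quotient.smul_mk, smul_eq_mul, mul_one]
      exact QuotientGroup.eq.2 k)
    have hd : g'⁻¹ * d ∉ M := fun k => hcd (by
      rw [ho, MulAction.Quotient.smul_mk, smul_eq_mul, mul_one]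
      exact QuotientGroup.eq.2 k)
    obtain ⟨m, hm, hmm⟩ := L.transitive hq hb hd
    refine ⟨g' * m * g⁻¹, ?_, ?_⟩
    · rw [← mul_smul, inv_mul_cancel_right, mul_smul, (hstab m).2 hm]
    · show (g' * m * g⁻¹) • (QuotientGroup.mk b : G ⧸ M) = QuotientGroup.mk d
      rw [MulAction.Quotient.smul_mk, smul_eq_mul, QuotientGroup.eq]
      simpa [mul_assoc] using hmm
  have h3 : ∀ g : G, ∀ a b c : G ⧸ M, a ≠ b → b ≠ c → a ≠ c → g • a = a → g • b = b → g • c = c → g = 1 := by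
    intro g a b c hab hbc hac ga gb gc
    by_contra hg1
    obtain ⟨k, rfl⟩ := htrans a
    induction b using Quotient.inductionOn with | _ b => ?_
    induction c using Quotient.inductionOn with | _ c => ?_
    set g' := k⁻¹ * g * k
    have hg'M : g' ∈ M := (hstab g').1 (by
      simp only [g']
      rw [mul_smul, mul_smul, ga, inv_smul_smul])
    have hg'1 : g' ≠ 1 := fun e => hg1 (by
      have : g = k * g' * k⁻¹ := by simp only [g']; group
      rw [this, e, mul_one, mul_inv_cancel])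
    have hmv : ∀ e : G, k • o ≠ (QuotientGroup.mk e : G ⧸ M) → g • (QuotientGroup.mk e : G ⧸ M) = QuotientGroup.mk e →
        k⁻¹ * e ∉ M ∧ (k⁻¹ * e)⁻¹ * g' * (k⁻¹ * e) ∈ M := fun e he hge => by
      refine ⟨fun hk => he ?_, ?_⟩
      · rw [ho, MulAction.Quotient.smul_mk, smul_eq_mul, mul_one]
        exact QuotientGroup.eq.2 hk
      · simpa [g', mul_assoc] using (hstab' g e).1 hge
    obtain ⟨hb1, hb2⟩ := hmv b hab gb
    obtain ⟨hc1, hc2⟩ := hmv c hac gc
    refine hbc (QuotientGroup.eq.2 ?_)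
    simpa [mul_assoc] using L.fixing_unique hg'M hg'1 hb1 hb2 hc1 hc2
  obtain ⟨u, hu, hug, huM, hcard, -⟩ := L.exists_inverter g₀ hg₀
  haveI : Nontrivial ↥(meet M u) := Finite.one_lt_card_iff_nontrivial.1 (hcard.symm ▸ hq)
  obtain ⟨⟨d, hd⟩, hd1⟩ := exists_ne (1 : ↥(meet M u))
  obtain ⟨hdM, hdu⟩ := mem_meet.1 hd
  set b₀ : G ⧸ M := QuotientGroup.mk u with hb₀
  have hob : o ≠ b₀ := (hne u).2 huM
  have h4 : ∃ g : G, g ≠ 1 ∧ ∃ a b : G ⧸ M, a ≠ b ∧ g • a = a ∧ g • b = b :=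
    ⟨d, fun e => hd1 (Subtype.ext e), o, b₀, hob, (hstab d).2 hdM, (hstab' d u).2 hdu⟩
  have h5 : ∀ N : Subgroup G, N.Normal → MulAction.IsPretransitive N (G ⧸ M) →
      ∃ a : G ⧸ M, MulAction.stabilizer N a ≠ ⊥ := by
    intro N hN hNt
    have hNtop : N = ⊤ := by
      refine (IsSimpleGroup.eq_bot_or_eq_top_of_normal N hN).resolve_left fun e => ?_
      obtain ⟨n, hn⟩ := hNt.exists_smul_eq o (QuotientGroup.mk g₀)
      have hn1 : (n : G) = 1 := mem_bot.1 (e ▸ n.2)
      have hn' : (n : G) • o = QuotientGroup.mk g₀ := hn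
      rw [hn1, one_smul] at hn'
      exact (hne g₀).2 hg₀ hn'
    refine ⟨o, fun e => hd1 ?_⟩
    have h1 : (⟨d, hNtop ▸ mem_top d⟩ : ↥N) ∈ MulAction.stabilizer (↥N) o := (hstab d).2 hdM
    rw [e, mem_bot] at h1
    exact Subtype.ext (congrArg Subtype.val h1 :)
  have hZ : Cfsg.IsZassenhausGroup G (G ⧸ M) := ⟨hfaith, h2, h3, h4, h5⟩
  -- the kernel
  have hHa : H ≤ MulAction.stabilizer G o := fun y hy => (hstab y).2 (L.le hy)
  have hHfix : ∀ y ∈ H, y ≠ 1 → ∀ c : G ⧸ M, y • c = c → c = o := by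
    intro y hy hy1 c hc
    induction c using Quotient.inductionOn with | _ c => ?_
    by_contra hco
    refine hy1 (L.meet_H ((hne c).1 (Ne.symm hco)) (mem_meet.2 ⟨L.le hy, ?_⟩) hy)
    exact (hstab' y c).1 hc
  have hstab₂ : Nat.card ↥(stab₂ G o b₀) = (H.subgroupOf M).index := by
    rw [← hcard]
    refine Nat.card_congr (Equiv.subtypeEquivRight fun g => ?_)
    rw [mem_meet, ← hstab g, ← hstab' g u]
    rfl
  have hHc : Nat.card ↥H + 1 = Fintype.card (G ⧸ M) := by
    let f : ↥H → {c : G ⧸ M // c ≠ o} := fun y => ⟨(y : G) • b₀, fun e => hob (by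
      have := congrArg ((y : G)⁻¹ • ·) e
      simp only [inv_smul_smul] at this
      rw [this, (hstab _).2 (inv_mem (L.le y.2))])⟩
    have hf : Function.Bijective f := by
      refine ⟨fun y y' e => ?_, fun ⟨c, hc⟩ => ?_⟩
      · have e' : (y : G) • b₀ = (y' : G) • b₀ := congrArg Subtype.val e
        by_contra hne'
        refine hob (hHfix _ ((y'⁻¹ * y : ↥H)).2 (fun h => hne' ?_) b₀ ?_).symm
        · exact (inv_mul_eq_one.1 (Subtype.ext (h : ((y'⁻¹ * y : ↥H) : G) = 1))).symm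
        · push_cast
          rw [mul_smul, e', inv_smul_smul]
      · induction c using Quotient.inductionOn with | _ c => ?_
        obtain ⟨m, hm, hmc⟩ := L.transitive hq huM ((hne c).1 (Ne.symm hc))
        haveI := L.normal
        let π : ↥(meet M u) → ↥M ⧸ H.subgroupOf M := fun x => QuotientGroup.mk ⟨x, inf_le_left (a := M) x.2⟩
        have hπ : Function.Bijective π :=
          (L.inj_of_meets (meet M u) inf_le_left fun x hx hxH => L.meet_H huM hx hxH).bijective_of_nat_card_le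
            (by rw [hcard]; rfl)
        obtain ⟨x, hx⟩ := hπ.2 (QuotientGroup.mk (⟨m, hm⟩ : ↥M))
        have hx' : (QuotientGroup.mk (⟨(x : G), inf_le_left (a := M) x.2⟩ : ↥M) : ↥M ⧸ H.subgroupOf M) =
            QuotientGroup.mk (⟨m, hm⟩ : ↥M) := hx
        have h5 : (⟨(x : G), inf_le_left (a := M) x.2⟩ : ↥M)⁻¹ * ⟨m, hm⟩ ∈ H.subgroupOf M := QuotientGroup.eq.1 hx'
        have h6 : (x : G)⁻¹ * m ∈ H := h5
        obtain ⟨hxM, hxu⟩ := mem_meet.1 x.2
        have h7 : m * (x : G)⁻¹ ∈ H := by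
          simpa [mul_assoc] using L.norm x hxM _ h6
        refine ⟨⟨m * (x : G)⁻¹, h7⟩, Subtype.ext ?_⟩
        show (m * (x : G)⁻¹) • b₀ = _
        rw [hb₀, MulAction.Quotient.smul_mk, smul_eq_mul]
        refine QuotientGroup.eq.2 ?_
        have := M.mul_mem hxu hmc
        simpa [mul_assoc] using this
    rw [Nat.card_congr (Equiv.ofBijective f hf), Nat.card_eq_fintype_card, Fintype.card_subtype_compl,
      Fintype.card_subtype_eq, Nat.sub_add_cancel (Fintype.card_pos_iff.2 ⟨o⟩)]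
  rcases feit_inequality hZ hob hHc.symm hstab₂ L.index_odd hHa hHc hHfix with h6 | ⟨h6, -, -⟩
  · obtain ⟨-, p, f, hp, hf, -, hcard'⟩ := Cfsg.Lib.RankOne.kernel_elementary hZ hob
      (by rw [hstab₂, ← hHc]; omega) hHa hHc hHfix
    exact L.notpp ((isPrimePow_nat_iff _).2 ⟨p, f, hp, hf, hcard'.symm⟩)
  · haveI : Fact (Nat.Prime 2) := ⟨Nat.prime_two⟩
    obtain ⟨n, hn⟩ := IsPGroup.iff_card.1 h6
    refine L.notpp ((isPrimePow_nat_iff _).2 ⟨2, n, Nat.prime_two, Nat.pos_of_ne_zero ?_, hn.symm⟩)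
    rintro rfl
    exact absurd L.even (by rw [hn, pow_zero]; omega)

end CNFrame

/-- A non-abelian simple CN-group is a CIT-group. -/
theorem cit_of_cn [IsSimpleGroup G] (hna : ¬ IsMulCommutative G) (hCN : Cfsg.IsCNGroup G) : CIT G := by
  intro t ht
  haveI : Fact (Nat.Prime 2) := ⟨Nat.prime_two⟩
  by_contra hC
  set C := centralizer ({t} : Set G)
  have ht1 : t ≠ 1 := fun e => by rw [e, orderOf_one] at ht; omega
  obtain ⟨H, hCH, hH, hHmax⟩ : ∃ H, C ≤ H ∧ Group.IsNilpotent ↥H ∧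
      ∀ L : Subgroup G, Group.IsNilpotent L → H ≤ L → L = H := by
    obtain ⟨H, hCH, hmax⟩ := Finite.exists_le_maximal (p := fun K : Subgroup G => Group.IsNilpotent ↥K) (hCN t ht1)
    exact ⟨H, hCH, hmax.1, fun L hL hHL => le_antisymm (hmax.2 hL hHL) hHL⟩
  obtain ⟨hhall, hti, hcent⟩ := Cfsg.Agent.S1477.result hCN H hH hHmax
  have htH : t ∈ H := hCH (mem_centralizer_singleton_iff.2 rfl)
  have h2H : 2 ∣ Nat.card ↥H := by
    have := Subgroup.orderOf_dvd_natCard H htH
    rwa [ht] at this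
  have hnpp : ¬ IsPrimePow (Nat.card ↥H) := fun hpp => by
    obtain ⟨p, k, hp, -, hpk⟩ := (isPrimePow_nat_iff _).1 hpp
    obtain rfl : 2 = p := (Nat.prime_dvd_prime_iff_eq Nat.prime_two hp).1
      (Nat.prime_two.dvd_of_dvd_pow (hpk.symm ▸ h2H))
    exact hC ((IsPGroup.of_card hpk.symm).to_le hCH)
  have hne1 : Nat.card ↥H ≠ 1 := fun e => by rw [e] at h2H; omega
  have hti' := hti hnpp hne1
  have hHne : H ≠ ⊥ := fun e => hne1 (by rw [e, Subgroup.card_bot])
  have hHtop : H ≠ ⊤ := fun e => by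
    haveI : Group.IsNilpotent G := Group.nilpotent_of_mulEquiv ((MulEquiv.subgroupCongr e).trans Subgroup.topEquiv)
    have hz := Cfsg.Lib.Coprime.inf_center_ne_bot (⊤ : Subgroup G) top_ne_bot
    rw [top_inf_eq] at hz
    have h2 := ((center G).normal_of_characteristic.eq_bot_or_eq_top).resolve_left hz
    exact hna ⟨⟨fun x y => mem_center_iff.1 (h2 ▸ mem_top y) x⟩⟩
  have L : CNFrame (normalizer (H : Set G)) H :=
    { nil := hH
      notpp := hnpp
      proper := fun e => by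
        rcases (normalizer_eq_top_iff.1 e).eq_bot_or_eq_top with h | h
        · exact hHne h
        · exact hHtop h
      le := le_normalizer
      norm := fun m hm v hv => ((mem_normalizer_iff.1 hm) v).1 hv
      ti := fun g x hx hx1 hgx => by
        by_contra hg
        have h1 := hti' g fun e => hg (mem_normalizer_iff.2 fun w => ⟨fun hw => e ▸ mem_map_of_mem _ hw, fun hw => by
          rw [← e] at hw
          obtain ⟨w', hw', he⟩ := hw
          rwa [← (MulAut.conj g).injective (he : MulAut.conj g w' = MulAut.conj g w)]⟩)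
        exact hx1 (conj_eq_one_iff.1 (mem_bot.1 (h1 ▸ mem_inf.2 ⟨hgx, mem_map_of_mem _ hx⟩)))
      cent := hcent hti'
      hall := hhall
      even := h2H }
  exact L.absurd_frame hna

end Cfsg.Lib.CITGroups
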