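import Cfsg.Agent.CITGroups.Global
import Cfsg.Agent.S0001
import Cfsg.Agent.S0340
import Cfsg.Agent.PrimePowerOrders.StrongEmb
import Mathlib.GroupTheory.GroupAction.MultipleTransitivity

/-!
A strongly embedded normaliser of a Sylow subgroup for the prime two, with involution centralisers which are
2-groups: the group permutes the conjugates as a Zassenhaus group.
-/

set_option autoImplicit false
set_option linter.unusedSectionVars false
set_option linter.style.haveILetI false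

namespace Cfsg.Lib.CITGroups

open Subgroup Cfsg.Lib.PrimePowerOrders

variable {G : Type*} [Group G] [Finite G]

namespace Closed

variable {M S : Subgroup G} (L : Closed M S)
include L

theorem card_S : ∃ k, Nat.card ↥S = 2 ^ k := by
  haveI : Fact (Nat.Prime 2) := ⟨Nat.prime_two⟩
  exact IsPGroup.iff_card.1 L.two

theorem normal : (S.subgroupOf M).Normal := ⟨fun v hv g => L.norm g g.2 v hv⟩

theorem card_M : Nat.card ↥S * (S.subgroupOf M).index = Nat.card ↥M := by
  rw [← Nat.card_congr (subgroupOfEquivOfLe L.le).toEquiv, card_mul_index]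

/-- odd subgroups have order dividing the index -/
theorem card_odd {D : Subgroup G} (hD : D ≤ M) (hodd : ¬ 2 ∣ Nat.card ↥D) :
    Nat.card ↥D ∣ (S.subgroupOf M).index := by
  have h1 : Nat.card ↥D ∣ Nat.card ↥S * (S.subgroupOf M).index := L.card_M ▸ Subgroup.card_dvd_of_le hD
  obtain ⟨k, hk⟩ := L.card_S
  rw [hk] at h1
  exact (Nat.Coprime.pow_right k ((Nat.prime_two.coprime_iff_not_dvd).2 hodd).symm).dvd_of_dvd_mul_left h1

theorem index_pos : 0 < (S.subgroupOf M).index := Nat.pos_of_ne_zero Subgroup.index_ne_zero_of_finite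

theorem one_lt_index : 1 < (S.subgroupOf M).index := by
  refine lt_of_le_of_ne L.index_pos fun e => L.ne_self (le_antisymm ?_ L.le)
  exact subgroupOf_eq_top.1 (Subgroup.index_eq_one.1 e.symm)

variable (h : CIT G)
include h

theorem cent_inv {z : G} (hz : orderOf z = 2) (hzM : z ∈ M) : centralizer ({z} : Set G) = S := by
  refine le_antisymm (fun g hg => ?_) fun s hs => mem_centralizer_singleton_iff.2 ((L.inv z hz hzM).2 s hs).symm.eq
  have hgM : g ∈ M := L.cent z g hz hzM (mem_centralizer_singleton_iff.1 hg)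
  haveI := L.normal
  haveI : Fact (Nat.Prime 2) := ⟨Nat.prime_two⟩
  obtain ⟨k, hk⟩ := two_of_mem (h z hz) hg
  have h1 : orderOf (QuotientGroup.mk' (S.subgroupOf M) ⟨g, hgM⟩) = 1 :=
    Nat.eq_one_of_dvd_coprimes (Nat.Coprime.pow_right k ((Nat.prime_two.coprime_iff_not_dvd).2 L.odd).symm)
      (_root_.orderOf_dvd_natCard _) (hk ▸ (orderOf_map_dvd _ _).trans (by rw [← orderOf_coe (⟨g, hgM⟩ : ↥M)]))
  by_contra hgS
  exact hgS ((QuotientGroup.eq_one_iff (⟨g, hgM⟩ : ↥M)).1 (orderOf_eq_one_iff.1 h1))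

/-- the intersection with a conjugate has odd order -/
theorem meet_odd {u : G} (hu : u ∉ M) : ¬ 2 ∣ Nat.card ↥(meet M u) := by
  haveI : Fact (Nat.Prime 2) := ⟨Nat.prime_two⟩
  intro hd
  obtain ⟨d, hd⟩ := exists_prime_orderOf_dvd_card' (G := ↥(meet M u)) 2 hd
  obtain ⟨hdM, hdu⟩ := mem_meet.1 d.2
  exact L.se u hu d (by rw [orderOf_coe, hd]) hdM hdu

/-- Each coset outside holds an involution inverting the intersection with the conjugate by it, a complement. -/
theorem exists_inverter (g : G) (hg : g ∉ M) :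
    ∃ u, orderOf u = 2 ∧ u⁻¹ * g ∈ M ∧ u ∉ M ∧ Nat.card ↥(meet M u) = (S.subgroupOf M).index ∧
      ∀ d ∈ meet M u, u * d * u⁻¹ = d⁻¹ := by
  classical
  haveI : Fact (Nat.Prime 2) := ⟨Nat.prime_two⟩
  set q := (S.subgroupOf M).index with hq
  obtain ⟨z, hzS, hz, -⟩ := exists_central L.two L.ne
  have hzM := L.le hzS
  have hC := L.cent_inv h hz hzM
  -- all involutions
  have hI : Nat.card {v : G // orderOf v = 2} = S.index := by
    have hf : ∀ a b : G, a⁻¹ * b ∈ S → a * z * a⁻¹ = b * z * b⁻¹ := fun a b hab => by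
      rw [← hC] at hab
      have e := mem_centralizer_singleton_iff.1 hab
      rw [show b * z * b⁻¹ = a * ((a⁻¹ * b) * z) * b⁻¹ by group, e]
      group
    let f : G ⧸ S → {v : G // orderOf v = 2} := Quotient.lift
      (fun a => ⟨a * z * a⁻¹, by rw [← MulAut.conj_apply, MulEquiv.orderOf_eq, hz]⟩)
      (fun a b hab => Subtype.ext (hf a b (QuotientGroup.leftRel_apply.1 hab)))
    refine (Nat.card_congr (Equiv.ofBijective f ⟨?_, ?_⟩)).symm
    · intro a b
      induction a using Quotient.inductionOn with | _ a => ?_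
      induction b using Quotient.inductionOn with | _ b => ?_
      intro e
      have e' : a * z * a⁻¹ = b * z * b⁻¹ := congrArg Subtype.val e
      refine QuotientGroup.eq.2 (hC ▸ mem_centralizer_singleton_iff.2 ?_)
      rw [show a⁻¹ * b * z = a⁻¹ * (b * z * b⁻¹) * b by group, ← e']
      group
    · rintro ⟨v, hv⟩
      obtain ⟨c, hc⟩ := isConj_iff.1 (L.one_class z v hz hv)
      exact ⟨QuotientGroup.mk c, Subtype.ext hc⟩
  have hS : S.index = M.index * q := by
    rw [← relIndex_mul_index L.le, show S.relIndex M = q from rfl, mul_comm]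
  -- the bound for each coset
  have hin : ∀ {u : G}, orderOf u = 2 → u * u = 1 := fun hu => by rw [← pow_two, ← hu, pow_orderOf_eq_one]
  have hD : ∀ u : G, u ∉ M → Nat.card ↥(meet M u) ∣ q := fun u hu => L.card_odd inf_le_left (L.meet_odd h hu)
  have hmem : ∀ {u v : G}, orderOf u = 2 → orderOf v = 2 → u⁻¹ * v ∈ M → u * v ∈ meet M u := by
    intro u v hu hv huv
    have hui : u⁻¹ = u := inv_eq_of_mul_eq_one_right (hin hu)
    rw [hui] at huv
    refine mem_meet.2 ⟨huv, ?_⟩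
    have := inv_mem huv
    rw [mul_inv_rev, inv_eq_of_mul_eq_one_right (hin hv), hui] at this
    rwa [hui, ← mul_assoc, hin hu, one_mul]
  have hle : ∀ g : G, Nat.card (CosetInv M g) ≤ q := by
    intro g
    rcases isEmpty_or_nonempty (CosetInv M g) with he | ⟨⟨u, hu, hug⟩⟩
    · rw [Nat.card_eq_zero.2 (Or.inl he)]; exact Nat.zero_le q
    by_cases huM : u ∈ M
    · let f : CosetInv M g → ↥M ⧸ S.subgroupOf M → Prop := fun v c => ∃ m : ↥M, (m : ↥M ⧸ S.subgroupOf M) = c ∧
        (v : G) = m * z * (m : G)⁻¹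
      have hex : ∀ v : CosetInv M g, ∃ c, f v c := fun v => by
        have hvM : (v : G) ∈ M := by
          have := M.mul_mem (M.mul_mem huM hug) (inv_mem v.2.2)
          simpa [mul_assoc] using this
        obtain ⟨c, hc⟩ := isConj_iff.1 (L.one_class z v hz v.2.1)
        have hcM : c ∈ M := by
          by_contra hcM
          exact L.se c hcM v v.2.1 hvM (by rw [← hc]; simpa [mul_assoc] using hzM)
        exact ⟨_, ⟨c, hcM⟩, rfl, hc.symm⟩
      choose φ hφ using hex
      refine (Nat.card_le_card_of_injective φ fun v w e => ?_).trans (le_of_eq rfl)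
      obtain ⟨m, hm, hv⟩ := hφ v
      obtain ⟨m', hm', hw⟩ := hφ w
      refine Subtype.ext ?_
      have h1 : (m⁻¹ * m' : ↥M) ∈ S.subgroupOf M := QuotientGroup.eq.1 (hm.trans (e.trans hm'.symm))
      have h2 : (m : G)⁻¹ * m' ∈ centralizer ({z} : Set G) := hC.ge h1
      rw [hv, hw, show (m' : G) * z * (m' : G)⁻¹ = m * (((m : G)⁻¹ * m') * z) * (m' : G)⁻¹ by group,
        mem_centralizer_singleton_iff.1 h2]
      group
    · refine le_trans (Nat.card_le_card_of_injective
        (fun v : CosetInv M g => (⟨u * v, hmem hu v.2.1 ?_⟩ : ↥(meet M u))) fun v w e => ?_)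
        (Nat.le_of_dvd L.index_pos (hD u huM))
      · simpa [mul_assoc] using M.mul_mem hug (inv_mem v.2.2)
      · exact Subtype.ext (mul_left_cancel (congrArg Subtype.val e))
  -- the count
  have hsum : ∀ c : G ⧸ M, Nat.card (CosetInv M c.out) = q := by
    haveI := Fintype.ofFinite (G ⧸ M)
    have e : Nat.card {v : G // orderOf v = 2} = ∑ c : G ⧸ M, Nat.card (CosetInv M c.out) := by
      rw [← Nat.card_sigma]
      refine Nat.card_congr
        { toFun := fun v => ⟨QuotientGroup.mk v.1, v.1, v.2, QuotientGroup.eq.1 (QuotientGroup.out_eq' _).symm⟩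
          invFun := fun p => ⟨p.2.1, p.2.2.1⟩
          left_inv := fun v => rfl
          right_inv := ?_ }
      rintro ⟨c, v, hv, hvc⟩
      obtain rfl : QuotientGroup.mk v = c := (QuotientGroup.eq.2 hvc).trans (QuotientGroup.out_eq' c)
      rfl
    intro c
    by_contra hc
    have hlt : ∑ c : G ⧸ M, Nat.card (CosetInv M c.out) < ∑ _c : G ⧸ M, q :=
      Finset.sum_lt_sum (fun c _ => hle _) ⟨c, Finset.mem_univ c, lt_of_le_of_ne (hle _) hc⟩
    rw [← e, hI, hS, Finset.sum_const, Finset.card_univ, smul_eq_mul, ← Nat.card_eq_fintype_card] at hlt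
    exact hlt.ne rfl
  set g₀ := (QuotientGroup.mk g : G ⧸ M).out
  have hg₀ : g₀⁻¹ * g ∈ M := QuotientGroup.eq.1 (QuotientGroup.out_eq' _)
  have hcg : Nat.card (CosetInv M g₀) = q := hsum _
  obtain ⟨⟨u, hu, hug⟩⟩ : Nonempty (CosetInv M g₀) :=
    (Nat.card_pos_iff.1 (hcg.symm ▸ L.index_pos)).1
  have hug' : u⁻¹ * g ∈ M := by simpa [mul_assoc] using M.mul_mem hug hg₀
  have huM : u ∉ M := fun k => hg (by simpa using M.mul_mem k hug')
  let f : CosetInv M g₀ → ↥(meet M u) := fun v => ⟨u * v, hmem hu v.2.1 (by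
    simpa [mul_assoc] using M.mul_mem hug (inv_mem v.2.2))⟩
  have hf : Function.Injective f := fun v w e => Subtype.ext (mul_left_cancel (congrArg Subtype.val e))
  have hcardD : Nat.card ↥(meet M u) = q := le_antisymm (Nat.le_of_dvd L.index_pos (hD u huM))
    (hcg ▸ Nat.card_le_card_of_injective f hf)
  refine ⟨u, hu, hug', huM, hcardD, fun d hd => ?_⟩
  obtain ⟨v, hv⟩ := (hf.bijective_of_nat_card_le (by rw [hcardD, hcg])).2 ⟨d, hd⟩
  have e : d = u * v := (congrArg Subtype.val hv).symm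
  rw [e, mul_inv_rev, inv_eq_of_mul_eq_one_right (hin hu), inv_eq_of_mul_eq_one_right (hin v.2.1),
    ← mul_assoc u u, hin hu, one_mul]

/-- a subgroup inverted by one element is commutative -/
theorem meet_comm {u : G} (hinv : ∀ d ∈ meet M u, u * d * u⁻¹ = d⁻¹) {c d : G} (hc : c ∈ meet M u)
    (hd : d ∈ meet M u) : Commute c d := by
  have h1 := hinv (c * d) ((meet M u).mul_mem hc hd)
  rw [show u * (c * d) * u⁻¹ = (u * c * u⁻¹) * (u * d * u⁻¹) by group, hinv c hc, hinv d hd, ← mul_inv_rev,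
    inv_inj] at h1
  exact h1.symm

/-- An element of odd order fixing another point is not inverted inside the subgroup. -/
theorem not_inverted {u y m : G} (hu : u ∉ M) (hinv : ∀ d ∈ meet M u, u * d * u⁻¹ = d⁻¹)
    (hcard : Nat.card ↥(meet M u) = (S.subgroupOf M).index) (hy : y ∈ meet M u) (hy1 : y ≠ 1) (hm : m ∈ M)
    (e : m * y * m⁻¹ = y⁻¹) : False := by
  haveI := L.normal
  set K := S.subgroupOf M
  set π := QuotientGroup.mk' K
  let f : ↥(meet M u) →* ↥M ⧸ K := π.comp (inclusion inf_le_left)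
  have hker : ∀ d : ↥(meet M u), f d = 1 → (d : G) = 1 := fun d hd => by
    refine eq_one_of_two_odd (two_of_mem L.two ((QuotientGroup.eq_one_iff (inclusion inf_le_left d)).1 hd)) ?_
    rw [orderOf_coe]
    exact Odd.of_dvd_nat (Nat.odd_iff.2 (Nat.two_dvd_ne_zero.1 (L.meet_odd h hu))) (_root_.orderOf_dvd_natCard d)
  have hf : Function.Bijective f := by
    refine ((injective_iff_map_eq_one f).2 fun d hd => Subtype.ext (hker d hd)).bijective_of_nat_card_le ?_
    rw [hcard]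
    rfl
  obtain ⟨d, hd⟩ := hf.2 (π ⟨m, hm⟩)
  have hc : Commute (π ⟨m, hm⟩) (f ⟨y, hy⟩) := by
    rw [← hd]
    exact (show Commute d ⟨y, hy⟩ from Subtype.ext (L.meet_comm h hinv d.2 hy).eq).map f
  have h1 : f ((⟨y, hy⟩ : ↥(meet M u))⁻¹ * ⟨y, hy⟩⁻¹) = 1 := by
    rw [map_mul, map_inv]
    have : π ⟨m, hm⟩ * f ⟨y, hy⟩ * (π ⟨m, hm⟩)⁻¹ = (f ⟨y, hy⟩)⁻¹ := by
      show π _ * π _ * (π _)⁻¹ = (π _)⁻¹
      rw [← map_inv, ← map_mul, ← map_mul, ← map_inv]
      exact congrArg π (Subtype.ext e)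
    rw [hc.eq, mul_inv_cancel_right] at this
    conv_lhs => arg 1; rw [← this]
    rw [mul_inv_cancel]
  have h2 := hker _ h1
  push_cast at h2
  rw [← mul_inv_rev, inv_eq_one] at h2
  refine hy1 (eq_one_of_two_odd ?_ ?_)
  · by_cases h3 : y = 1
    · exact absurd h3 hy1
    · exact ⟨1, by rw [pow_one, orderOf_eq_prime (by rw [pow_two]; exact h2) h3]⟩
  · rw [← orderOf_mk y hy]
    exact Odd.of_dvd_nat (Nat.odd_iff.2 (Nat.two_dvd_ne_zero.1 (L.meet_odd h hu))) (_root_.orderOf_dvd_natCard _)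

theorem centralizer_eq {u y : G} (hu : u ∉ M) (hinv : ∀ d ∈ meet M u, u * d * u⁻¹ = d⁻¹)
    (hcard : Nat.card ↥(meet M u) = (S.subgroupOf M).index) (hy : y ∈ meet M u) (hy1 : y ≠ 1) :
    centralizer ({y} : Set G) = meet M u := by
  have hyM : y ∈ M := (mem_meet.1 hy).1
  have hle : meet M u ≤ centralizer ({y} : Set G) := fun d hd =>
    mem_centralizer_singleton_iff.2 (L.meet_comm h hinv hd hy).eq
  have hCM : centralizer ({y} : Set G) ≤ M := by
    intro p hp
    by_contra hpM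
    have hpy : p⁻¹ * y * p = y := by
      rw [mul_assoc, ← mem_centralizer_singleton_iff.1 hp, inv_mul_cancel_left]
    obtain ⟨v, hv, hvg, -, -, hi⟩ := L.exists_inverter h p hpM
    have hyD : y ∈ meet M v := mem_meet.2 ⟨hyM, by
      have : (v⁻¹ * p) * y * (v⁻¹ * p)⁻¹ ∈ M := M.mul_mem (M.mul_mem hvg hyM) (inv_mem hvg)
      rwa [show (v⁻¹ * p) * y * (v⁻¹ * p)⁻¹ = v⁻¹ * (p * y * p⁻¹) * v by group,
        mul_inv_eq_iff_eq_mul.2 (mem_centralizer_singleton_iff.1 hp)] at this⟩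
    refine L.not_inverted h hu hinv hcard hy hy1 (inv_mem hvg) ?_
    rw [show (v⁻¹ * p)⁻¹ * y * (v⁻¹ * p)⁻¹⁻¹ = p⁻¹ * (v * y * v⁻¹) * p by group, hi y hyD]
    rw [show p⁻¹ * y⁻¹ * p = (p⁻¹ * y * p)⁻¹ by group, hpy]
  have hyodd : Odd (orderOf y) := by
    rw [← orderOf_mk y hy]
    exact Odd.of_dvd_nat (Nat.odd_iff.2 (Nat.two_dvd_ne_zero.1 (L.meet_odd h hu))) (_root_.orderOf_dvd_natCard _)
  refine (eq_of_le_of_card_ge hle ?_).symm
  haveI : Fact (Nat.Prime 2) := ⟨Nat.prime_two⟩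
  have hodd : ¬ 2 ∣ Nat.card ↥(centralizer ({y} : Set G)) := fun hd => by
    obtain ⟨c, hc⟩ := exists_prime_orderOf_dvd_card' (G := ↥(centralizer ({y} : Set G))) 2 hd
    have hc1 : (c : G) ≠ 1 := fun e => by rw [← orderOf_coe, e, orderOf_one] at hc; omega
    exact hy1 (eq_one_of_two_odd (h.two_of_comm ⟨1, by rw [orderOf_coe, hc, pow_one]⟩ hc1
      (mem_centralizer_singleton_iff.1 c.2).symm) hyodd)
  rw [hcard]
  exact Nat.le_of_dvd L.index_pos (L.card_odd hCM hodd)

/-- a nontrivial element of `M` fixing another point -/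
theorem fixing {y g : G} (hy : y ∈ M) (hg : g ∉ M) (hyg : g⁻¹ * y * g ∈ M) :
    ∃ u, orderOf u = 2 ∧ u⁻¹ * g ∈ M ∧ u ∉ M ∧ Nat.card ↥(meet M u) = (S.subgroupOf M).index ∧
      y ∈ meet M u ∧ ∀ d ∈ meet M u, u * d * u⁻¹ = d⁻¹ := by
  obtain ⟨u, hu, hug, huM, hcard, hinv⟩ := L.exists_inverter h g hg
  refine ⟨u, hu, hug, huM, hcard, mem_meet.2 ⟨hy, ?_⟩, hinv⟩
  simpa [mul_assoc] using M.mul_mem (M.mul_mem hug hyg) (inv_mem hug)

/-- at most one further fixed point -/
theorem fixing_unique {y g g' : G} (hy : y ∈ M) (hy1 : y ≠ 1) (hg : g ∉ M) (hyg : g⁻¹ * y * g ∈ M)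
    (hg' : g' ∉ M) (hyg' : g'⁻¹ * y * g' ∈ M) : g⁻¹ * g' ∈ M := by
  obtain ⟨u, hu, hug, huM, hcard, hyu, hi⟩ := L.fixing h hy hg hyg
  obtain ⟨u', hu', hug', -, -, hyu', hi'⟩ := L.fixing h hy hg' hyg'
  have hc : u⁻¹ * u' ∈ centralizer ({y} : Set G) := by
    refine mem_centralizer_singleton_iff.2 ?_
    have e : u' * y * u'⁻¹ = u * y * u⁻¹ := (hi' y hyu').trans (hi y hyu).symm
    rw [show u⁻¹ * u' * y = u⁻¹ * (u' * y * u'⁻¹) * u' by group, e]
    group
  rw [L.centralizer_eq h huM hi hcard hyu hy1] at hc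
  simpa [mul_assoc] using M.mul_mem (M.mul_mem (inv_mem hug) (mem_meet.1 hc).1) hug'

/-- the intersections are conjugate complements -/
theorem conj_meet {u v : G} (hu : u ∉ M) (hv : v ∉ M) (hcu : Nat.card ↥(meet M u) = (S.subgroupOf M).index)
    (hcv : Nat.card ↥(meet M v) = (S.subgroupOf M).index) :
    ∃ m ∈ M, ∀ d ∈ meet M u, m * d * m⁻¹ ∈ meet M v := by
  haveI := L.normal
  haveI : Fact (Nat.Prime 2) := ⟨Nat.prime_two⟩
  set N := S.subgroupOf M
  have hN2 : IsPGroup 2 ↥N := L.two.comap_of_injective M.subtype M.subtype_injective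
  obtain ⟨k, hk⟩ := L.card_S
  have hcN : Nat.card ↥N = 2 ^ k := by rw [Nat.card_congr (subgroupOfEquivOfLe L.le).toEquiv, hk]
  have hcop : (Nat.card ↥N).Coprime N.index := by
    rw [hcN]
    exact Nat.Coprime.pow_left k ((Nat.prime_two.coprime_iff_not_dvd).2 L.odd)
  have compl : ∀ w : G, Nat.card ↥(meet M w) = (S.subgroupOf M).index →
      Subgroup.IsComplement' N ((meet M w).subgroupOf M) := fun w hc => by
    refine Subgroup.isComplement'_of_coprime ?_ ?_
    · rw [Nat.card_congr (subgroupOfEquivOfLe (show meet M w ≤ M from inf_le_left)).toEquiv, hc, card_mul_index]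
    · rw [Nat.card_congr (subgroupOfEquivOfLe (show meet M w ≤ M from inf_le_left)).toEquiv, hc]
      exact hcop
  obtain ⟨m, hm⟩ := Cfsg.Agent.S0001.result N hcop (Or.inl (by haveI := hN2.isNilpotent; infer_instance))
    _ _ (compl u hcu) (compl v hcv)
  refine ⟨m, m.2, fun d hd => ?_⟩
  have h1 : m * (⟨d, (mem_meet.1 hd).1⟩ : ↥M) * m⁻¹ ∈ (meet M v).subgroupOf M := by
    rw [← hm]
    exact ⟨⟨d, (mem_meet.1 hd).1⟩, hd, rfl⟩
  exact h1

/-- `M` is transitive on the other points -/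
theorem transitive {g g' : G} (hg : g ∉ M) (hg' : g' ∉ M) : ∃ m ∈ M, (m * g)⁻¹ * g' ∈ M := by
  obtain ⟨u, -, hug, huM, hcu, -⟩ := L.exists_inverter h g hg
  obtain ⟨u', -, hug', hu'M, hcu', -⟩ := L.exists_inverter h g' hg'
  obtain ⟨m, hm, hconj⟩ := L.conj_meet h huM hu'M hcu hcu'
  haveI : Nontrivial ↥(meet M u) := Finite.one_lt_card_iff_nontrivial.1 (hcu.symm ▸ L.one_lt_index)
  obtain ⟨⟨d, hd⟩, hd1⟩ := exists_ne (1 : ↥(meet M u))
  obtain ⟨hdM, hdu⟩ := mem_meet.1 hd
  obtain ⟨hd'M, hd'u⟩ := mem_meet.1 (hconj d hd)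
  have hd'1 : m * d * m⁻¹ ≠ 1 := fun e => hd1 (Subtype.ext (conj_eq_one_iff.1 e))
  have hdg : g⁻¹ * d * g ∈ M := by
    simpa [mul_assoc] using M.mul_mem (M.mul_mem (inv_mem hug) hdu) hug
  refine ⟨m, hm, L.fixing_unique h hd'M hd'1 (fun k => hg (by simpa using M.mul_mem (inv_mem hm) k)) ?_ hg' ?_⟩
  · simpa [mul_assoc] using hdg
  · simpa [mul_assoc] using M.mul_mem (M.mul_mem (inv_mem hug') hd'u) hug'

variable [IsSimpleGroup G]

/-- The group is a Zassenhaus group on the cosets. -/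
theorem zassenhaus : Cfsg.IsZassenhausGroup G (G ⧸ M) := by
  classical
  obtain ⟨g₀, -, hg₀⟩ : ∃ g : G, g ∈ (⊤ : Subgroup G) ∧ g ∉ M :=
    SetLike.exists_of_lt (lt_top_iff_ne_top.2 L.proper)
  set o : G ⧸ M := QuotientGroup.mk 1 with ho
  have hstab : ∀ g : G, (g • o = o ↔ g ∈ M) := fun g => by
    rw [ho, MulAction.Quotient.smul_mk, smul_eq_mul, mul_one, QuotientGroup.eq, mul_one, inv_mem_iff]
  have hstab' : ∀ g a : G, (g • (QuotientGroup.mk a : G ⧸ M) = QuotientGroup.mk a ↔ a⁻¹ * g * a ∈ M) := fun g a => by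
    rw [MulAction.Quotient.smul_mk, smul_eq_mul, QuotientGroup.eq, ← inv_mem_iff]
    group
  have htrans : ∀ a : G ⧸ M, ∃ g : G, g • o = a := fun a => MulAction.exists_smul_eq G o a
  have hfaith : FaithfulSMul G (G ⧸ M) := by
    refine ⟨fun {a b} hab => ?_⟩
    rcases IsSimpleGroup.eq_bot_or_eq_top_of_normal (MulAction.toPermHom G (G ⧸ M)).ker inferInstance with e | e
    · exact (MonoidHom.ker_eq_bot_iff _).1 e (Equiv.ext hab)
    · refine absurd ((hstab g₀).1 ?_) hg₀
      have h1 : (MulAction.toPermHom G (G ⧸ M)) g₀ = 1 := e.ge (mem_top g₀)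
      exact congrArg (fun p : Equiv.Perm (G ⧸ M) => p o) h1
  -- doubly transitive
  have h2 : MulAction.IsMultiplyPretransitive G (G ⧸ M) 2 := by
    rw [MulAction.is_two_pretransitive_iff]
    intro a b c d hab hcd
    obtain ⟨g, rfl⟩ := htrans a
    obtain ⟨g', rfl⟩ := htrans c
    induction b using Quotient.inductionOn with | _ b => ?_
    induction d using Quotient.inductionOn with | _ d => ?_
    have hb : g⁻¹ * b ∉ M := fun k => hab (by
      rw [ho, MulAction.Quotient.smul_mk, smul_eq_mul, mul_one]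
      exact QuotientGroup.eq.2 k)
    have hd : g'⁻¹ * d ∉ M := fun k => hcd (by
      rw [ho, MulAction.Quotient.smul_mk, smul_eq_mul, mul_one]
      exact QuotientGroup.eq.2 k)
    obtain ⟨m, hm, hmm⟩ := L.transitive h hb hd
    refine ⟨g' * m * g⁻¹, ?_, ?_⟩
    · rw [← mul_smul, inv_mul_cancel_right, mul_smul, (hstab m).2 hm]
    · show (g' * m * g⁻¹) • (QuotientGroup.mk b : G ⧸ M) = QuotientGroup.mk d
      rw [MulAction.Quotient.smul_mk, smul_eq_mul, QuotientGroup.eq]
      simpa [mul_assoc] using hmm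
  have h3 : ∀ g : G, ∀ a b c : G ⧸ M, a ≠ b → b ≠ c → a ≠ c → g • a = a → g • b = b → g • c = c → g = 1 := by
    intro g a b c hab hbc hac ga gb gc
    by_contra hg1
    obtain ⟨k, rfl⟩ := htrans a
    induction b using Quotient.inductionOn with | _ b => ?_
    induction c using Quotient.inductionOn with | _ c => ?_
    set g' := k⁻¹ * g * k
    have hg'M : g' ∈ M := (hstab g').1 (by
      simp only [g']
      rw [mul_smul, mul_smul, ga, inv_smul_smul])
    have hg'1 : g' ≠ 1 := fun e => hg1 (by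
      have : g = k * g' * k⁻¹ := by simp only [g']; group
      rw [this, e, mul_one, mul_inv_cancel])
    have hmv : ∀ e : G, k • o ≠ (QuotientGroup.mk e : G ⧸ M) → g • (QuotientGroup.mk e : G ⧸ M) = QuotientGroup.mk e →
        k⁻¹ * e ∉ M ∧ (k⁻¹ * e)⁻¹ * g' * (k⁻¹ * e) ∈ M := fun e he hge => by
      refine ⟨fun hk => he ?_, ?_⟩
      · rw [ho, MulAction.Quotient.smul_mk, smul_eq_mul, mul_one]
        exact QuotientGroup.eq.2 hk
      · simpa [g', mul_assoc] using (hstab' g e).1 hge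
    obtain ⟨hb1, hb2⟩ := hmv b hab gb
    obtain ⟨hc1, hc2⟩ := hmv c hac gc
    refine hbc (QuotientGroup.eq.2 ?_)
    simpa [mul_assoc] using L.fixing_unique h hg'M hg'1 hb1 hb2 hc1 hc2
  obtain ⟨u, hu, hug, huM, hcard, -⟩ := L.exists_inverter h g₀ hg₀
  haveI : Nontrivial ↥(meet M u) := Finite.one_lt_card_iff_nontrivial.1 (hcard.symm ▸ L.one_lt_index)
  obtain ⟨⟨d, hd⟩, hd1⟩ := exists_ne (1 : ↥(meet M u))
  obtain ⟨hdM, hdu⟩ := mem_meet.1 hd
  have h4 : ∃ g : G, g ≠ 1 ∧ ∃ a b : G ⧸ M, a ≠ b ∧ g • a = a ∧ g • b = b := by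
    refine ⟨d, fun e => hd1 (Subtype.ext e), o, QuotientGroup.mk u, fun e => huM ?_, (hstab d).2 hdM,
      (hstab' d u).2 hdu⟩
    rw [ho, QuotientGroup.eq, inv_one, one_mul] at e
    exact e
  have h5 : ∀ N : Subgroup G, N.Normal → MulAction.IsPretransitive N (G ⧸ M) →
      ∃ a : G ⧸ M, MulAction.stabilizer N a ≠ ⊥ := by
    intro N hN hNt
    have hNtop : N = ⊤ := by
      refine (IsSimpleGroup.eq_bot_or_eq_top_of_normal N hN).resolve_left fun e => ?_
      obtain ⟨n, hn⟩ := hNt.exists_smul_eq o (QuotientGroup.mk g₀)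
      have hn1 : (n : G) = 1 := mem_bot.1 (e ▸ n.2)
      have hn' : (n : G) • o = QuotientGroup.mk g₀ := hn
      rw [hn1, one_smul, ho, QuotientGroup.eq, inv_one, one_mul] at hn'
      exact hg₀ hn'
    refine ⟨o, fun e => hd1 ?_⟩
    have h1 : (⟨d, hNtop ▸ mem_top d⟩ : ↥N) ∈ MulAction.stabilizer (↥N) o := (hstab d).2 hdM
    rw [e, mem_bot] at h1
    exact Subtype.ext (congrArg Subtype.val h1 :)
  exact ⟨hfaith, h2, h3, h4, h5⟩

/-- a linear group or simple of Suzuki order -/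
theorem exists_psl_or_suzuki :
    (∃ (F : Type) (_ : Field F) (_ : Fintype F), Nonempty (G ≃* Matrix.ProjectiveSpecialLinearGroup (Fin 2) F)) ∨
      Cfsg.IsSuzuki G :=
  Cfsg.Agent.S0340.result (G := G) (Ω := G ⧸ M) (L.zassenhaus h)

end Closed

end Cfsg.Lib.CITGroups
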