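import Cfsg.Agent.CITGroups.Amalgam
import Cfsg.Agent.PrimePowerOrders.Four
import Cfsg.Agent.SelfCentNC.Structure

/-!
Without a self-centralising four-group and without the plane configuration, the normaliser of a Sylow subgroup
for the prime two is strongly embedded.
-/

set_option autoImplicit false
set_option linter.unusedSectionVars false
set_option linter.style.haveILetI false

namespace Cfsg.Lib.CITGroups

open Subgroup Cfsg.Lib.PrimePowerOrders

variable {G : Type*} [Group G] [Finite G]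

/-- neither of the two configurations of the amalgam -/
def NoPair (G : Type*) [Group G] [Finite G] : Prop :=
  (∀ V : Subgroup G, Nat.card ↥V = 4 → (∀ v ∈ V, v * v = 1) → centralizer (V : Set G) ≠ V) ∧
    ∀ M V M' A T W : Subgroup G, ¬ Flag M V M' A T W

/-- a strongly embedded normaliser of a Sylow subgroup -/
structure Closed (M S : Subgroup G) : Prop where
  two : IsPGroup 2 ↥S
  ne : S ≠ ⊥
  le : S ≤ M
  norm : ∀ m ∈ M, ∀ v ∈ S, m * v * m⁻¹ ∈ S
  proper : M ≠ ⊤
  self : ∀ g : G, (∀ m ∈ M, g * m * g⁻¹ ∈ M) → g ∈ M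
  ne_self : M ≠ S
  odd : ¬ 2 ∣ (S.subgroupOf M).index
  inv : ∀ v : G, orderOf v = 2 → v ∈ M → v ∈ S ∧ ∀ s ∈ S, Commute v s
  cent : ∀ v g : G, orderOf v = 2 → v ∈ M → Commute g v → g ∈ M
  se : ∀ g : G, g ∉ M → ∀ v : G, orderOf v = 2 → v ∈ M → g⁻¹ * v * g ∉ M
  one_class : ∀ v w : G, orderOf v = 2 → orderOf w = 2 → IsConj v w

variable (h : CIT G) [IsSimpleGroup G] (hna : ¬ IsMulCommutative G) (hno : NoPair G)
include h hna hno

/-- A maximal 2-subgroup of a maximal local subgroup is a Sylow subgroup of the whole group. -/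
theorem sylow_of_local {M R T₀ : Subgroup G} (L : MaxLocal M R) (hT₀M : T₀ ≤ M) (hT₀ : IsPGroup 2 ↥T₀) :
    ∃ S : Sylow 2 G, T₀ ≤ (S : Subgroup G) ∧ (S : Subgroup G) ≤ M := by
  haveI : Fact (Nat.Prime 2) := ⟨Nat.prime_two⟩
  obtain ⟨T, hT₀T, hTM, hT, hTmax⟩ := exists_max_two hT₀M hT₀
  obtain ⟨S, hTS⟩ := hT.exists_le_sylow
  rcases eq_or_lt_of_le hTS with e | hlt
  · exact ⟨S, e ▸ hT₀T, e ▸ hTM⟩
  exfalso
  haveI := S.2.isNilpotent
  have hsub : T.subgroupOf (S : Subgroup G) < ⊤ := lt_top_iff_ne_top.2 fun e =>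
    hlt.not_ge (subgroupOf_eq_top.1 e)
  obtain ⟨s', hs'n, hs'T⟩ := SetLike.exists_of_lt (normalizerCondition_of_isNilpotent _ hsub)
  set s : G := (s' : G)
  have hsT : s ∉ T := hs'T
  have hsn : ∀ v ∈ T, s * v * s⁻¹ ∈ T := fun v hv => nrm_conj hs'n (v := ⟨v, hTS hv⟩) hv
  have hsM : s ∉ M := by
    intro hsM
    have h1 := hTmax (T ⊔ zpowers s) (sup_le hTM (zpowers_le.2 hsM))
      (S.2.to_le (sup_le hTS (zpowers_le.2 s'.2))) le_sup_left
    exact hsT (h1 ▸ mem_sup_right (mem_zpowers s))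
  have hRT : R ≤ T := L.le_sylow hTM hT hTmax
  by_cases hTR : T ≤ R
  · exact hsM (L.norm.le (mem_nrm fun v hv => hTR (hsn v (hRT hv))))
  set c : G ≃* G := MulAut.conj s
  set M' := M.map c.toMonoidHom
  set R' := R.map c.toMonoidHom
  have hne : M ≠ M' := fun e => hsM (L.self_norm fun m hm => e ▸ ⟨m, hm, rfl⟩)
  have hRT' : R' ≤ T := by
    rintro _ ⟨v, hv, rfl⟩
    exact hsn v (hRT hv)
  have hTM' : T ≤ M' := fun v hv => by
    refine conj_mem_map.2 (hTM ?_)
    have := nrm_conj (inv_mem (mem_nrm hsn)) hv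
    rwa [inv_inv] at this
  have hTR' : ¬ T ≤ R' := fun hle => hTR fun v hv => by
    have h1 := conj_mem_map.1 (hle (hsn v hv))
    simpa [mul_assoc] using h1
  have hmax' : ∀ T' : Subgroup G, T' ≤ M' → IsPGroup 2 ↥T' → T ≤ T' → T' = T := by
    intro T' hT'M hT' hle
    have hcard : Nat.card ↥T' ≤ Nat.card ↥T := by
      have h1 := hTmax (T'.map (MulAut.conj s⁻¹).toMonoidHom) ?_ (hT'.map _) ?_
      · rw [← h1, card_map_of_injective (MulAut.conj s⁻¹).injective]
      · rintro _ ⟨v, hv, rfl⟩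
        simpa [mul_assoc] using conj_mem_map.1 (hT'M hv)
      · intro v hv
        exact conj_mem_map.2 (by simpa using hle (hsn v hv))
    exact (eq_of_le_of_card_ge hle hcard).symm
  rcases amalgam h ⟨L, hT, hTM, hTmax⟩ ⟨L.map c, hT, hTM', hmax'⟩ hne hTR hTR' with ⟨V, h4, hsq, hC⟩ | ⟨_, _, _, _, _, _, hF⟩
  exacts [hno.1 V h4 hsq hC, hno.2 _ _ _ _ _ _ hF]

/-- Two maximal local subgroups containing a common Sylow subgroup coincide. -/
theorem unique_local (S : Sylow 2 G) {M₁ R₁ M₂ R₂ : Subgroup G} (L₁ : MaxLocal M₁ R₁) (L₂ : MaxLocal M₂ R₂)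
    (hS₁ : (S : Subgroup G) ≤ M₁) (hS₂ : (S : Subgroup G) ≤ M₂) : M₁ = M₂ := by
  have key : ∀ {M R : Subgroup G}, MaxLocal M R → (S : Subgroup G) ≤ M → R ≤ (S : Subgroup G) := fun L hS =>
    L.le_sylow hS S.2 fun T' _ hT' hle => S.is_maximal' hT' hle
  have closed : ∀ {M R : Subgroup G}, MaxLocal M R → (S : Subgroup G) ≤ R → M = normalizer ((S : Subgroup G) : Set G) :=
    fun {M R} L hle => by
      rw [← L.norm, S.is_maximal' L.two hle]
  have mixed : ∀ {M R M' R' : Subgroup G}, MaxLocal M R → MaxLocal M' R' → (S : Subgroup G) ≤ M →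
      ¬ (S : Subgroup G) ≤ R → (S : Subgroup G) ≤ R' → M = M' := by
    intro M R M' R' L L' hS hR hR'
    have hle : M' ≤ M := by
      rw [closed L' hR']
      intro y hy
      by_contra hyM
      set c : G ≃* G := MulAut.conj y
      have hback : ∀ v ∈ (S : Subgroup G), y⁻¹ * v * y ∈ (S : Subgroup G) := fun v hv => by
        have := nrm_conj (inv_mem hy) hv
        rwa [inv_inv] at this
      have hne : M ≠ M.map c.toMonoidHom := fun e => hyM (L.self_norm fun m hm => e ▸ ⟨m, hm, rfl⟩)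
      rcases amalgam h ⟨L, S.2, hS, fun T' _ hT' hle => S.is_maximal' hT' hle⟩
        ⟨L.map c, S.2, fun v hv => conj_mem_map.2 (hS (hback v hv)), fun T' _ hT' hle => S.is_maximal' hT' hle⟩ hne hR
        (fun hle => hR fun v hv => by
          simpa [mul_assoc] using conj_mem_map.1 (hle (nrm_conj hy hv))) with ⟨V, h4, hsq, hC⟩ | ⟨_, _, _, _, _, _, hF⟩
      exacts [hno.1 V h4 hsq hC, hno.2 _ _ _ _ _ _ hF]
    have h1 := L'.max R L.two L.ne (hle.trans L.norm.ge)
    rw [L.norm] at h1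
    exact h1
  by_cases h1 : (S : Subgroup G) ≤ R₁
  · by_cases h2 : (S : Subgroup G) ≤ R₂
    · rw [closed L₁ h1, closed L₂ h2]
    · exact (mixed L₂ L₁ hS₂ h2 h1).symm
  · by_cases h2 : (S : Subgroup G) ≤ R₂
    · exact mixed L₁ L₂ hS₁ h1 h2
    · by_contra hne
      rcases amalgam h ⟨L₁, S.2, hS₁, fun T' _ hT' hle => S.is_maximal' hT' hle⟩
        ⟨L₂, S.2, hS₂, fun T' _ hT' hle => S.is_maximal' hT' hle⟩ hne h1 h2 with ⟨V, h4, hsq, hC⟩ | ⟨_, _, _, _, _, _, hF⟩
      exacts [hno.1 V h4 hsq hC, hno.2 _ _ _ _ _ _ hF]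

/-- Without the two configurations there is a strongly embedded Sylow normaliser. -/
theorem exists_closed : ∃ M S : Subgroup G, Closed M S := by
  classical
  haveI : Fact (Nat.Prime 2) := ⟨Nat.prime_two⟩
  have hev := Cfsg.Lib.SelfCentNC.card_even hna
  obtain ⟨S⟩ : Nonempty (Sylow 2 G) := inferInstance
  have hSne : (S : Subgroup G) ≠ ⊥ := S.ne_bot_of_dvd_card hev
  obtain ⟨M, R, L, hNS⟩ := exists_maxLocal hna S.2 hSne
  have hSM : (S : Subgroup G) ≤ M := le_normalizer.trans hNS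
  -- all maximal local subgroups are conjugate
  have conjTo : ∀ {M' R' : Subgroup G}, MaxLocal M' R' → ∃ k : G, M' = M.map (MulAut.conj k).toMonoidHom := by
    intro M' R' L'
    obtain ⟨P, -, hPM⟩ := sylow_of_local h hna hno L' bot_le IsPGroup.of_bot
    obtain ⟨k, hk⟩ := MulAction.exists_smul_eq G S P
    refine ⟨k, unique_local h hna hno P L' (L.map (MulAut.conj k)) hPM ?_⟩
    rw [← hk, Sylow.coe_subgroup_smul]
    rintro _ ⟨v, hv, rfl⟩
    exact ⟨v, hSM hv, rfl⟩
  have mapeq : ∀ k : G, M.map (MulAut.conj k).toMonoidHom = M → k ∈ M := fun k e =>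
    L.self_norm fun m hm => e ▸ ⟨m, hm, rfl⟩
  -- strong embedding
  have hse : ∀ g : G, g ∉ M → ∀ v : G, orderOf v = 2 → v ∈ M → g⁻¹ * v * g ∉ M := by
    intro g₀ hg₀ v hv hvM hgv
    obtain ⟨D, ⟨hD, hDM, g, hg, hDg⟩, hDmax⟩ := Set.exists_max_image
      {D : Subgroup G | IsPGroup 2 ↥D ∧ D ≤ M ∧ ∃ g ∉ M, D ≤ M.map (MulAut.conj g).toMonoidHom}
      (fun D => Nat.card ↥D) (Set.toFinite _)
      ⟨zpowers v, IsPGroup.of_card (n := 1) (by rw [Nat.card_zpowers, hv, pow_one]), zpowers_le.2 hvM,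
        g₀, hg₀, zpowers_le.2 (conj_mem_map.2 hgv)⟩
    have hDne : D ≠ ⊥ := by
      intro e
      have h1 : Nat.card ↥(zpowers v) ≤ Nat.card ↥D :=
        hDmax _ ⟨IsPGroup.of_card (n := 1) (by rw [Nat.card_zpowers, hv, pow_one]), zpowers_le.2 hvM,
          g₀, hg₀, zpowers_le.2 (conj_mem_map.2 hgv)⟩
      rw [Nat.card_zpowers, hv, e, card_bot] at h1
      omega
    have hnS : ∀ P : Sylow 2 G, (P : Subgroup G) ≠ D := by
      intro P e
      have key := unique_local h hna hno P L (L.map (MulAut.conj g)) (e ▸ hDM) (e ▸ hDg)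
      exact hg (mapeq g key.symm)
    have grow : ∀ {M' R' : Subgroup G}, MaxLocal M' R' → D ≤ M' →
        ∃ s, s ∈ M' ∧ s ∉ D ∧ s ∈ normalizer (D : Set G) ∧ IsPGroup 2 ↥(D ⊔ zpowers s) := by
      intro M' R' L' hD'
      obtain ⟨P, hDP, hPM⟩ := sylow_of_local h hna hno L' hD' hD
      haveI := P.2.isNilpotent
      have hlt : D < (P : Subgroup G) := lt_of_le_of_ne hDP fun e => hnS P e.symm
      have hsub : D.subgroupOf (P : Subgroup G) < ⊤ := lt_top_iff_ne_top.2 fun e =>
        hlt.not_ge (subgroupOf_eq_top.1 e)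
      obtain ⟨s, hsn, hsD⟩ := SetLike.exists_of_lt (normalizerCondition_of_isNilpotent _ hsub)
      exact ⟨s, hPM s.2, hsD, mem_nrm fun w hw => nrm_conj hsn (v := ⟨w, hDP hw⟩) hw,
        P.2.to_le (sup_le hDP (zpowers_le.2 s.2))⟩
    have bigger : ∀ {s k : G}, s ∉ D → IsPGroup 2 ↥(D ⊔ zpowers s) → D ⊔ zpowers s ≤ M →
        D ⊔ zpowers s ≤ M.map (MulAut.conj k).toMonoidHom → k ∈ M := by
      intro s k hs hp h1 h2
      by_contra hk
      have h3 := hDmax _ ⟨hp, h1, k, hk, h2⟩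
      exact hs ((eq_of_le_of_card_ge (le_sup_left : D ≤ D ⊔ zpowers s) h3).ge (mem_sup_right (mem_zpowers s)))
    obtain ⟨M₁, R₁, L₁, hND⟩ := exists_maxLocal hna hD hDne
    obtain ⟨k, rfl⟩ := conjTo L₁
    have hDk : D ≤ M.map (MulAut.conj k).toMonoidHom := le_normalizer.trans hND
    obtain ⟨s, hsM, hsD, hsn, hp⟩ := grow L hDM
    have hk := bigger hsD hp (sup_le hDM (zpowers_le.2 hsM)) (sup_le hDk (zpowers_le.2 (hND hsn)))
    have hkeq : M.map (MulAut.conj k).toMonoidHom = M := by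
      ext w
      rw [conj_mem_map]
      exact ⟨fun hw => by simpa [mul_assoc] using M.mul_mem (M.mul_mem hk hw) (inv_mem hk),
        fun hw => M.mul_mem (M.mul_mem (inv_mem hk) hw) hk⟩
    rw [hkeq] at hND
    obtain ⟨t, htM, htD, htn, hp'⟩ := grow (L.map (MulAut.conj g)) hDg
    exact hg (bigger htD hp' (sup_le hDM (zpowers_le.2 (hND htn))) (sup_le hDg (zpowers_le.2 htM)))
  have hfus : ∀ g v : G, orderOf v = 2 → v ∈ M → g⁻¹ * v * g ∈ M → g ∈ M := fun g v hv hvM hgv => by
    by_contra hg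
    exact hse g hg v hv hvM hgv
  have hcent : ∀ v g : G, orderOf v = 2 → v ∈ M → Commute g v → g ∈ M := fun v g hv hvM hgv =>
    hfus g v hv hvM (by rwa [mul_assoc, ← hgv.eq, inv_mul_cancel_left])
  -- involutions
  obtain ⟨z, hzS, hz, hzc⟩ := exists_central S.2 hSne
  have hzM := hSM hzS
  have hconjM : ∀ v : G, orderOf v = 2 → ∃ c : G, c⁻¹ * v * c ∈ M ∧ orderOf (c⁻¹ * v * c) = 2 := fun v hv => by
    obtain ⟨P, hP⟩ := IsPGroup.exists_le_sylow (IsPGroup.of_card (n := 1) (by rw [Nat.card_zpowers, hv, pow_one]) :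
      IsPGroup 2 ↥(zpowers v))
    obtain ⟨c, hc⟩ := MulAction.exists_smul_eq G S P
    refine ⟨c, ?_, ?_⟩
    · have h1 := hP (mem_zpowers v)
      rw [← hc, Sylow.coe_subgroup_smul] at h1
      obtain ⟨w, hw, e⟩ := h1
      rw [← e]
      simpa [mul_assoc] using hSM hw
    · have : c⁻¹ * v * c = MulAut.conj c⁻¹ v := by simp
      rw [this, MulEquiv.orderOf_eq, hv]
  obtain ⟨w, hw, hwM⟩ : ∃ w : G, orderOf w = 2 ∧ w ∉ M := by
    by_contra hcon
    push Not at hcon
    refine L.proper (top_le_iff.1 fun g _ => hfus g z hz hzM (hcon _ ?_))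
    have : g⁻¹ * z * g = MulAut.conj g⁻¹ z := by simp
    rw [this, MulEquiv.orderOf_eq, hz]
  have hsq : ∀ {v : G}, orderOf v = 2 → v * v = 1 := fun hv => by rw [← pow_two, ← hv, pow_orderOf_eq_one]
  have hinw : ∀ v : G, orderOf v = 2 → v ∈ M → IsConj w v := by
    intro v hv hvM
    refine conj_of_odd (hsq hv) (hsq hw) ?_
    by_contra hodd
    rw [Nat.not_odd_iff_even, even_iff_two_dvd] at hodd
    set a := v * w
    set c := a ^ (orderOf a / 2)
    have hc : orderOf c = 2 := orderOf_pow_orderOf_div (orderOf_pos a).ne' hodd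
    have hci : c⁻¹ = c := inv_eq_of_mul_eq_one_right (hsq hc)
    have hvi : v⁻¹ = v := inv_eq_of_mul_eq_one_right (hsq hv)
    have hwi : w⁻¹ = w := inv_eq_of_mul_eq_one_right (hsq hw)
    have hva : v * a * v⁻¹ = a⁻¹ := by
      simp only [a]
      rw [mul_inv_rev, hvi, hwi, ← mul_assoc, hsq hv, one_mul]
    have hwa : w * a * w⁻¹ = a⁻¹ := by
      simp only [a]
      rw [mul_inv_rev, hvi, hwi, show w * (v * w) * w = w * v * (w * w) by group, hsq hw, mul_one]
    have hcm : ∀ y : G, y * a * y⁻¹ = a⁻¹ → Commute y c := fun y hy => by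
      have : y * c * y⁻¹ = c := by rw [← conj_pow, hy, inv_pow, hci]
      exact mul_inv_eq_iff_eq_mul.1 this
    exact hwM (hcent c w hc (hcent v c hv hvM (hcm v hva).symm) (hcm w hwa))
  have hall : ∀ v : G, orderOf v = 2 → IsConj v z := fun v hv => by
    obtain ⟨c, hcM, hco⟩ := hconjM v hv
    exact (isConj_iff.2 ⟨c⁻¹, by rw [inv_inv]⟩ : IsConj v (c⁻¹ * v * c)).trans
      ((hinw _ hco hcM).symm.trans (hinw z hz hzM))
  have hinM : ∀ v : G, orderOf v = 2 → v ∈ M → ∃ m ∈ M, v = m * z * m⁻¹ := fun v hv hvM => by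
    obtain ⟨c, hc⟩ := isConj_iff.1 (hall v hv).symm
    exact ⟨c, hfus c v hv hvM (by rw [← hc]; simpa [mul_assoc] using hzM), hc.symm⟩
  -- the subgroup is closed
  have hRS : R ≤ (S : Subgroup G) := L.le_sylow hSM S.2 fun T' _ hT' hle => S.is_maximal' hT' hle
  obtain ⟨u, huR, hu, -⟩ := exists_central L.two L.ne
  have hin : ∀ v : G, orderOf v = 2 → v ∈ M → v ∈ R := fun v hv hvM => by
    obtain ⟨m₁, hm₁, e₁⟩ := hinM u hu (L.le huR)
    obtain ⟨m₂, hm₂, rfl⟩ := hinM v hv hvM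
    rw [show m₂ * z * m₂⁻¹ = (m₂ * m₁⁻¹) * u * (m₂ * m₁⁻¹)⁻¹ by rw [e₁]; group]
    exact L.conjR (M.mul_mem hm₂ (inv_mem hm₁)) huR
  have hSR : (S : Subgroup G) ≤ R := by
    by_contra hSR
    have L' : Setup M R (S : Subgroup G) := ⟨L, S.2, hSM, fun T' _ hT' hle => S.is_maximal' hT' hle⟩
    obtain ⟨t, htS, htR, htt⟩ : ∃ t ∈ (S : Subgroup G), t ∉ R ∧ t * t ∈ R := by
      obtain ⟨t₀, ht₀S, ht₀R⟩ := SetLike.not_le_iff_exists.1 hSR
      obtain ⟨i, hi⟩ := two_of_mem S.2 ht₀S
      have hex : ∃ j, t₀ ^ 2 ^ j ∈ R := ⟨i, by rw [← hi, pow_orderOf_eq_one]; exact R.one_mem⟩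
      have hf := Nat.find_spec hex
      rcases hj : Nat.find hex with _ | j
      · rw [hj, pow_zero, pow_one] at hf
        exact absurd hf ht₀R
      · refine ⟨t₀ ^ 2 ^ j, pow_mem ht₀S _, Nat.find_min hex (by omega), ?_⟩
        rw [hj, pow_succ, pow_mul, pow_two] at hf
        exact hf
    have htM := hSM htS
    obtain ⟨g, hg, hfix⟩ := L'.exists_partner h htM (two_of_mem S.2 htS) htR
    set b := g * t * g⁻¹ with hbdef
    have hbM : b ∈ M := M.mul_mem (M.mul_mem hg htM) (inv_mem hg)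
    have hbb : b * b ∈ R := by
      rw [show b * b = g * (t * t) * g⁻¹ by simp only [hbdef]; group]
      exact L.conjR hg htt
    have hconj : t * (t * b) * t⁻¹ * (t * b) ∈ R := by
      rw [show t * (t * b) * t⁻¹ * (t * b) = (t * t) * ((b * b)) by group]
      exact R.mul_mem htt hbb
    have hback : ∀ {c v : G}, c ∈ M → v ∈ R → c⁻¹ * v * c ∈ R := fun hc hv => by
      simpa using L.conjR (inv_mem hc) hv
    have htwo : ¬ Two (t * b) := by
      intro h2
      obtain ⟨i, hi⟩ := h2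
      set U := R ⊔ zpowers (t * b)
      have hUM : U ≤ M := sup_le L.le (zpowers_le.2 (M.mul_mem htM hbM))
      have hU : IsPGroup 2 ↥U := L.two.to_sup_of_normal_left'
        (IsPGroup.of_card (n := i) (by rw [Nat.card_zpowers, hi])) (zpowers_le.2 (L.norm.ge (M.mul_mem htM hbM)))
      have htU : t ∈ normalizer (U : Set G) := mem_nrm fun v hv => by
        have hle : U.map (MulAut.conj t).toMonoidHom ≤ U := by
          rw [Subgroup.map_sup, MonoidHom.map_zpowers]
          refine sup_le ?_ (zpowers_le.2 ?_)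
          · rintro _ ⟨r, hr, rfl⟩
            exact mem_sup_left (L.conjR htM hr)
          · show t * (t * b) * t⁻¹ ∈ U
            rw [← mul_inv_cancel_right (t * (t * b) * t⁻¹) (t * b)]
            exact mul_mem (mem_sup_left hconj) (inv_mem (mem_sup_right (mem_zpowers (t * b))))
        exact hle ⟨v, hv, rfl⟩
      have hP := conj_two_sup hU (two_of_mem S.2 htS) htU
      obtain ⟨w, hw, hw1, hwP⟩ := exists_fixed hP ((omega_le R).trans (le_sup_left.trans le_sup_left))
        (omega_ne_bot L.two L.ne) fun p hp v hv =>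
          L'.cm_mem ((sup_le hUM (zpowers_le.2 htM) : U ⊔ zpowers t ≤ M) hp) hv
      have hbP : b ∈ U ⊔ zpowers t := by
        rw [← inv_mul_cancel_left t b]
        exact mul_mem (inv_mem (mem_sup_right (mem_zpowers t))) (mem_sup_left (mem_sup_right (mem_zpowers _)))
      exact hw1 (hfix w (omega_le R hw) (hwP t (mem_sup_right (mem_zpowers t))).symm (hwP b hbP).symm)
    obtain ⟨p, n, hp, hp2, hn⟩ := exists_odd_prime htwo
    haveI := Fact.mk hp
    set x := (t * b) ^ n with hxdef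
    have hxM : x ∈ M := pow_mem (M.mul_mem htM hbM) n
    -- a representative inverting the element of odd order
    haveI := L.normal
    set π := QuotientGroup.mk' (R.subgroupOf M)
    set t' : ↥M := ⟨t, htM⟩
    set x' : ↥M := ⟨x, hxM⟩
    have hx' : π t' * π x' * (π t')⁻¹ = (π x')⁻¹ := by
      have h1 : π t' * π ⟨t * b, M.mul_mem htM hbM⟩ * (π t')⁻¹ = (π ⟨t * b, M.mul_mem htM hbM⟩)⁻¹ := by
        refine eq_inv_of_mul_eq_one_left ?_
        rw [← map_inv, ← map_mul, ← map_mul, ← map_mul]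
        exact (QuotientGroup.eq_one_iff _).2 hconj
      have e : x' = (⟨t * b, M.mul_mem htM hbM⟩ : ↥M) ^ n := Subtype.ext (by simp [x', hxdef])
      rw [e, map_pow, ← conj_pow, h1, inv_pow]
    have hstep : ∀ v : ↥M, π v = π t' → π (x' * v * x') = π t' := fun v hv => by
      rw [map_mul, map_mul, hv, show π x' * π t' * π x' = π x' * (π t' * π x' * (π t')⁻¹) * π t' by group, hx',
        mul_inv_cancel, one_mul]
    letI : MulAction ↥(zpowers x') {v : ↥M // π v = π t'} :=
      { smul := fun g v => ⟨(g : ↥M) * v * g, by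
          obtain ⟨i, hi⟩ := mem_powers_iff_mem_zpowers.2 g.2
          rw [← hi]
          show π (x' ^ i * v * x' ^ i) = π t'
          clear hi
          induction i with
          | zero => simpa using v.2
          | succ i ih =>
            rw [show x' ^ (i + 1) * (v : ↥M) * x' ^ (i + 1) = x' * (x' ^ i * v * x' ^ i) * x' by
              conv_lhs => arg 1; rw [pow_succ']
              rw [pow_succ]; group]
            exact hstep _ ih⟩
        one_smul := fun v => Subtype.ext (by show ((1 : ↥(zpowers x')) : ↥M) * v * _ = v; simp)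
        mul_smul := fun g g' v => Subtype.ext (by
          show ((g * g' : ↥(zpowers x')) : ↥M) * v * ((g * g' : ↥(zpowers x')) : ↥M) =
            g * (g' * v * g') * g
          have hc : (g : ↥M) * g' = g' * g := congrArg Subtype.val (mul_comm' g g')
          push_cast
          conv_lhs => arg 2; rw [hc]
          group
          ) }
    have hP : IsPGroup p ↥(zpowers x') := IsPGroup.of_card (n := 1) (by
      rw [Nat.card_zpowers, ← orderOf_coe, pow_one]; exact hn)
    have hcard : Nat.card {v : ↥M // π v = π t'} = Nat.card ↥(R.subgroupOf M) := by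
      refine Nat.card_congr
        { toFun := fun v => ⟨t'⁻¹ * v, QuotientGroup.eq.1 v.2.symm⟩
          invFun := fun r => ⟨t' * r, by
            rw [map_mul, show π (r : ↥M) = 1 from (QuotientGroup.eq_one_iff _).2 r.2, mul_one]⟩
          left_inv := fun v => Subtype.ext (mul_inv_cancel_left _ _)
          right_inv := fun r => Subtype.ext (inv_mul_cancel_left _ _) }
    have hnd : ¬ p ∣ Nat.card {v : ↥M // π v = π t'} := by
      rw [hcard]
      intro hd
      obtain ⟨i, hi⟩ := IsPGroup.iff_card.1 (L.two.comap_of_injective M.subtype M.subtype_injective :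
        IsPGroup 2 ↥(R.subgroupOf M))
      rw [show Nat.card ↥(R.subgroupOf M) = 2 ^ i from hi] at hd
      exact hp2 ((Nat.prime_dvd_prime_iff_eq hp Nat.prime_two).1 (hp.dvd_of_dvd_pow hd))
    obtain ⟨⟨v, hv⟩, hvfix⟩ := hP.nonempty_fixed_point_of_prime_not_dvd_card _ hnd
    have hfix' : x * (v : G) * x = v :=
      congrArg (fun w : {v : ↥M // π v = π t'} => ((w : ↥M) : G)) (hvfix ⟨x', mem_zpowers x'⟩)
    have hvR : (v : G) ∉ R := fun hh => htR <| (QuotientGroup.eq_one_iff t').1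
      (show π t' = 1 from hv.symm.trans ((QuotientGroup.eq_one_iff v).2 hh))
    have hvv : (v : G) * v ∈ R := (QuotientGroup.eq_one_iff (v * v)).1 (show π (v * v) = 1 by
      rw [map_mul, hv, ← map_mul]
      exact (QuotientGroup.eq_one_iff _).2 htt)
    have hcomm : Commute x ((v : G) * v) := by
      show x * ((v : G) * v) = (v : G) * v * x
      calc x * ((v : G) * v) = x * v * x * (x⁻¹ * v) := by group
        _ = (v : G) * (x⁻¹ * (v : G)) := by rw [hfix']
        _ = (v : G) * (x⁻¹ * (x * v * x)) := by rw [hfix']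
        _ = _ := by group
    have hv2 : (v : G) ^ 2 = 1 := by
      rw [pow_two]
      exact h.comm_two hp hp2 hn (two_of_mem L.two hvv) hcomm
    exact hvR (hin v (orderOf_eq_prime hv2 fun e => hvR (by rw [e]; exact R.one_mem)) v.2)
  have hRS' : R = (S : Subgroup G) := le_antisymm hRS hSR
  have hnorm : ∀ m ∈ M, ∀ v ∈ (S : Subgroup G), m * v * m⁻¹ ∈ (S : Subgroup G) := fun m hm v hv =>
    hRS' ▸ L.conjR hm (hRS'.symm ▸ hv)
  have hinv : ∀ v : G, orderOf v = 2 → v ∈ M → v ∈ (S : Subgroup G) ∧ ∀ s ∈ (S : Subgroup G), Commute v s := by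
    intro v hv hvM
    obtain ⟨m, hm, rfl⟩ := hinM v hv hvM
    refine ⟨hnorm m hm z hzS, fun s hs => ?_⟩
    have hback : m⁻¹ * s * m ∈ (S : Subgroup G) := by simpa using hnorm m⁻¹ (inv_mem hm) s hs
    have := (hzc _ hback).map (MulAut.conj m).toMonoidHom
    simpa [mul_assoc] using this
  have hMne : M ≠ (S : Subgroup G) := by
    intro e
    refine Cfsg.Lib.SelfCentNC.exists_two_involutions hna S fun a b ha hb => ?_
    have hkey : ∀ v : G, orderOf v = 2 → v ∈ (S : Subgroup G) → v = z := fun v hv hvS => by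
      obtain ⟨m, hm, rfl⟩ := hinM v hv (hSM hvS)
      rw [(hzc m (e ▸ hm)).symm.symm.eq.symm, mul_inv_cancel_right]
    rw [show b = a from Subtype.ext ((hkey _ (by rw [orderOf_coe, hb]) b.2).trans
      (hkey _ (by rw [orderOf_coe, ha]) a.2).symm)]
    exact mem_zpowers a
  exact ⟨M, S, ⟨S.2, hSne, hSM, hnorm, L.proper, fun g hg => L.self_norm hg, hMne,
    fun hd => (S.subtype hSM).not_dvd_index (by rw [Sylow.coe_subtype]; exact hd), hinv, hcent, hse,
    fun v w hv hw => (hall v hv).trans (hall w hw).symm⟩⟩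

end Cfsg.Lib.CITGroups
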