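import Cfsg.Agent.CITGroups.PlaneCount
import Cfsg.Agent.AutThreeFour.AutPGL
import Mathlib.FieldTheory.Finite.GaloisField

/-!
The plane configuration in a simple group gives the projective special linear group of dimension three over four
elements.
-/

set_option autoImplicit false
set_option linter.unusedSectionVars false
set_option linter.style.haveILetI false

namespace Cfsg.Lib.CITGroups

open Subgroup Cfsg.Lib.PrimePowerOrders Cfsg.Lib.AutThreeFour

variable {G : Type*} [Group G] [Finite G]

theorem conj_injective [IsSimpleGroup G] (hna : ¬ IsMulCommutative G) :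
    Function.Injective (MulAut.conj : G →* MulAut G) := by
  rw [← MonoidHom.ker_eq_bot_iff]
  refine (IsSimpleGroup.eq_bot_or_eq_top_of_normal _ inferInstance).resolve_right fun e => hna ⟨⟨fun a b => ?_⟩⟩
  have h1 : MulAut.conj a = (1 : MulAut G) := (MonoidHom.mem_ker).1 (e.ge (mem_top a))
  have h2 := DFunLike.congr_fun h1 b
  simp only [MulAut.conj_apply, MulAut.one_apply] at h2
  exact mul_inv_eq_iff_eq_mul.1 h2

namespace Flag

variable {M V M' A T W : Subgroup G} (F : Flag M V M' A T W) (h : CIT G) [IsSimpleGroup G]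
  (hna : ¬ IsMulCommutative G)
include F h hna

theorem exists_pair : Nonempty (PairData G) := by
  obtain ⟨z, hz, hz1⟩ := F.left.exists_mem_W
  refine ⟨{ A := V, B := A, z := z, zA := F.W_le_V hz, zB := F.W_le_A hz, zne := hz1, A_sq := F.elemV,
            B_sq := F.left.elem, card_A := F.cardV, card_B := F.cardA,
            all_conj := fun x hx hx1 => F.all_conj h hna hx hx1 hz hz1,
            mem_cases := fun x hx hxz => ?_, not_cj := F.not_cj h hna, card_inter := ?_, comm := ?_,
            card_invol := ?_, self_cent := ?_ }⟩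
  · exact F.sq_cases h ((F.cent_eq h hna hz hz1).le (mem_centralizer_singleton_iff.2 hxz)) hx
  · rw [inf_comm, F.inter, F.card]
  · intro a ha b hb hab hba
    have haV : a ∈ omega V := by rw [F.omegaV]; exact ha
    have hc : cm b a ∈ W := F.left.cmW b hb a haV
    have hc' : a * b * a⁻¹ * b⁻¹ = (cm b a)⁻¹ := (cm_inv b a).symm
    refine ⟨fun e => hab (F.W_le_A (F.left.fix b hb hba a haV e.symm)), ?_, ?_⟩
    · rw [hc']; exact inv_mem (F.W_le_V hc)
    · rw [hc']; exact inv_mem (F.W_le_A hc)
  · rw [← (F.card_invol h hna).1]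
    refine Nat.card_congr (Equiv.subtypeEquivRight fun x => ⟨fun hx => ?_, fun hx => ⟨?_, fun e => ?_⟩⟩)
    · exact orderOf_eq_prime (by rw [pow_two]; exact hx.1) hx.2
    · rw [← pow_two, ← hx, pow_orderOf_eq_one]
    · rw [e, orderOf_one] at hx; omega
  · intro c hc
    have hcM : c ∈ M := F.normV.le (centralizer_le_normalizer _ hc)
    exact F.left.toSetup.cent_omega h hcM fun v hv => (mem_centralizer_iff.1 hc v (omega_le V hv)).symm

/-- **The plane case.** -/
theorem exists_psl_three : ∃ (K : Type) (_ : Field K) (_ : Fintype K), Fintype.card K = 4 ∧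
    Nonempty (G ≃* Matrix.ProjectiveSpecialLinearGroup (Fin 3) K) := by
  classical
  haveI : Fact (Nat.Prime 2) := ⟨Nat.prime_two⟩
  let K := GaloisField 2 2
  letI : Fintype K := Fintype.ofFinite K
  have hK : Fintype.card K = 4 := by
    rw [← Nat.card_eq_fintype_card, GaloisField.card 2 2 (by norm_num)]; norm_num
  haveI := charTwo hK
  let P := Matrix.ProjectiveSpecialLinearGroup (Fin 3) K
  haveI : IsSimpleGroup P := Cfsg.Lib.Classical.isSimpleGroup_PSL_fin (by norm_num) (by norm_num)
  have hP : Nat.card P = 20160 := Cfsg.Lib.LThreeFourPar.card_psl_four hK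
  have hnaP : ¬ IsMulCommutative P := fun hc => by
    letI : CommGroup P := { (inferInstance : Group P) with mul_comm := fun a b => mul_comm' a b }
    have h1 : (Nat.card P).Prime := IsSimpleGroup.prime_card
    rw [hP] at h1
    norm_num at h1
  obtain ⟨D⟩ := F.exists_pair h hna
  obtain ⟨f, hf⟩ := D.exists_embedding
  obtain ⟨f', hf'⟩ := (pairDataP hK).exists_embedding
  have hcardG : Nat.card G = 20160 := (F.card_invol h hna).2
  have h2 := card_planeGroup
  have h3 := Nat.card_le_card_of_injective f' hf'
  rw [card_mulAut_psl hK] at h3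
  let e : MulAut P ≃* planeGroup := MulEquiv.ofBijective f'
    ((Nat.bijective_iff_injective_and_card f').2 ⟨hf', by rw [card_mulAut_psl hK]; omega⟩)
  let ψ : G →* MulAut P := e.symm.toMonoidHom.comp (f.comp MulAut.conj)
  have hψ : Function.Injective ψ := e.symm.injective.comp (hf.comp (conj_injective hna))
  let I : Subgroup (MulAut P) := (MulAut.conj : P →* MulAut P).range
  haveI hI : I.Normal := ⟨by
    rintro _ ⟨p, rfl⟩ α
    refine ⟨α p, MulEquiv.ext fun u => ?_⟩
    show α p * u * (α p)⁻¹ = α (p * α.symm u * p⁻¹)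
    rw [map_mul, map_mul, map_inv, MulEquiv.apply_symm_apply]⟩
  have hIc : Nat.card ↥I = 20160 := by
    rw [← Nat.card_congr (MonoidHom.ofInjective (conj_injective hnaP)).toEquiv, hP]
  have hidx : I.index = 12 := by
    have h4 := I.card_mul_index
    rw [hIc, card_mulAut_psl hK] at h4
    omega
  have hker : ((QuotientGroup.mk' I).comp ψ).ker = ⊤ := by
    refine (IsSimpleGroup.eq_bot_or_eq_top_of_normal _ inferInstance).resolve_left fun e1 => ?_
    have h5 := Nat.card_le_card_of_injective _ ((MonoidHom.ker_eq_bot_iff _).1 e1)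
    rw [hcardG] at h5
    change 20160 ≤ I.index at h5
    omega
  have hmem : ∀ g, ψ g ∈ I := fun g => (QuotientGroup.eq_one_iff _).1 (MonoidHom.mem_ker.1 (hker.ge (mem_top g)))
  let ι : G →* I := ψ.codRestrict I hmem
  have hι : Function.Bijective ι := (Nat.bijective_iff_injective_and_card ι).2
    ⟨fun a b k => hψ (congrArg Subtype.val k), by rw [hcardG, hIc]⟩
  exact ⟨K, inferInstance, inferInstance, hK,
    ⟨(MulEquiv.ofBijective ι hι).trans (MonoidHom.ofInjective (conj_injective hnaP)).symm⟩⟩

end Flag

end Cfsg.Lib.CITGroups
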