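import Cfsg.Agent.CITGroups.Closed
import Cfsg.Agent.CITGroups.Plane
import Cfsg.Agent.SelfCentNC.PSL

/-!
Simple groups in which the centraliser of every involution is a 2-group.
-/

set_option autoImplicit false
set_option linter.unusedSectionVars false
set_option linter.style.haveILetI false

namespace Cfsg.Lib.CITGroups

open Subgroup Cfsg.Lib.PrimePowerOrders

variable {G : Type*} [Group G] [Finite G] [IsSimpleGroup G]

theorem psl_card {F : Type} [Field F] [Fintype F] (h : CIT (Matrix.ProjectiveSpecialLinearGroup (Fin 2) F)) :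
    Fintype.card F = 9 ∨ (∃ n : ℕ, Fintype.card F = 2 ^ n) ∨
      ((Fintype.card F).Prime ∧ ∃ k : ℕ, Fintype.card F = 2 ^ k + 1 ∨ Fintype.card F + 1 = 2 ^ k) := by
  obtain ⟨p, -, f, hp, hpf⟩ := FiniteField.card' F
  by_cases hp2 : p = 2
  · subst hp2
    exact Or.inr (Or.inl ⟨f, hpf⟩)
  have hodd : Odd (Fintype.card F) := by rw [hpf]; exact (hp.odd_of_ne_two hp2).pow
  obtain ⟨k, hk⟩ := Cfsg.Lib.SelfCentNC.psl_two_power hodd h
  rcases Cfsg.Lib.SelfCentNC.prime_or_nine hp hp2 f.ne_zero (hpf ▸ hk) with h1 | h1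
  · exact Or.inr (Or.inr ⟨hpf ▸ h1, k, hk⟩)
  · exact Or.inl (hpf.trans h1)

/-- The classification, with any property which the Zassenhaus alternative guarantees in place of the last one. -/
theorem classification_of (S : Prop) (hS : ∀ (M : Subgroup G), Cfsg.IsZassenhausGroup G (G ⧸ M) →
      (∃ (F : Type) (_ : Field F) (_ : Fintype F), Nonempty (G ≃* Matrix.ProjectiveSpecialLinearGroup (Fin 2) F)) ∨ S)
     (h : CIT G) (hna : ¬ IsMulCommutative G) :
    (∃ (F : Type) (_ : Field F) (_ : Fintype F),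
        (Fintype.card F = 9 ∨ (∃ n : ℕ, Fintype.card F = 2 ^ n) ∨
          ((Fintype.card F).Prime ∧ ∃ k : ℕ, Fintype.card F = 2 ^ k + 1 ∨ Fintype.card F + 1 = 2 ^ k)) ∧
        Nonempty (G ≃* Matrix.ProjectiveSpecialLinearGroup (Fin 2) F)) ∨
    (∃ (F : Type) (_ : Field F) (_ : Fintype F), Fintype.card F = 4 ∧
        Nonempty (G ≃* Matrix.ProjectiveSpecialLinearGroup (Fin 3) F)) ∨
    S := by
  have key : (∃ (F : Type) (_ : Field F) (_ : Fintype F),
        Nonempty (G ≃* Matrix.ProjectiveSpecialLinearGroup (Fin 2) F)) ∨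
      (∃ (F : Type) (_ : Field F) (_ : Fintype F), Fintype.card F = 4 ∧
        Nonempty (G ≃* Matrix.ProjectiveSpecialLinearGroup (Fin 3) F)) ∨ S := by
    by_cases hfour : ∃ V : Subgroup G, Nat.card ↥V = 4 ∧ (∀ v ∈ V, v * v = 1) ∧ centralizer (V : Set G) = V
    · obtain ⟨V, h4, hsq, hC⟩ := hfour
      obtain ⟨F, i1, i2, -, hiso⟩ := exists_psl_of_four' h hna V h4 hsq hC
      exact Or.inl ⟨F, i1, i2, hiso⟩
    by_cases hflag : ∃ M V M' A T W : Subgroup G, Flag M V M' A T W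
    · obtain ⟨M, V, M', A, T, W, F⟩ := hflag
      exact Or.inr (Or.inl (F.exists_psl_three h hna))
    push Not at hfour hflag
    obtain ⟨M, S, L⟩ := exists_closed h hna ⟨hfour, hflag⟩
    exact (hS M (L.zassenhaus h)).imp_right Or.inr
  rcases key with ⟨F, i1, i2, ⟨e⟩⟩ | h3
  · refine Or.inl ⟨F, i1, i2, psl_card ?_, ⟨e⟩⟩
    intro t ht
    haveI : Fact (Nat.Prime 2) := ⟨Nat.prime_two⟩
    rw [IsPGroup.iff_orderOf]
    rintro ⟨g, hg⟩
    rw [orderOf_mk, ← e.symm.orderOf_eq g]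
    refine h.two_of_comm (s := e.symm t) ⟨1, by rw [e.symm.orderOf_eq, ht, pow_one]⟩ (fun e1 => ?_) ?_
    · rw [← e.symm.orderOf_eq, e1, orderOf_one] at ht
      omega
    · have hc : Commute g t := mem_centralizer_singleton_iff.1 hg
      exact hc.map e.symm.toMonoidHom
  · exact Or.inr h3

/-- **The classification.** -/
theorem classification (h : CIT G) (hna : ¬ IsMulCommutative G) :
    (∃ (F : Type) (_ : Field F) (_ : Fintype F),
        (Fintype.card F = 9 ∨ (∃ n : ℕ, Fintype.card F = 2 ^ n) ∨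
          ((Fintype.card F).Prime ∧ ∃ k : ℕ, Fintype.card F = 2 ^ k + 1 ∨ Fintype.card F + 1 = 2 ^ k)) ∧
        Nonempty (G ≃* Matrix.ProjectiveSpecialLinearGroup (Fin 2) F)) ∨
    (∃ (F : Type) (_ : Field F) (_ : Fintype F), Fintype.card F = 4 ∧
        Nonempty (G ≃* Matrix.ProjectiveSpecialLinearGroup (Fin 3) F)) ∨
    Cfsg.IsSuzuki G :=
  classification_of _ (fun M hZ => Cfsg.Agent.S0340.result (G := G) (Ω := G ⧸ M) hZ) h hna

end Cfsg.Lib.CITGroups
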