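import Cfsg.Agent.CITGroups.Main
import Cfsg.Agent.SuzukiUnique.Zassenhaus
import Cfsg.Agent.S0205
import Cfsg.Agent.Components.Cores
import Cfsg.Agent.InvolCalc.Dihedral
import Cfsg.Agent.LocalThree.SymEightLocal.Centres
import Cfsg.Agent.Classical.Misc.SmallPSL
import Cfsg.Agent.LThreeFour.Parabolic

/-!
Nonsolvable groups in which every centraliser of an involution is a 2-group.
-/

set_option autoImplicit false
set_option linter.unusedSectionVars false
set_option linter.style.haveILetI false

namespace Cfsg.Lib.CITGroups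

open Subgroup Cfsg.Lib.PrimePowerOrders

variable {G : Type*} [Group G] [Finite G]

theorem even_of_nonsolvable (hns : ¬ Group.IsSolvable G) : ∃ t : G, orderOf t = 2 := by
  haveI : Fact (Nat.Prime 2) := ⟨Nat.prime_two⟩
  refine exists_prime_orderOf_dvd_card' 2 ?_
  by_contra h
  exact hns (Cfsg.Agent.S0205.result (Nat.odd_iff.2 (Nat.two_dvd_ne_zero.1 h)))

/-- A nonsolvable such group has no normal subgroup of odd order. -/
theorem CIT.odd_normal (h : CIT G) (hns : ¬ Group.IsSolvable G) (N : Subgroup G) [N.Normal]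
    (hodd : Odd (Nat.card N)) : N = ⊥ := by
  haveI : Fact (Nat.Prime 2) := ⟨Nat.prime_two⟩
  by_contra hN
  obtain ⟨w, hw, hw1⟩ := (nontrivial_iff_exists_ne_one N).1 ((nontrivial_iff_ne_bot N).2 hN)
  obtain ⟨t, ht⟩ := even_of_nonsolvable hns
  have odd_ord : ∀ x ∈ N, Odd (orderOf x) := fun x hx =>
    hodd.of_dvd_nat (Subgroup.orderOf_dvd_natCard N hx)
  have hinv : ∀ s : G, orderOf s = 2 → ∀ x ∈ N, s * x * s⁻¹ = x⁻¹ := fun s hs =>
    Cfsg.Lib.SymEightLocal.invert_of_fpf N s (by rw [← pow_two, ← hs, pow_orderOf_eq_one])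
      (fun x hx => Subgroup.Normal.conj_mem inferInstance x hx s) fun x hx hc =>
      eq_one_of_two_odd (h.two_of_comm ⟨1, by rw [hs, pow_one]⟩
        (fun e => by rw [e, orderOf_one] at hs; omega) hc.symm) (odd_ord x hx)
  -- the centraliser of `N` has odd order
  set C := centralizer (N : Set G)
  haveI : C.Normal := inferInstance
  have hC : Odd (Nat.card C) := by
    rw [Nat.odd_iff, ← Nat.two_dvd_ne_zero]
    intro h2
    obtain ⟨⟨c, hc⟩, hco⟩ := exists_prime_orderOf_dvd_card' (G := C) 2 h2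
    rw [orderOf_mk] at hco
    exact hw1 (eq_one_of_two_odd (h.two_of_comm ⟨1, by rw [hco, pow_one]⟩
      (fun e => by rw [e, orderOf_one] at hco; omega) (mem_centralizer_iff.1 hc w hw)) (odd_ord w hw))
  haveI : Group.IsSolvable C := Cfsg.Agent.S0205.result hC
  set π := QuotientGroup.mk' C
  have hprod : ∀ s u : G, orderOf s = 2 → orderOf u = 2 → s * u ∈ C := fun s u hs hu =>
    mem_centralizer_iff.2 fun x hx => by
      have h1 := hinv u hu x hx
      have h2 := hinv s hs _ (N.inv_mem hx)
      rw [inv_inv, ← h1] at h2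
      exact (mul_inv_eq_iff_eq_mul.1 (show (s * u) * x * (s * u)⁻¹ = x from Eq.trans (by group) h2)).symm
  have hsurj : ((centralizer ({t} : Set G))).map π = ⊤ := by
    refine top_le_iff.1 fun v _ => ?_
    obtain ⟨g, rfl⟩ := QuotientGroup.mk'_surjective C v
    have hg : orderOf (g * t * g⁻¹) = 2 := by rw [← MulAut.conj_apply, MulEquiv.orderOf_eq, ht]
    have hm := hprod _ _ ht hg
    obtain ⟨d, hd, hde⟩ := Cfsg.Lib.InvolCalc.conj_of_odd ht hg
      (hC.of_dvd_nat (Subgroup.orderOf_dvd_natCard C hm))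
    have h1 : π d ∈ (centralizer ({t} : Set G)).map π := by
      have htC : t ∈ centralizer ({t} : Set G) := mem_centralizer_singleton_iff.2 rfl
      refine (show (closure ({t, g * t * g⁻¹} : Set G)).map π ≤ _ from ?_) (mem_map_of_mem π hd)
      rw [MonoidHom.map_closure, closure_le]
      rintro _ ⟨z, hz, rfl⟩
      simp only [Set.mem_insert_iff, Set.mem_singleton_iff] at hz
      rcases hz with rfl | rfl
      · exact mem_map_of_mem π htC
      · refine ⟨t, htC, ?_⟩
        have e1 : π (t * (g * t * g⁻¹)) = 1 := (QuotientGroup.eq_one_iff _).2 hm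
        rw [map_mul, mul_eq_one_iff_inv_eq] at e1
        rw [← e1, ← map_inv, inv_eq_of_mul_eq_one_right (show t * t = 1 by rw [← pow_two, ← ht, pow_orderOf_eq_one])]
    have h2 : d⁻¹ * g ∈ centralizer ({t} : Set G) := by
      refine mem_centralizer_singleton_iff.2 ?_
      calc d⁻¹ * g * t = d⁻¹ * (g * t * g⁻¹) * g := by group
        _ = t * (d⁻¹ * g) := by rw [← hde]; group
    have h3 := mul_mem h1 (mem_map_of_mem π h2)
    rwa [← map_mul, mul_inv_cancel_left] at h3
  refine hns ?_
  haveI : Group.IsSolvable (G ⧸ C) := by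
    haveI := (h t ht).isNilpotent
    exact Group.isSolvable_of_surjective (f := π.comp (centralizer ({t} : Set G)).subtype) (by
      rw [← MonoidHom.range_eq_top, MonoidHom.range_comp, range_subtype, hsurj])
  exact Group.isSolvable_of_ker_le_range C.subtype π (by rw [QuotientGroup.ker_mk', range_subtype])

/-- The socle of a nonsolvable such group without normal 2-subgroups is simple. -/
theorem CIT.exists_simple (h : CIT G) (hns : ¬ Group.IsSolvable G)
    (h2 : ∀ R : Subgroup G, R.Normal → IsPGroup 2 R → R = ⊥) :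
    ∃ N : Subgroup G, N.Normal ∧ IsSimpleGroup N ∧ ¬ IsMulCommutative N ∧ centralizer (N : Set G) = ⊥ := by
  haveI : Fact (Nat.Prime 2) := ⟨Nat.prime_two⟩
  haveI : Nontrivial G := not_subsingleton_iff_nontrivial.1 fun hs => hns inferInstance
  obtain ⟨N, -, hNn, hNne, hNmin⟩ := Coprime.exists_minimal_normal (G := G) (K := ⊤) inferInstance
    (top_ne_bot (α := Subgroup G))
  haveI := hNn
  have hNns : ¬ Group.IsSolvable N := fun hs => by
    obtain ⟨-, r, hr, hVp, -⟩ := Coprime.minimal_normal_solvable (N := N) hs hNne hNmin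
    rcases hr.eq_two_or_odd' with rfl | hr2
    · exact hNne (h2 N hNn hVp)
    · haveI := Fact.mk hr
      obtain ⟨k, hk⟩ := IsPGroup.iff_card.1 hVp
      exact hNne (h.odd_normal hns N (hk ▸ hr2.pow))
  -- a subgroup centralising a nontrivial element of two-power order
  have hcent : ∀ (M : Subgroup G) (x : G), orderOf x = 2 → (∀ c ∈ M, Commute c x) → IsPGroup 2 M :=
    fun M x hx hc => (h x hx).to_le fun c hcM => mem_centralizer_singleton_iff.2 (hc c hcM).eq
  have hO : ∀ M : Subgroup N, M.Normal → IsPGroup 2 M → M = ⊥ := fun M hM hp => by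
    haveI : (Cfsg.pCore 2 N).Characteristic := Cfsg.Lib.Components.pCore_characteristic
    have h1 := h2 _ (ConjAct.normal_of_characteristic_of_normal)
      ((Cfsg.Lib.Components.pCore_normal_and_isPGroup (G := N) 2).2.map N.subtype)
    rw [map_eq_bot_iff_of_injective _ N.subtype_injective] at h1
    exact le_bot_iff.1 (h1 ▸ le_sSup (show M ∈ {A : Subgroup N | A.Normal ∧ IsPGroup 2 A} from ⟨hM, hp⟩))
  have hNtriv : ∀ M : Subgroup N, M.Normal → M ≠ ⊥ → centralizer (M : Set N) = ⊥ := by
    intro M hM hne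
    haveI := hM
    have h2M : 2 ∣ Nat.card M := by
      by_contra hodd
      exact hne ((h.subgroup N).odd_normal hNns M (Nat.odd_iff.2 (Nat.two_dvd_ne_zero.1 hodd)))
    obtain ⟨⟨x, hx⟩, hxo⟩ := exists_prime_orderOf_dvd_card' (G := M) 2 h2M
    rw [orderOf_mk] at hxo
    exact hO _ inferInstance (((h.subgroup N) x hxo).to_le (centralizer_le (by simpa using hx)))
  haveI : Nontrivial N := (nontrivial_iff_ne_bot N).2 hNne
  obtain ⟨M, -, hMn, hMne, hMmin⟩ := Coprime.exists_minimal_normal (G := N) (K := ⊤) inferInstance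
    (top_ne_bot (α := Subgroup N))
  haveI := hMn
  have hconj : ∀ g : G, M.map (MulAut.conjNormal g : MulAut N).toMonoidHom = M := by
    intro g
    set M' := M.map (MulAut.conjNormal g : MulAut N).toMonoidHom
    haveI : M'.Normal := hMn.map _ (MulEquiv.surjective _)
    rcases hMmin (M ⊓ M') inferInstance inf_le_left with e | e
    · exfalso
      have hle : M' ≤ centralizer (M : Set N) := fun y hy => mem_centralizer_iff.2 fun x hx =>
        Subgroup.commute_of_normal_of_disjoint M M' inferInstance inferInstance (disjoint_iff.2 e) x y hx hy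
      rw [hNtriv M hMn hMne, le_bot_iff, map_eq_bot_iff_of_injective _ (MulEquiv.injective _)] at hle
      exact hMne hle
    · exact (eq_of_le_of_card_ge (inf_eq_left.1 e)
        (card_map_of_injective (K := M) (MulEquiv.injective _)).le).symm
  have hMtop : M = ⊤ := by
    have hn : (M.map N.subtype).Normal := ⟨fun v hv g => by
      obtain ⟨x, hx, rfl⟩ := hv
      exact ⟨MulAut.conjNormal g x, (hconj g).le (mem_map_of_mem _ hx), MulAut.conjNormal_apply g x⟩⟩
    rcases hNmin _ hn (map_subtype_le M) with e | e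
    · exact absurd ((map_eq_bot_iff_of_injective _ N.subtype_injective).1 e) hMne
    · exact map_injective N.subtype_injective (e.trans (by rw [← MonoidHom.range_eq_map, range_subtype]))
  refine ⟨N, hNn, ⟨fun K hK => ?_⟩, fun hc => hNns (by haveI := hc; exact Group.isSolvable_of_comm fun a b => hc.is_comm.comm a b), ?_⟩
  · haveI := hK
    rcases hMmin (M ⊓ K) inferInstance inf_le_left with e | e
    · exact Or.inl (by rwa [hMtop, top_inf_eq] at e)
    · exact Or.inr (by rwa [hMtop, top_inf_eq] at e)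
  · have h2N : 2 ∣ Nat.card N := by
      by_contra hodd
      exact hNns (Cfsg.Agent.S0205.result (Nat.odd_iff.2 (Nat.two_dvd_ne_zero.1 hodd)))
    obtain ⟨⟨x, hx⟩, hxo⟩ := exists_prime_orderOf_dvd_card' (G := N) 2 h2N
    rw [orderOf_mk] at hxo
    exact h2 _ inferInstance ((h x hxo).to_le (centralizer_le (by simpa using hx)))

theorem three_dvd_card_psl {F : Type} [Field F] [Fintype F] :
    3 ∣ Nat.card (Matrix.ProjectiveSpecialLinearGroup (Fin 2) F) := by
  have hc := Cfsg.Lib.Classical.SmallPSL.card_psl (F := F) rfl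
  have h3 : 3 ∣ Fintype.card F * (Fintype.card F ^ 2 - 1) := by
    generalize Fintype.card F = q
    rcases (show q % 3 = 0 ∨ q % 3 = 1 ∨ q % 3 = 2 by omega) with e | e | e
    · exact dvd_mul_of_dvd_left (Nat.dvd_of_mod_eq_zero e) _
    all_goals
      refine dvd_mul_of_dvd_right ?_ _
      have : q ^ 2 % 3 = 1 := by simp [Nat.pow_mod, e]
      omega
  rw [← hc] at h3
  refine (Nat.Coprime.dvd_mul_left ?_).1 h3
  refine (Nat.prime_three.coprime_iff_not_dvd).2 fun hd => ?_
  have := Nat.le_of_dvd two_pos (hd.trans (Nat.gcd_dvd_left _ _))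
  omega

/-- A simple such group of order prime to three is a Suzuki group. -/
theorem CIT.isoSuzuki [IsSimpleGroup G] (h : CIT G) (hna : ¬ IsMulCommutative G) (h3 : ¬ 3 ∣ Nat.card G) :
    Cfsg.Lie.IsoSuzuki G := by
  have hpsl : ∀ (F : Type) [Field F] [Fintype F], IsEmpty (G ≃* Matrix.ProjectiveSpecialLinearGroup (Fin 2) F) :=
    fun F _ _ => ⟨fun e => h3 (Nat.card_congr e.toEquiv ▸ three_dvd_card_psl)⟩
  by_cases hfour : ∃ V : Subgroup G, Nat.card ↥V = 4 ∧ (∀ v ∈ V, v * v = 1) ∧ centralizer (V : Set G) = V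
  · obtain ⟨V, h4, hsq, hC⟩ := hfour
    obtain ⟨F, i1, i2, -, ⟨e⟩⟩ := exists_psl_of_four' h hna V h4 hsq hC
    exact (hpsl F).elim e
  by_cases hflag : ∃ M V M' A T W : Subgroup G, Flag M V M' A T W
  · obtain ⟨M, V, M', A, T, W, F⟩ := hflag
    obtain ⟨K, i1, i2, hK, ⟨e⟩⟩ := F.exists_psl_three h hna
    refine absurd ?_ h3
    rw [Nat.card_congr e.toEquiv, Cfsg.Lib.LThreeFourPar.card_psl_four hK]
    norm_num
  push Not at hfour hflag
  obtain ⟨M, S, L⟩ := exists_closed h hna ⟨hfour, hflag⟩
  exact (Cfsg.Lib.SuzukiUnique.zassenhaus_iso (L.zassenhaus h)).resolve_left fun ⟨F, i1, i2, ⟨e⟩⟩ =>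
    (hpsl F).elim e

end Cfsg.Lib.CITGroups
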