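import Cfsg.Agent.CITGroups.Basic
import Cfsg.Agent.PrimePowerOrders.Global
import Cfsg.Agent.AutThreeFour.Incidence

/-!
A maximal local subgroup for the prime two in which some largest elementary abelian subgroup is not contained in
the largest normal 2-subgroup: the subgroup fixes a spread of its central elementary subgroup.
-/

set_option autoImplicit false
set_option linter.unusedSectionVars false
set_option linter.style.haveILetI false

namespace Cfsg.Lib.CITGroups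

open Subgroup Cfsg.Lib.PrimePowerOrders

variable {G : Type*} [Group G] [Finite G]

/-- the commutator of an element acting with one acted on -/
def cm (a v : G) : G := a * v * a⁻¹ * v⁻¹

theorem cm_eq_one {a v : G} : cm a v = 1 ↔ Commute a v := by
  rw [cm, mul_inv_eq_one, mul_inv_eq_iff_eq_mul]
  exact Iff.rfl

theorem cm_conj (g a v : G) : g * cm a v * g⁻¹ = cm (g * a * g⁻¹) (g * v * g⁻¹) := by
  simp only [cm]; group

/-- every element squares to the identity -/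
def Elem (A : Subgroup G) : Prop := ∀ a ∈ A, a * a = 1

theorem Elem.comm {A : Subgroup G} (hA : Elem A) {a b : G} (ha : a ∈ A) (hb : b ∈ A) : Commute a b :=
  AutThreeFour.comm_of_sq hA ha hb

theorem Elem.inv {A : Subgroup G} (hA : Elem A) {a : G} (ha : a ∈ A) : a⁻¹ = a :=
  inv_eq_of_mul_eq_one_right (hA a ha)

theorem Elem.two {A : Subgroup G} (hA : Elem A) : IsPGroup 2 ↥A := fun a =>
  ⟨1, Subtype.ext (by rw [pow_one, pow_two]; exact hA a a.2)⟩

theorem Elem.sup {A B : Subgroup G} (hA : Elem A) (hB : Elem B) (hc : ∀ a ∈ A, ∀ b ∈ B, Commute a b) :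
    Elem (A ⊔ B) := by
  let C : Subgroup G := (A ⊔ B) ⊓ centralizer ((A : Set G) ∪ B)
  have hle : A ⊔ B ≤ C := le_inf le_rfl (sup_le
    (fun a ha => mem_centralizer_iff.2 (by rintro x (hx | hx); exacts [(hA.comm hx ha).eq, (hc a ha x hx).symm.eq]))
    (fun b hb => mem_centralizer_iff.2 (by rintro x (hx | hx); exacts [(hc x hx b hb).eq, (hB.comm hx hb).eq])))
  have hcomm : ∀ x ∈ A ⊔ B, ∀ y ∈ A ⊔ B, Commute x y := by
    intro x hx y hy
    have hy' : A ⊔ B ≤ centralizer ({x} : Set G) := sup_le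
      (fun a ha => mem_centralizer_singleton_iff.2 (mem_centralizer_iff.1 (hle hx).2 a (Or.inl ha)))
      (fun b hb => mem_centralizer_singleton_iff.2 (mem_centralizer_iff.1 (hle hx).2 b (Or.inr hb)))
    exact (mem_centralizer_singleton_iff.1 (hy' hy)).symm
  let S : Subgroup G :=
    { carrier := {x | x ∈ A ⊔ B ∧ x * x = 1}
      one_mem' := ⟨one_mem _, one_mul 1⟩
      mul_mem' := by
        rintro x y ⟨hx, hx2⟩ ⟨hy, hy2⟩
        refine ⟨mul_mem hx hy, ?_⟩
        rw [show x * y * (x * y) = x * (y * x) * y by group, ← (hcomm x hx y hy).eq, show x * (x * y) * y = x * x * (y * y) by group, hx2, hy2, one_mul]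
      inv_mem' := by
        rintro x ⟨hx, hx2⟩
        exact ⟨inv_mem hx, by rw [← mul_inv_rev, hx2, inv_one]⟩ }
  exact fun x hx => ((sup_le (fun a ha => ⟨mem_sup_left ha, hA a ha⟩) (fun b hb => ⟨mem_sup_right hb, hB b hb⟩) :
    A ⊔ B ≤ S) hx).2

theorem elem_omega (R : Subgroup G) : Elem (omega R) := fun _ hv => hv.2.2

/-- two subgroups meeting in a third -/
theorem card_mul_le {X C B W : Subgroup G} (hmul : ∀ x ∈ X, ∀ c ∈ C, x * c ∈ B) (hW : X ⊓ C ≤ W) :
    Nat.card ↥X * Nat.card ↥C ≤ Nat.card ↥B * Nat.card ↥W := by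
  classical
  rw [← Nat.card_prod, ← Nat.card_prod]
  let m : ↥X × ↥C → ↥B := fun p => ⟨p.1 * p.2, hmul _ p.1.2 _ p.2.2⟩
  have hr : ∀ p : ↥X × ↥C, ((Function.invFun m (m p)).1 : G)⁻¹ * p.1 ∈ W := fun p => by
    set p' := Function.invFun m (m p)
    have e : (p'.1 : G) * p'.2 = p.1 * p.2 := congrArg Subtype.val (Function.invFun_eq (f := m) ⟨p, rfl⟩)
    refine hW ⟨X.mul_mem (inv_mem p'.1.2) p.1.2, ?_⟩
    rw [show (p'.1 : G)⁻¹ * p.1 = p'.2 * (p.2 : G)⁻¹ from by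
      rw [eq_mul_inv_iff_mul_eq, mul_assoc, ← e, inv_mul_cancel_left]]
    exact C.mul_mem p'.2.2 (inv_mem p.2.2)
  refine Nat.card_le_card_of_injective (fun p => (m p, (⟨_, hr p⟩ : ↥W))) fun p q e => ?_
  obtain ⟨e1, e2⟩ := Prod.ext_iff.1 e
  have e2' := congrArg Subtype.val e2
  simp only at e2'
  rw [show m p = m q from e1] at e2'
  have h1 := mul_left_cancel e2'
  have h2 : (p.1 : G) * p.2 = q.1 * q.2 := congrArg Subtype.val e1
  rw [h1] at h2
  exact Prod.ext (Subtype.ext h1) (Subtype.ext (mul_left_cancel h2))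

/-- In a 2-group repeated commutators with one element reach every subgroup. -/
theorem descent {P Y W : Subgroup G} (hP : IsPGroup 2 ↥P) {c : G} (hc : c ∈ P) (hYP : Y ≤ P)
    (hY : ∀ y ∈ Y, cm c y ∈ Y) {v : G} (hv : v ∈ Y) (hvW : v ∉ W) : ∃ y ∈ Y, y ∉ W ∧ cm c y ∈ W := by
  haveI : Fact (Nat.Prime 2) := ⟨Nat.prime_two⟩
  by_contra hcon
  push Not at hcon
  obtain ⟨n, hn⟩ := (Subgroup.nilpotent_iff_lowerCentralSeries).1 hP.isNilpotent
  have hind : ∀ k, ∃ y : ↥P, y ∈ (⊤ : Subgroup ↥P).lowerCentralSeries k ∧ (y : G) ∈ Y ∧ (y : G) ∉ W := by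
    intro k
    induction k with
    | zero => exact ⟨⟨v, hYP hv⟩, by rw [Subgroup.lowerCentralSeries_zero]; exact mem_top _, hv, hvW⟩
    | succ k ih =>
      obtain ⟨y, hyk, hyY, hyW⟩ := ih
      refine ⟨(⟨c, hc⟩ : ↥P) * y * (⟨c, hc⟩ : ↥P)⁻¹ * y⁻¹, ?_, hY (y : G) hyY, hcon (y : G) hyY hyW⟩
      rw [Subgroup.lowerCentralSeries_succ, commutator_comm]
      exact commutator_mem_commutator (mem_top _) hyk
  obtain ⟨y, hy, -, hyW⟩ := hind n
  rw [hn, mem_bot] at hy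
  exact hyW (by rw [hy]; exact W.one_mem)

/-- A 2-group fixes an element of each nontrivial subgroup it normalises. -/
theorem exists_fixed {P Y : Subgroup G} (hP : IsPGroup 2 ↥P) (hYP : Y ≤ P) (hne : Y ≠ ⊥)
    (hY : ∀ p ∈ P, ∀ y ∈ Y, cm p y ∈ Y) : ∃ y ∈ Y, y ≠ 1 ∧ ∀ p ∈ P, Commute p y := by
  haveI : Fact (Nat.Prime 2) := ⟨Nat.prime_two⟩
  by_contra hcon
  push Not at hcon
  obtain ⟨n, hn⟩ := (Subgroup.nilpotent_iff_lowerCentralSeries).1 hP.isNilpotent
  have hind : ∀ k, ∃ y : ↥P, y ∈ (⊤ : Subgroup ↥P).lowerCentralSeries k ∧ (y : G) ∈ Y ∧ (y : G) ≠ 1 := by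
    intro k
    induction k with
    | zero =>
      obtain ⟨v, hv, hv1⟩ : ∃ v ∈ Y, v ≠ (1 : G) := by
        by_contra hcon'
        push Not at hcon'
        exact hne ((eq_bot_iff_forall Y).2 hcon')
      exact ⟨⟨v, hYP hv⟩, by rw [Subgroup.lowerCentralSeries_zero]; exact mem_top _, hv, hv1⟩
    | succ k ih =>
      obtain ⟨y, hyk, hyY, hy1⟩ := ih
      obtain ⟨p, hp, hpy⟩ := hcon _ hyY hy1
      refine ⟨(⟨p, hp⟩ : ↥P) * y * (⟨p, hp⟩ : ↥P)⁻¹ * y⁻¹, ?_, hY p hp (y : G) hyY, fun e => hpy (cm_eq_one.1 e)⟩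
      rw [Subgroup.lowerCentralSeries_succ, commutator_comm]
      exact commutator_mem_commutator (mem_top _) hyk
  obtain ⟨y, hy, -, hy1⟩ := hind n
  rw [hn, mem_bot] at hy
  exact hy1 (by rw [hy]; rfl)

/-- a maximal local subgroup with one of its maximal 2-subgroups -/
structure Setup (M R T : Subgroup G) : Prop where
  loc : MaxLocal M R
  two : IsPGroup 2 ↥T
  le : T ≤ M
  max : ∀ T' : Subgroup G, T' ≤ M → IsPGroup 2 ↥T' → T ≤ T' → T' = T

namespace Setup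

variable {M R T : Subgroup G} (L : Setup M R T)
include L

theorem le_T : R ≤ T := L.loc.le_sylow L.le L.two L.max

theorem V_T : omega R ≤ T := (omega_le R).trans L.le_T

theorem cm_mem {g v : G} (hg : g ∈ M) (hv : v ∈ omega R) : cm g v ∈ omega R :=
  (omega R).mul_mem (L.loc.omega_normal hg hv) (inv_mem hv)

variable (h : CIT G)
include h

theorem cent_omega {c : G} (hc : c ∈ M) (hcV : ∀ v ∈ omega R, Commute c v) : c ∈ R := by
  obtain ⟨z, hz, hz1⟩ : ∃ z ∈ omega R, z ≠ (1 : G) := by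
    by_contra hcon
    push Not at hcon
    exact omega_ne_bot L.loc.two L.loc.ne ((eq_bot_iff_forall _).2 hcon)
  refine L.loc.o2 (M ⊓ centralizer (omega R : Set G)) inf_le_left
    ((h.isPGroup_centralizer (two_of_mem L.loc.two (omega_le R hz)) hz1).to_le
      (inf_le_right.trans (centralizer_le (Set.singleton_subset_iff.2 hz)))) ?_
    ⟨hc, mem_centralizer_iff.2 fun v hv => (hcV v hv).symm.eq⟩
  intro g hg k hk
  refine ⟨M.mul_mem (M.mul_mem hg hk.1) (inv_mem hg), mem_centralizer_iff.2 fun v hv => ?_⟩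
  have := congrArg (MulAut.conj g) (mem_centralizer_iff.1 hk.2 _ (L.loc.omega_normal (inv_mem hg) hv))
  simpa [mul_assoc] using this

/-- A 2-element outside the normal subgroup shares no fixed point with some conjugate. -/
theorem exists_partner {t : G} (ht : t ∈ M) (h2 : Two t) (htR : t ∉ R) :
    ∃ g ∈ M, ∀ w ∈ R, Commute w t → Commute w (g * t * g⁻¹) → w = 1 := by
  haveI : Fact (Nat.Prime 2) := ⟨Nat.prime_two⟩
  set t' : ↥M := ⟨t, ht⟩
  by_contra hcon
  push Not at hcon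
  obtain ⟨k, hk⟩ := h2
  obtain ⟨N, hN, hN2, htN⟩ := Cfsg.Lib.BaerSuzuki.baer_suzuki (p := 2) (zpowers t') fun g => by
    obtain ⟨w, hw, hwt, hwg, hw1⟩ := hcon g g.2
    have hcent : zpowers t' ⊔ (zpowers t').map (MulAut.conj g).toMonoidHom ≤
        (centralizer ({w} : Set G)).comap M.subtype := sup_le
      (zpowers_le.2 (mem_centralizer_singleton_iff.2 hwt.symm.eq))
      (by
        rw [MonoidHom.map_zpowers]
        exact zpowers_le.2 (mem_centralizer_singleton_iff.2 hwg.symm.eq))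
    exact ((h.isPGroup_centralizer (two_of_mem L.loc.two hw) hw1).comap_of_injective _
      M.subtype_injective).to_le hcent
  refine htR (L.loc.o2 (N.map M.subtype) (map_subtype_le _) (hN2.map _) ?_ ⟨t', htN (mem_zpowers t'), rfl⟩)
  rintro g hg _ ⟨v, hv, rfl⟩
  exact ⟨⟨g, hg⟩ * v * ⟨g, hg⟩⁻¹, hN.conj_mem v hv _, rfl⟩

theorem fixed_sq_le' {t : G} (ht : t ∈ M) (h2 : Two t) (htR : t ∉ R) {X : Subgroup G} (hXR : X ≤ R)
    (hX : ∀ g ∈ M, ∀ x ∈ X, g * x * g⁻¹ ∈ X) (K : Subgroup G) (hK : K ≤ X)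
    (hKt : ∀ w ∈ K, Commute w t) : Nat.card ↥K * Nat.card ↥K ≤ Nat.card ↥X := by
  obtain ⟨g, hg, hfix⟩ := L.exists_partner h ht h2 htR
  rw [← Nat.card_prod]
  refine Nat.card_le_card_of_injective (fun p => (⟨(p.1 : G) * (g * p.2 * g⁻¹),
    X.mul_mem (hK p.1.2) (hX g hg _ (hK p.2.2))⟩ : ↥X)) fun p q e => ?_
  have e' : (p.1 : G) * (g * p.2 * g⁻¹) = q.1 * (g * q.2 * g⁻¹) := congrArg Subtype.val e
  have h1 : (q.1 : G)⁻¹ * p.1 = g * ((q.2 : G) * (p.2 : G)⁻¹) * g⁻¹ := by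
    rw [inv_mul_eq_iff_eq_mul, eq_comm]
    calc (q.1 : G) * (g * ((q.2 : G) * (p.2 : G)⁻¹) * g⁻¹) = (q.1 * (g * q.2 * g⁻¹)) * (g * p.2 * g⁻¹)⁻¹ := by group
      _ = p.1 := by rw [← e', mul_inv_cancel_right]
  have h2' : (q.1 : G)⁻¹ * p.1 = 1 := by
    refine hfix _ (hXR (hK (K.mul_mem (inv_mem q.1.2) p.1.2))) (hKt _ (K.mul_mem (inv_mem q.1.2) p.1.2)) ?_
    rw [h1]
    exact (hKt _ (K.mul_mem q.2.2 (inv_mem p.2.2))).map (MulAut.conj g).toMonoidHom
  have h3 : (p.1 : G) = q.1 := (inv_mul_eq_one.1 h2').symm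
  rw [h3] at e'
  exact Prod.ext (Subtype.ext h3) (Subtype.ext (mul_left_cancel (mul_right_cancel (mul_left_cancel e'))))

theorem fixed_sq_le {t : G} (ht : t ∈ M) (h2 : Two t) (htR : t ∉ R) (K : Subgroup G) (hK : K ≤ omega R)
    (hKt : ∀ w ∈ K, Commute w t) : Nat.card ↥K * Nat.card ↥K ≤ Nat.card ↥(omega R) :=
  L.fixed_sq_le' h ht h2 htR (omega_le R) (fun _ hg _ hx => L.loc.omega_normal hg hx) K hK hKt

/-- the elements commuting with `t` modulo the normal subgroup lie in one 2-group -/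
theorem exists_mod_centralizer {t : G} (ht : t ∈ M) (h2 : Two t) (htR : t ∉ R) :
    ∃ P : Subgroup G, IsPGroup 2 ↥P ∧ P ≤ M ∧ R ≤ P ∧ ∀ y ∈ M, cm t y ∈ R → y ∈ P := by
  haveI := L.loc.normal
  set K := R.subgroupOf M
  have hK : IsPGroup 2 ↥K := L.loc.two.comap_of_injective M.subtype M.subtype_injective
  set π := QuotientGroup.mk' K
  set t' : ↥M := ⟨t, ht⟩
  obtain ⟨k, hk⟩ := h2
  have h1 : π t' ≠ 1 := fun e => htR ((QuotientGroup.eq_one_iff t').1 e)
  obtain ⟨j, -, hj⟩ := (Nat.dvd_prime_pow Nat.prime_two).1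
    ((orderOf_map_dvd π t').trans (by rw [← hk, ← orderOf_coe t']) : orderOf (π t') ∣ 2 ^ k)
  have hC := ((h.subgroup M).quotient K hK).isPGroup_centralizer ⟨j, hj⟩ h1
  refine ⟨((centralizer ({π t'} : Set (↥M ⧸ K))).comap π).map M.subtype,
    (hC.comap_of_ker_isPGroup π (by rw [QuotientGroup.ker_mk']; exact hK)).map _, map_subtype_le _, ?_, ?_⟩
  · intro r hr
    refine ⟨⟨r, L.loc.le hr⟩, ?_, rfl⟩
    show π _ ∈ centralizer _
    rw [show π ⟨r, L.loc.le hr⟩ = 1 from (QuotientGroup.eq_one_iff _).2 hr]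
    exact one_mem _
  · intro y hy hty
    refine ⟨⟨y, hy⟩, mem_centralizer_singleton_iff.2 ?_, rfl⟩
    have h3 : π (t' * ⟨y, hy⟩ * t'⁻¹ * (⟨y, hy⟩ : ↥M)⁻¹) = 1 := (QuotientGroup.eq_one_iff _).2 hty
    rw [map_mul, map_mul, map_mul, map_inv, map_inv, mul_inv_eq_one, mul_inv_eq_iff_eq_mul] at h3
    exact h3.symm

end Setup

/-- some largest elementary abelian subgroup lies outside the largest normal 2-subgroup -/
def Offending (R T : Subgroup G) : Prop :=
  ∃ A : Subgroup G, A ≤ T ∧ Elem A ∧ (∀ B : Subgroup G, B ≤ T → Elem B → Nat.card ↥B ≤ Nat.card ↥A) ∧ ¬ A ≤ R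

/-- an offending elementary subgroup with its fixed space -/
structure Off (M R T A W : Subgroup G) : Prop extends Setup M R T where
  elem : Elem A
  leA : A ≤ T
  maxA : ∀ B : Subgroup G, B ≤ T → Elem B → Nat.card ↥B ≤ Nat.card ↥A
  out : ∃ a ∈ A, a ∉ R
  eqW : W = A ⊓ omega R
  cmW : ∀ a ∈ A, ∀ v ∈ omega R, cm a v ∈ W
  fix : ∀ a ∈ A, a ∉ R → ∀ v ∈ omega R, Commute a v → v ∈ W
  surjV : ∀ a ∈ A, a ∉ R → ∀ w ∈ W, ∃ v ∈ omega R, cm a v = w
  surjA : ∀ v ∈ omega R, v ∉ W → ∀ w ∈ W, ∃ a ∈ A, cm a v = w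
  card : Nat.card ↥(omega R) = Nat.card ↥W * Nat.card ↥W
  cardA : Nat.card ↥A = Nat.card ↥(A ⊓ R) * Nat.card ↥W

variable {M R T : Subgroup G}

/-- Thompson replacement gives quadratic action of an offending subgroup. -/
theorem exists_off (h : CIT G) (L : Setup M R T) (hoff : Offending R T) : ∃ A W, Off M R T A W := by
  classical
  haveI : Fact (Nat.Prime 2) := ⟨Nat.prime_two⟩
  set V := omega R with hVdef
  obtain ⟨A, ⟨hAT, hA, hmax, hAR⟩, hAV⟩ := Set.exists_max_image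
    {A : Subgroup G | A ≤ T ∧ Elem A ∧ (∀ B : Subgroup G, B ≤ T → Elem B → Nat.card ↥B ≤ Nat.card ↥A) ∧ ¬ A ≤ R}
    (fun A => Nat.card ↥(A ⊓ V)) (Set.toFinite _) hoff
  have hVT : V ≤ T := L.V_T
  have hAM : A ≤ M := hAT.trans L.le
  set W := A ⊓ V with hWdef
  have hVe : Elem V := elem_omega R
  have hVc : ∀ v ∈ V, ∀ r ∈ R, Commute v r := fun v hv => hv.2.1
  have hcent : ∀ v ∈ V, (∀ a ∈ A, Commute a v) → v ∈ W := by
    intro v hv hc
    have he : Elem (A ⊔ zpowers v) := hA.sup (fun x hx => hVe x ((zpowers_le.2 hv) hx)) fun a ha b hb => by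
      obtain ⟨i, rfl⟩ := hb
      exact (hc a ha).zpow_right i
    have h1 := eq_of_le_of_card_ge (le_sup_left : A ≤ A ⊔ zpowers v)
      (hmax _ (sup_le hAT (zpowers_le.2 (hVT hv))) he)
    exact ⟨h1 ▸ mem_sup_right (mem_zpowers v), hv⟩
  have hWc : ∀ w ∈ W, ∀ a ∈ A, cm a w = 1 := fun w hw a ha => cm_eq_one.2 (hA.comm ha hw.1)
  have hcnt : Nat.card ↥V * Nat.card ↥(A ⊓ R) ≤ Nat.card ↥A * Nat.card ↥W := by
    refine (card_mul_le (B := V ⊔ (A ⊓ R)) (fun x hx c hc => mul_mem (mem_sup_left hx) (mem_sup_right hc))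
      (fun x hx => (⟨hx.2.1, hx.1⟩ : x ∈ W))).trans (Nat.mul_le_mul_right _ (hmax _
        (sup_le hVT (inf_le_left.trans hAT)) (hVe.sup (fun x hx => hA x hx.1) fun x hx y hy => hVc x hx y hy.2)))
  -- commutators of the whole of `V` centralise `A`
  have hcm : ∀ a ∈ A, ∀ v ∈ V, cm a v ∈ W := by
    by_contra hcon
    push Not at hcon
    obtain ⟨a₀, ha₀, v, hv, hav⟩ := hcon
    set X := Subgroup.closure ({x | ∃ a ∈ A, x = cm a v} ∪ (W : Set G))
    have hX : X ≤ V := (closure_le _).2 (by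
      rintro x (⟨a, ha, rfl⟩ | hx)
      exacts [L.cm_mem (hAM ha) hv, hx.2])
    have hWX : W ≤ X := fun x hx => subset_closure (Or.inr hx)
    have hgX : ∀ a ∈ A, cm a v ∈ X := fun a ha => subset_closure (Or.inl ⟨a, ha, rfl⟩)
    set C := A ⊓ centralizer (X : Set G)
    have hCX : X ⊓ C ≤ W := fun x hx => (⟨hx.2.1, hX hx.1⟩ : x ∈ W)
    -- the fibres
    have hfib : ∀ a ∈ A, ∀ b ∈ A, (cm a v)⁻¹ * cm b v ∈ W → a⁻¹ * b ∈ C := by
      intro a ha b hb hab
      refine ⟨A.mul_mem (inv_mem ha) hb, mem_centralizer_iff.2 ?_⟩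
      have hsub : X ≤ centralizer ({a⁻¹ * b} : Set G) := (closure_le _).2 (by
        rintro x (⟨c, hc, rfl⟩ | hx)
        swap
        · exact mem_centralizer_singleton_iff.2 (hA.comm hx.1 (A.mul_mem (inv_mem ha) hb)).eq
        have key : ∀ d ∈ A, d * cm c v * d⁻¹ = cm c v * (c * cm d v * c⁻¹ * (cm d v)⁻¹) := fun d hd => by
          have e1 : c * cm d v * c⁻¹ * (cm d v)⁻¹ = cm d (cm c v) := by
            have swap : ∀ x ∈ V, ∀ y ∈ V, x * v * y = y * v * x := fun x hx y hy => by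
              rw [mul_assoc, (hVe.comm hv hy).eq, ← mul_assoc, (hVe.comm hx hy).eq, mul_assoc, (hVe.comm hx hv).eq,
                ← mul_assoc]
            rw [cm, cm, cm,
              show c * (d * v * d⁻¹ * v⁻¹) * c⁻¹ * (d * v * d⁻¹ * v⁻¹)⁻¹ =
                (c * d * v * (c * d)⁻¹) * ((c * v * c⁻¹)⁻¹ * v * (d * v * d⁻¹)⁻¹) by group,
              show d * (c * v * c⁻¹ * v⁻¹) * d⁻¹ * (c * v * c⁻¹ * v⁻¹)⁻¹ =
                (d * c * v * (d * c)⁻¹) * ((d * v * d⁻¹)⁻¹ * v * (c * v * c⁻¹)⁻¹) by group,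
              (hA.comm hc hd).eq, swap _ (inv_mem (L.loc.omega_normal (hAM hc) hv)) _
                (inv_mem (L.loc.omega_normal (hAM hd) hv))]
          rw [e1, (hVe.comm (L.cm_mem (hAM hc) hv) (L.cm_mem (hAM hd) (L.cm_mem (hAM hc) hv))).eq]
          simp only [cm]
          group
        have hsame : c * cm a v * c⁻¹ * (cm a v)⁻¹ = c * cm b v * c⁻¹ * (cm b v)⁻¹ := by
          set w := (cm a v)⁻¹ * cm b v with hwd
          have e : cm b v = cm a v * w := by rw [hwd, mul_inv_cancel_left]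
          have hw : c * w * c⁻¹ = w := by
            rw [(hA.comm hc hab.1).eq, mul_inv_cancel_right]
          rw [e, show c * (cm a v * w) * c⁻¹ * (cm a v * w)⁻¹ =
            c * cm a v * c⁻¹ * (c * w * c⁻¹ * w⁻¹) * (cm a v)⁻¹ by group, hw, mul_inv_cancel, mul_one]
        refine mem_centralizer_singleton_iff.2 ?_
        have e2 : a * cm c v * a⁻¹ = b * cm c v * b⁻¹ := by rw [key a ha, key b hb, hsame]
        rw [show cm c v * (a⁻¹ * b) = a⁻¹ * (a * cm c v * a⁻¹) * b by group, e2]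
        group)
      intro x hx
      exact (mem_centralizer_singleton_iff.1 (hsub hx))
    have hAle : Nat.card ↥A * Nat.card ↥W ≤ Nat.card ↥C * Nat.card ↥X := by
      rw [← Nat.card_prod, ← Nat.card_prod]
      let C' := C.subgroupOf A
      let r : ↥A → ↥A := fun a => (QuotientGroup.mk a : ↥A ⧸ C').out
      have hr : ∀ a : ↥A, (r a : G)⁻¹ * a ∈ C := fun a => (QuotientGroup.eq (s := C')).1 (QuotientGroup.out_eq' (a : ↥A ⧸ C'))
      refine Nat.card_le_card_of_injective (fun p : ↥A × ↥W => ((⟨(r p.1 : G)⁻¹ * p.1, hr p.1⟩ : ↥C),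
        (⟨cm (r p.1 : G) v * p.2, X.mul_mem (hgX _ (r p.1).2) (hWX p.2.2)⟩ : ↥X))) fun p q e => ?_
      obtain ⟨e1, e2⟩ := Prod.ext_iff.1 e
      have e1' : (r p.1 : G)⁻¹ * p.1 = (r q.1 : G)⁻¹ * q.1 := congrArg Subtype.val e1
      have e2' : cm (r p.1 : G) v * p.2 = cm (r q.1 : G) v * q.2 := congrArg Subtype.val e2
      have h1 : (cm (r p.1 : G) v)⁻¹ * cm (r q.1 : G) v ∈ W := by
        rw [show (cm (r p.1 : G) v)⁻¹ * cm (r q.1 : G) v = (p.2 : G) * (q.2 : G)⁻¹ by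
          rw [eq_mul_inv_iff_mul_eq, mul_assoc, ← e2', inv_mul_cancel_left]]
        exact W.mul_mem p.2.2 (inv_mem q.2.2)
      have h2 : (p.1 : G)⁻¹ * q.1 ∈ C := by
        rw [show (p.1 : G)⁻¹ * q.1 = ((r p.1 : G)⁻¹ * p.1)⁻¹ * ((r p.1 : G)⁻¹ * r q.1) * ((r q.1 : G)⁻¹ * q.1) by group]
        exact mul_mem (mul_mem (inv_mem (hr _)) (hfib _ (r p.1).2 _ (r q.1).2 h1)) (hr _)
      have h3 : r p.1 = r q.1 := by
        have : (QuotientGroup.mk p.1 : ↥A ⧸ C') = QuotientGroup.mk q.1 := QuotientGroup.eq.2 h2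
        simp only [r, this]
      rw [h3] at e1' e2'
      exact Prod.ext (Subtype.ext (mul_left_cancel e1')) (Subtype.ext (mul_left_cancel e2'))
    set B := X ⊔ C
    have hBe : Elem B := Elem.sup (A := X) (B := C) (fun x hx => hVe x (hX hx)) (fun x hx => hA x hx.1)
      fun x hx c hc => mem_centralizer_iff.1 hc.2 x hx
    have hBT : B ≤ T := sup_le (hX.trans hVT) (inf_le_left.trans hAT)
    have hge : Nat.card ↥A ≤ Nat.card ↥B := by
      have h1 := card_mul_le (B := B) (fun x hx c hc => mul_mem (mem_sup_left hx) (mem_sup_right hc)) hCX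
      rw [mul_comm (Nat.card ↥X)] at h1
      exact Nat.le_of_mul_le_mul_right (hAle.trans h1) Nat.card_pos
    have hcR : ¬ B ≤ R → False := by
      intro hBR
      have h1 := hAV B ⟨hBT, hBe, fun D hD hDe => (hmax D hD hDe).trans hge, hBR⟩
      have h2 : W < B ⊓ V := by
        refine lt_of_le_of_ne (fun x hx => ⟨mem_sup_left (hWX hx), hx.2⟩) fun e => hav ?_
        rw [e]
        exact ⟨mem_sup_left (hgX a₀ ha₀), L.cm_mem (hAM ha₀) hv⟩
      exact absurd (eq_of_le_of_card_ge h2.le h1) h2.ne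
    by_cases hBR : B ≤ R
    swap
    · exact hcR hBR
    have hCle : Nat.card ↥C ≤ Nat.card ↥(A ⊓ R) :=
      Nat.card_le_card_of_injective (inclusion (fun c hc => ⟨hc.1, hBR (mem_sup_right hc)⟩ : C ≤ A ⊓ R))
        (inclusion_injective _)
    have hXV : X = V := by
      refine eq_of_le_of_card_ge hX ?_
      have h1 : Nat.card ↥V * Nat.card ↥(A ⊓ R) ≤ Nat.card ↥X * Nat.card ↥(A ⊓ R) :=
        hcnt.trans ((hAle.trans (Nat.mul_le_mul_right _ hCle)).trans (le_of_eq (mul_comm _ _)))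
      exact Nat.le_of_mul_le_mul_right h1 Nat.card_pos
    -- a 2-group cannot act with so large a commutator
    obtain ⟨n, hn⟩ := (Subgroup.nilpotent_iff_lowerCentralSeries).1 L.two.isNilpotent
    have hind : ∀ k, V ≤ (((⊤ : Subgroup ↥T).lowerCentralSeries k) ⊔ W.subgroupOf T).map T.subtype := by
      intro k
      induction k with
      | zero =>
        rw [Subgroup.lowerCentralSeries_zero, top_sup_eq, ← MonoidHom.range_eq_map, range_subtype]
        exact hVT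
      | succ k ih =>
        rw [← hXV]
        refine (closure_le _).2 ?_
        rintro x (⟨c, hc, rfl⟩ | hx)
        swap
        · exact ⟨⟨x, hVT hx.2⟩, mem_sup_right hx, rfl⟩
        obtain ⟨y, hy, e⟩ := ih hv
        obtain ⟨g, hg, w, hw, rfl⟩ : ∃ g ∈ (⊤ : Subgroup ↥T).lowerCentralSeries k, ∃ w ∈ W.subgroupOf T,
            g * w = y := by
          exact mem_sup_of_normal_left.1 hy
        refine ⟨⟨c, hAT hc⟩ * g * ⟨c, hAT hc⟩⁻¹ * g⁻¹, mem_sup_left ?_, ?_⟩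
        · rw [Subgroup.lowerCentralSeries_succ, commutator_comm]
          exact commutator_mem_commutator (mem_top _) hg
        · rw [← e]
          have h1 : c * (w : G) = w * c := (hA.comm hc (hw : (w : G) ∈ W).1).eq
          show c * (g : G) * c⁻¹ * (g : G)⁻¹ = cm c ((g : G) * w)
          rw [cm, show c * ((g : G) * w) * c⁻¹ * ((g : G) * w)⁻¹ = c * g * c⁻¹ * (c * w * c⁻¹ * (w : G)⁻¹) * (g : G)⁻¹ by
            group, h1, mul_inv_cancel_right, mul_inv_cancel, mul_one]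
    have hVW : v ∈ W := by
      obtain ⟨y, hy, rfl⟩ := hind n hv
      rw [hn, bot_sup_eq] at hy
      exact hy
    exact hav (by rw [hWc v hVW a₀ ha₀]; exact W.one_mem)
  -- the count
  have hfix : ∀ a ∈ A, a ∉ R → (∀ v ∈ V, Commute a v → v ∈ W) ∧ (∀ w ∈ W, ∃ v ∈ V, cm a v = w) ∧
      Nat.card ↥V = Nat.card ↥W * Nat.card ↥W := by
    intro a ha haR
    let φ : ↥V →* ↥W := MonoidHom.mk' (fun v => ⟨cm a v, hcm a ha v v.2⟩) fun v v' => Subtype.ext (by
      show cm a ((v : G) * v') = cm a v * cm a v'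
      have hc := hVe.comm v.2 (L.cm_mem (hAM ha) v'.2)
      rw [show cm a ((v : G) * v') = cm a v * ((v : G) * cm a v' * (v : G)⁻¹) by simp only [cm]; group, hc.eq,
        mul_inv_cancel_right])
    set K := φ.ker.map V.subtype
    have hKmem : ∀ x, x ∈ K ↔ x ∈ V ∧ Commute a x := fun x => by
      constructor
      · rintro ⟨y, hy, rfl⟩
        exact ⟨y.2, cm_eq_one.1 (congrArg Subtype.val (MonoidHom.mem_ker.1 hy))⟩
      · rintro ⟨hx, hc⟩
        exact ⟨⟨x, hx⟩, MonoidHom.mem_ker.2 (Subtype.ext (cm_eq_one.2 hc)), rfl⟩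
    have hWK : W ≤ K := fun x hx => (hKmem x).2 ⟨hx.2, hA.comm ha hx.1⟩
    have h1 := L.fixed_sq_le h (hAM ha) (two_of_mem L.two (hAT ha)) haR K (map_subtype_le _)
      fun x hx => ((hKmem x).1 hx).2.symm
    have h2 := φ.ker.card_mul_index
    rw [Subgroup.index_ker, ← card_map_of_injective V.subtype_injective] at h2
    change Nat.card ↥K * Nat.card ↥φ.range = Nat.card ↥V at h2
    have h3 : Nat.card ↥φ.range ≤ Nat.card ↥W := φ.range.card_le_card_group
    have h4 : Nat.card ↥K ≤ Nat.card ↥W :=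
      Nat.le_of_mul_le_mul_left (h1.trans (h2.ge.trans (Nat.mul_le_mul_left _ h3))) Nat.card_pos
    have h5 : W = K := eq_of_le_of_card_ge hWK h4
    rw [← h5] at h1 h2
    have h6 : Nat.card ↥W ≤ Nat.card ↥φ.range := Nat.le_of_mul_le_mul_left (h1.trans h2.ge) Nat.card_pos
    refine ⟨fun v hv hc => h5 ▸ (hKmem v).2 ⟨hv, hc⟩, fun w hw => ?_,
      h2.symm.trans (by rw [le_antisymm h3 h6])⟩
    obtain ⟨v, hv⟩ := (eq_top_of_card_eq φ.range (le_antisymm h3 h6)).ge (mem_top (⟨w, hw⟩ : ↥W))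
    exact ⟨v, v.2, congrArg Subtype.val hv⟩
  obtain ⟨a₁, ha₁, ha₁R⟩ := SetLike.not_le_iff_exists.1 hAR
  obtain ⟨-, -, hcard⟩ := hfix a₁ ha₁ ha₁R
  have hrev : ∀ v ∈ V, v ∉ W → (∀ w ∈ W, ∃ a ∈ A, cm a v = w) ∧
      Nat.card ↥A = Nat.card ↥(A ⊓ R) * Nat.card ↥W := by
    intro v hv hvW
    let ψ : ↥A →* ↥W := MonoidHom.mk' (fun a => ⟨cm a v, hcm a a.2 v hv⟩) fun a b => Subtype.ext (by
      show cm ((a : G) * b) v = cm (a : G) v * cm (b : G) v
      have hc := hA.comm a.2 (hcm b b.2 v hv).1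
      rw [show cm ((a : G) * b) v = (a : G) * cm (b : G) v * (a : G)⁻¹ * cm (a : G) v by simp only [cm]; group, hc.eq,
        mul_inv_cancel_right, (hVe.comm (hcm a a.2 v hv).2 (hcm b b.2 v hv).2).eq])
    have hker : ψ.ker.map A.subtype = A ⊓ R := by
      ext x
      constructor
      · rintro ⟨y, hy, rfl⟩
        refine ⟨y.2, ?_⟩
        by_contra hyR
        exact hvW ((hfix _ y.2 hyR).1 v hv (cm_eq_one.1 (congrArg Subtype.val (MonoidHom.mem_ker.1 hy))))
      · rintro ⟨hx, hxR⟩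
        exact ⟨⟨x, hx⟩, MonoidHom.mem_ker.2 (Subtype.ext (cm_eq_one.2 (hVc v hv x hxR).symm)), rfl⟩
    have h2 := ψ.ker.card_mul_index
    rw [Subgroup.index_ker, ← card_map_of_injective A.subtype_injective] at h2
    change Nat.card ↥(ψ.ker.map A.subtype) * Nat.card ↥ψ.range = Nat.card ↥A at h2
    rw [hker] at h2
    have h3 : Nat.card ↥ψ.range ≤ Nat.card ↥W := ψ.range.card_le_card_group
    have h4 : Nat.card ↥W ≤ Nat.card ↥ψ.range := by
      have h5 := hcnt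
      rw [hcard, ← h2] at h5
      have h6 : Nat.card ↥W * (Nat.card ↥W * Nat.card ↥(A ⊓ R)) ≤
          Nat.card ↥W * (Nat.card ↥ψ.range * Nat.card ↥(A ⊓ R)) := by
        rw [← mul_assoc]; refine h5.trans (le_of_eq ?_); ring
      exact Nat.le_of_mul_le_mul_right (Nat.le_of_mul_le_mul_left h6 Nat.card_pos) Nat.card_pos
    refine ⟨fun w hw => ?_, by rw [← h2, le_antisymm h3 h4]⟩
    obtain ⟨a, ha⟩ := (eq_top_of_card_eq ψ.range (le_antisymm h3 h4)).ge (mem_top (⟨w, hw⟩ : ↥W))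
    exact ⟨a, a.2, congrArg Subtype.val ha⟩
  obtain ⟨v₁, hv₁, hv₁W⟩ : ∃ v ∈ V, v ∉ W := by
    by_contra hcon
    push Not at hcon
    exact ha₁R (L.cent_omega h (hAM ha₁) fun v hv => hA.comm ha₁ (hcon v hv).1)
  exact ⟨A, W, ⟨L, hA, hAT, hmax, ⟨a₁, ha₁, ha₁R⟩, rfl, hcm, fun a ha haR => (hfix a ha haR).1,
    fun a ha haR => (hfix a ha haR).2.1, fun v hv hvW => (hrev v hv hvW).1, hcard, (hrev v₁ hv₁ hv₁W).2⟩⟩

end Cfsg.Lib.CITGroups
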