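import Cfsg.Agent.CITGroups.PlaneSylow

/-!
The plane configuration in a simple group: points and lines meet trivially, two lines through a point meet another
point at most once, and the orders of the subgroups.
-/

set_option autoImplicit false
set_option linter.unusedSectionVars false
set_option linter.style.haveILetI false

namespace Cfsg.Lib.CITGroups

open Subgroup Cfsg.Lib.PrimePowerOrders Cfsg.Lib.AutThreeFour

variable {G : Type*} [Group G] [Finite G]

theorem cm_inv (a b : G) : (cm a b)⁻¹ = cm b a := by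
  simp only [cm]; group

theorem Off.card_points {M R T A W : Subgroup G} (O : Off M R T A W) (h : CIT G) :
    Nat.card (↥M ⧸ (stab M W).subgroupOf M) = Nat.card ↥W + 1 := by
  classical
  obtain ⟨k, hk, hkN⟩ := O.exists_point h
  set K := (A ⊓ R).subgroupOf A
  set NM := (stab M W).subgroupOf M
  let g : Option (↥A ⧸ K) → ↥M := fun o =>
    o.elim 1 fun q => ⟨(q.out : G) * k, M.mul_mem (O.A_le_M q.out.2) hk⟩
  let f : Option (↥A ⧸ K) → ↥M ⧸ NM := fun o => (g o : ↥M ⧸ NM)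
  have hout : ∀ a : ↥A, (((a : ↥A ⧸ K).out : G))⁻¹ * a ∈ A ⊓ R := fun a =>
    (QuotientGroup.eq (s := K)).1 (QuotientGroup.out_eq' (a : ↥A ⧸ K))
  have hak : ∀ a : ↥A, (a : G) * k ∉ stab M W := fun a hh =>
    hkN (by simpa using mul_mem (inv_mem (O.A_stab a.2)) hh)
  have hf : Function.Bijective f := by
    constructor
    · intro o o' e
      have e' : (g o : G)⁻¹ * g o' ∈ stab M W := (QuotientGroup.eq (s := NM)).1 e
      rcases o with _ | q <;> rcases o' with _ | q'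
      · rfl
      · refine absurd ?_ (hak q'.out)
        simpa [g] using e'
      · refine absurd ?_ (hak q.out)
        simpa [g] using inv_mem e'
      · have hA : (q.out : G)⁻¹ * q'.out ∈ A := A.mul_mem (inv_mem q.out.2) q'.out.2
        have hR : (q.out : G)⁻¹ * q'.out ∈ R := by
          refine O.fix_point h hk hkN hA ?_
          simpa [g, mul_assoc] using e'
        rw [← QuotientGroup.out_eq' q, ← QuotientGroup.out_eq' q']
        exact congrArg some ((QuotientGroup.eq (s := K)).2 ⟨hA, hR⟩)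
    · intro c
      obtain ⟨⟨m, hm⟩, rfl⟩ := QuotientGroup.mk_surjective c
      by_cases hmN : m ∈ stab M W
      · exact ⟨none, (QuotientGroup.eq (s := NM)).2 (show (1 : G)⁻¹ * m ∈ stab M W by simpa using hmN)⟩
      obtain ⟨a, ha, hakm⟩ := O.trans h hk hkN hm hmN
      set a₀ := ((⟨a, ha⟩ : ↥A) : ↥A ⧸ K).out
      refine ⟨some (↑(⟨a, ha⟩ : ↥A)), (QuotientGroup.eq (s := NM)).2 (show ((a₀ : G) * k)⁻¹ * m ∈ stab M W from ?_)⟩
      have h1 : k⁻¹ * ((a₀ : G)⁻¹ * a) * k ∈ stab M W :=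
        O.R_stab (by simpa using O.loc.conjR (inv_mem hk) (hout ⟨a, ha⟩).2)
      simpa [mul_assoc] using mul_mem h1 hakm
  have hq : Nat.card (↥A ⧸ K) = Nat.card ↥W := by
    have h1 := K.card_mul_index
    rw [Nat.card_congr (subgroupOfEquivOfLe (inf_le_left : A ⊓ R ≤ A)).toEquiv, O.cardA] at h1
    exact Nat.eq_of_mul_eq_mul_left Nat.card_pos h1
  rw [← Nat.card_congr (Equiv.ofBijective f hf), Finite.card_option, hq]

namespace Flag

variable {M V M' A T W : Subgroup G} (F : Flag M V M' A T W) (h : CIT G) [IsSimpleGroup G]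
  (hna : ¬ IsMulCommutative G)
include F h hna

theorem exists_sylow : ∃ S : Sylow 2 G, (S : Subgroup G) = T := by
  haveI : Fact (Nat.Prime 2) := ⟨Nat.prime_two⟩
  obtain ⟨S, hS⟩ := F.left.two.exists_le_sylow
  exact ⟨S, F.sylow_eq h hna S hS⟩

theorem cent_eq {w : G} (hw : w ∈ W) (hw1 : w ≠ 1) : centralizer ({w} : Set G) = T := by
  haveI : Fact (Nat.Prime 2) := ⟨Nat.prime_two⟩
  refine le_antisymm ?_ (F.T_le_cent h hw)
  obtain ⟨S, hS⟩ := (F.cent_two h hw hw1).exists_le_sylow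
  rwa [F.sylow_eq h hna S ((F.T_le_cent h hw).trans hS)] at hS

/-- all involutions are conjugate -/
theorem all_conj {u z : G} (hu2 : u * u = 1) (hu1 : u ≠ 1) (hz : z ∈ W) (hz1 : z ≠ 1) :
    ∃ g, g * z * g⁻¹ = u := by
  haveI : Fact (Nat.Prime 2) := ⟨Nat.prime_two⟩
  obtain ⟨S, hS⟩ := F.exists_sylow h hna
  obtain ⟨P, hP⟩ := IsPGroup.exists_le_sylow (IsPGroup.of_card (n := 1) (by
    rw [Nat.card_zpowers, orderOf_eq_prime (by rw [pow_two]; exact hu2) hu1, pow_one]) : IsPGroup 2 ↥(zpowers u))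
  obtain ⟨c, hc⟩ := MulAction.exists_smul_eq G S P
  have h1 := hP (mem_zpowers u)
  rw [← hc, Sylow.coe_subgroup_smul, hS] at h1
  obtain ⟨v, hv, e⟩ := h1
  have e' : c * v * c⁻¹ = u := e
  have hv2 : v * v = 1 := by
    rw [← e', show c * v * c⁻¹ * (c * v * c⁻¹) = c * (v * v) * c⁻¹ by group] at hu2
    exact conj_eq_one_iff.1 hu2
  obtain ⟨g, z', hz', hz'1, e2⟩ := F.conj_into_W h hv hv2 fun e1 => hu1 (by rw [← e', e1]; group)
  obtain ⟨x, -, -, -, htr⟩ := F.exists_three h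
  rcases htr z hz hz1 z' hz' hz'1 with rfl | rfl | rfl
  · exact ⟨c * g, by rw [← e', ← e2]; group⟩
  · exact ⟨c * g * x, by rw [← e', ← e2]; group⟩
  · exact ⟨c * g * x⁻¹, by rw [← e', ← e2]; group⟩

/-- no point is a line -/
theorem not_cj (g : G) : cj g V ≠ A := by
  classical
  haveI : Fact (Nat.Prime 2) := ⟨Nat.prime_two⟩
  intro e
  obtain ⟨S, hS⟩ := F.exists_sylow h hna
  have hTM' : T ≤ M' := F.right.le
  have hgT : ((g • S : Sylow 2 G) : Subgroup G) ≤ M' := by
    rw [Sylow.coe_subgroup_smul, hS]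
    rintro _ ⟨t, ht, rfl⟩
    rw [← F.normA]
    refine mem_nrm fun a ha => ?_
    rw [← e] at ha ⊢
    obtain ⟨v, hv, rfl⟩ := ha
    exact ⟨t * v * t⁻¹, F.left.loc.conjR (F.left.le ht) hv, by simp [mul_assoc]⟩
  obtain ⟨⟨m, hm⟩, hme⟩ := MulAction.exists_smul_eq ↥M' ((g • S : Sylow 2 G).subtype hgT) (S.subtype (hS.le.trans hTM'))
  set n := m * g
  have hn : n ∈ normalizer (T : Set G) := mem_nrm fun t ht => by
    have h1 : (⟨g * t * g⁻¹, hgT (by rw [Sylow.coe_subgroup_smul, hS]; exact ⟨t, ht, rfl⟩)⟩ : ↥M') ∈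
        (((g • S : Sylow 2 G).subtype hgT) : Subgroup ↥M') := by
      rw [Sylow.coe_subtype]
      show g * t * g⁻¹ ∈ ((g • S : Sylow 2 G) : Subgroup G)
      rw [Sylow.coe_subgroup_smul, hS]
      exact ⟨t, ht, rfl⟩
    have h2 : m * (g * t * g⁻¹) * m⁻¹ ∈ T := by
      have h3 : MulAut.conj (⟨m, hm⟩ : ↥M') ⟨g * t * g⁻¹, hgT (by rw [Sylow.coe_subgroup_smul, hS]; exact ⟨t, ht, rfl⟩)⟩ ∈
          ((S.subtype (hS.le.trans hTM')) : Subgroup ↥M') := by
        rw [← hme, Sylow.coe_subgroup_smul]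
        exact ⟨_, h1, rfl⟩
      rw [Sylow.coe_subtype] at h3
      exact hS.le h3
    rwa [show n * t * n⁻¹ = m * (g * t * g⁻¹) * m⁻¹ by simp only [n]; group]
  have hnV : cj n V = A := by
    rw [show cj n V = cj m (cj g V) from cj_mul _ _ _, e]
    refine (F.elem16 h ?_ (cj_elem F.left.elem m) (by rw [card_cj, F.cardA])).resolve_left fun e2 => ?_
    · rintro _ ⟨a, ha, rfl⟩
      exact F.A_le (F.right.loc.conjR hm ha)
    · refine F.V_ne_A (eq_of_le_of_card_ge ?_ (by rw [F.cardV, F.cardA]))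
      rw [← e2]
      rintro _ ⟨a, ha, rfl⟩
      exact F.right.loc.conjR hm ha
  have hnA : cj n A = V := by
    rcases F.norm_cases h (mul_mem hn hn) with e2 | e2
    · rwa [cj_mul, hnV] at e2
    · rw [cj_mul, hnV] at e2
      exact absurd (map_injective (MulAut.conj n).injective (hnV.trans e2.symm)) F.V_ne_A
  obtain ⟨i, j, hj, hij⟩ := Nat.exists_eq_two_pow_mul_odd (orderOf_pos n).ne'
  obtain ⟨l, rfl⟩ := hj
  set s := n ^ (2 * l + 1)
  have hsV : cj s V = A := by
    have hpow : ∀ d : ℕ, cj ((n * n) ^ d) V = V := by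
      intro d
      induction d with
      | zero => rw [pow_zero, cj_one]
      | succ d ih => rw [pow_succ, cj_mul, cj_mul, hnV, hnA, ih]
    rw [show s = n * (n * n) ^ l by simp only [s]; rw [pow_succ', pow_mul, pow_two], cj_mul, hpow, hnV]
  have hs2 : Two s := by
    obtain ⟨d, -, hd⟩ := (Nat.dvd_prime_pow Nat.prime_two).1 (orderOf_dvd_of_pow_eq_one (x := s) (n := 2 ^ i) (by
      simp only [s]
      rw [← pow_mul, mul_comm, ← hij, pow_orderOf_eq_one]))
    exact ⟨d, hd⟩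
  obtain ⟨U, hU⟩ := (conj_two_sup F.left.two hs2 (pow_mem hn _)).exists_le_sylow
  have hsT : s ∈ T := F.sylow_eq h hna U (le_sup_left.trans hU) ▸ hU (mem_sup_right (mem_zpowers s))
  refine F.V_ne_A (eq_of_le_of_card_ge ?_ (by rw [F.cardV, F.cardA])).symm
  rw [← hsV]
  rintro _ ⟨v, hv, rfl⟩
  exact F.left.loc.conjR (F.left.le hsT) hv

/-- points meet trivially -/
theorem pt_ti {g x : G} (hx : x ∈ V) (hx1 : x ≠ 1) (hxg : x ∈ cj g V) : g ∈ M := by
  obtain ⟨c, hc, z, hz, e⟩ := F.left.cover h (show x ∈ omega V by rw [F.omegaV]; exact hx)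
  have hz1 : z ≠ 1 := fun e1 => hx1 (by rw [← e, e1]; group)
  have hzg : z ∈ cj (c⁻¹ * g) V := by
    rw [mem_cj]
    rw [mem_cj] at hxg
    simpa [← e, mul_assoc] using hxg
  have hle : cj (c⁻¹ * g) V ≤ T := by
    rw [← F.cent_eq h hna hz hz1]
    exact fun u hu => mem_centralizer_singleton_iff.2 (comm_of_sq (cj_elem F.elemV _) hu hzg)
  rcases F.elem16 h hle (cj_elem F.elemV _) (by rw [card_cj, F.cardV]) with e2 | e2
  · simpa using M.mul_mem hc (F.mem_M_of_cj e2)
  · exact absurd e2 (F.not_cj h hna _)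

/-- lines meet trivially -/
theorem ln_ti {g x : G} (hx : x ∈ A) (hx1 : x ≠ 1) (hxg : x ∈ cj g A) : g ∈ M' := by
  obtain ⟨c, hc, z, hz, e⟩ := F.right.cover h (show x ∈ omega A by rw [F.omegaA]; exact hx)
  have hz1 : z ≠ 1 := fun e1 => hx1 (by rw [← e, e1]; group)
  have hzg : z ∈ cj (c⁻¹ * g) A := by
    rw [mem_cj]
    rw [mem_cj] at hxg
    simpa [← e, mul_assoc] using hxg
  have hle : cj (c⁻¹ * g) A ≤ T := by
    rw [← F.cent_eq h hna hz hz1]
    exact fun u hu => mem_centralizer_singleton_iff.2 (comm_of_sq (cj_elem F.left.elem _) hu hzg)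
  rcases F.elem16 h hle (cj_elem F.left.elem _) (by rw [card_cj, F.cardA]) with e2 | e2
  · exact absurd (show cj (c⁻¹ * g)⁻¹ V = A by rw [← e2, ← cj_mul, inv_mul_cancel, cj_one]) (F.not_cj h hna _)
  · have : c⁻¹ * g ∈ M' := by
      rw [← F.normA]
      exact mem_nrm fun v hv => e2.le ⟨v, hv, rfl⟩
    simpa using M'.mul_mem hc this

omit hna in
theorem stab_A {g : G} (hg : g ∈ stab M W) : g ∈ M' := by
  rw [← F.normA]
  have hle : cj g A ≤ T := by
    rintro _ ⟨a, ha, rfl⟩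
    exact F.left.stab_nrm h hg (F.A_le ha)
  refine mem_nrm fun a ha => ?_
  rcases F.elem16 h hle (cj_elem F.left.elem g) (by rw [card_cj, F.cardA]) with e | e
  · exfalso
    obtain ⟨a₁, ha₁, ha₁V⟩ := F.left.out
    have h1 : g * a₁ * g⁻¹ ∈ V := e.le ⟨a₁, ha₁, rfl⟩
    exact ha₁V (by simpa [mul_assoc] using F.left.loc.conjR (inv_mem hg.1) h1)
  · exact e.le ⟨a, ha, rfl⟩

omit hna in
theorem mem_stab_iff {g : G} : g ∈ stab M W ↔ g ∈ M ∧ g ∈ M' := by
  refine ⟨fun hg => ⟨hg.1, F.stab_A h hg⟩, fun hg => ⟨hg.1, mem_nrm fun w hw => ?_⟩⟩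
  rw [← F.inter]
  exact ⟨F.right.loc.conjR hg.2 (F.W_le_A hw), F.left.loc.conjR hg.1 (F.W_le_V hw)⟩

omit hna in
theorem stab_eq : stab M W = stab M' W := by
  ext g
  refine ⟨fun hg => ⟨F.stab_A h hg, hg.2⟩, fun hg => ⟨?_, hg.2⟩⟩
  rw [← F.normV]
  have hle : cj g V ≤ T := by
    rintro _ ⟨v, hv, rfl⟩
    exact F.right.stab_nrm h hg (F.V_le hv)
  refine mem_nrm fun v hv => ?_
  rcases F.elem16 h hle (cj_elem F.elemV g) (by rw [card_cj, F.cardV]) with e | e
  · exact e.le ⟨v, hv, rfl⟩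
  · exfalso
    obtain ⟨v₁, hv₁, hv₁A⟩ := F.right.out
    have h1 : g * v₁ * g⁻¹ ∈ A := e.le ⟨v₁, hv₁, rfl⟩
    exact hv₁A (by simpa [mul_assoc] using F.right.loc.conjR (inv_mem hg.1) h1)

/-- No quadrangle: a line through the base point is determined by a second point on it. -/
theorem two_pts {g c x y : G} (hg : g ∉ M) (hc : c ∈ M) (hx1 : x ≠ 1) (hxA : x ∈ A) (hxg : x ∈ cj g V)
    (hy1 : y ≠ 1) (hyL : y ∈ cj c A) (hyg : y ∈ cj g V) : c ∈ M' := by
  by_contra hcM'
  obtain ⟨w, hw, hw1⟩ := F.left.exists_mem_W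
  set a := c * w * c⁻¹
  have haV : a ∈ V := F.left.loc.conjR hc (F.W_le_V hw)
  have haL : a ∈ cj c A := ⟨w, F.W_le_A hw, rfl⟩
  have ha1 : a ≠ 1 := fun e => hw1 (conj_eq_one_iff.1 e)
  have haA : a ∉ A := fun hh => hcM' (F.ln_ti h hna hh ha1 haL)
  have hxV : x ∉ V := fun hh => hg (F.pt_ti h hna hh hx1 hxg)
  set d := cm x a with hd
  have hdW : d ∈ W := F.left.cmW x hxA a (by rw [F.omegaV]; exact haV)
  have hd1 : d ≠ 1 := fun e =>
    haA (F.W_le_A (F.left.fix x hxA hxV a (by rw [F.omegaV]; exact haV) (cm_eq_one.1 e)))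
  -- the second point and the line are conjugate to the first ones
  have hyA : c⁻¹ * y * c ∈ omega A := by
    rw [F.omegaA]
    rw [mem_cj] at hyL
    exact hyL
  obtain ⟨m, hm, z, hz, e⟩ := F.right.cover h hyA
  set f := c * m with hfdef
  have hyf : f⁻¹ * y * f = z := by
    rw [show f⁻¹ * y * f = m⁻¹ * (c⁻¹ * y * c) * m by simp only [hfdef]; group, ← e]; group
  have hfg : g⁻¹ * f ∈ M := by
    refine F.pt_ti h hna (x := g⁻¹ * y * g) (g := g⁻¹ * f) ?_ (fun e1 => hy1 ?_) ?_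
    · rw [mem_cj] at hyg; exact hyg
    · simpa [mul_assoc] using congrArg (MulAut.conj g) e1
    · rw [mem_cj]
      have hzV := F.W_le_V hz
      rw [← hyf] at hzV
      simpa [mul_assoc] using hzV
  have hfx : f⁻¹ * x * f ∈ V := by
    rw [mem_cj] at hxg
    have := F.left.loc.conjR (inv_mem hfg) hxg
    simpa [mul_assoc] using this
  have hfa : f⁻¹ * a * f ∈ A := by
    have hwA : w ∈ A := F.W_le_A hw
    have := F.right.loc.conjR (inv_mem hm) hwA
    simpa [hfdef, a, mul_assoc] using this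
  have hdf : f⁻¹ * d * f ∈ V := by
    have h1 := F.W_le_V (F.left.cmW _ hfa _ (by rw [F.omegaV]; exact hfx))
    rw [show cm (f⁻¹ * a * f) (f⁻¹ * x * f) = f⁻¹ * (cm x a)⁻¹ * f by simp only [cm]; group, ← hd,
      F.elemV.inv (F.W_le_V hdW)] at h1
    exact h1
  refine hg (F.pt_ti h hna (F.W_le_V hdW) hd1 ?_)
  rw [mem_cj]
  have := F.left.loc.conjR hfg hdf
  simpa [mul_assoc] using this

theorem card_T : Nat.card ↥T = 64 := by
  have h1 := card_mul_le (X := A) (C := V) (B := T) (W := W) (fun x hx c hc => T.mul_mem (F.A_le hx) (F.V_le hc))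
    F.inter.le
  rw [F.cardA, F.cardV, F.card] at h1
  classical
  let f : ↥A × ↥V → ↥T := fun p => ⟨p.1 * p.2, T.mul_mem (F.A_le p.1.2) (F.V_le p.2.2)⟩
  have hsurj : Function.Surjective f := by
    rintro ⟨t, ht⟩
    obtain ⟨a, ha, r, hr, rfl⟩ := F.left.T_decomp h ht
    exact ⟨(⟨a, ha⟩, ⟨r, hr⟩), rfl⟩
  have h2 := Nat.card_le_card_of_surjective f hsurj
  rw [Nat.card_prod, F.cardA, F.cardV] at h2
  -- each fibre has four elements
  let e : ↥T × ↥W → ↥A × ↥V := fun p =>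
    ((⟨((Function.surjInv hsurj p.1).1 : G) * p.2, A.mul_mem (Function.surjInv hsurj p.1).1.2 (F.W_le_A p.2.2)⟩ : ↥A),
      (⟨((p.2 : G))⁻¹ * (Function.surjInv hsurj p.1).2, V.mul_mem (inv_mem (F.W_le_V p.2.2)) (Function.surjInv hsurj p.1).2.2⟩ : ↥V))
  have he : Function.Injective e := by
    intro p q k
    obtain ⟨k1, k2⟩ := Prod.ext_iff.1 k
    have k1' : ((Function.surjInv hsurj p.1).1 : G) * p.2 = (Function.surjInv hsurj q.1).1 * q.2 := congrArg Subtype.val k1
    have k2' : ((p.2 : G))⁻¹ * (Function.surjInv hsurj p.1).2 = (q.2 : G)⁻¹ * (Function.surjInv hsurj q.1).2 :=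
      congrArg Subtype.val k2
    have hp : p.1 = q.1 := by
      rw [← Function.surjInv_eq hsurj p.1, ← Function.surjInv_eq hsurj q.1]
      refine Subtype.ext ?_
      show ((Function.surjInv hsurj p.1).1 : G) * (Function.surjInv hsurj p.1).2 =
        (Function.surjInv hsurj q.1).1 * (Function.surjInv hsurj q.1).2
      calc ((Function.surjInv hsurj p.1).1 : G) * (Function.surjInv hsurj p.1).2
          = ((Function.surjInv hsurj p.1).1 : G) * p.2 * ((p.2 : G)⁻¹ * (Function.surjInv hsurj p.1).2) := by group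
        _ = _ := by rw [k1', k2']; group
    rw [hp] at k1'
    exact Prod.ext hp (Subtype.ext (mul_left_cancel k1'))
  have h3 := Nat.card_le_card_of_injective e he
  rw [Nat.card_prod, Nat.card_prod, F.cardA, F.cardV, F.card] at h3
  omega

theorem card_stab : Nat.card ↥(stab M W) = 192 := by
  classical
  obtain ⟨z, hz, hz1⟩ := F.left.exists_mem_W
  obtain ⟨x, hxN, -, -, htr⟩ := F.exists_three h
  set T' := T.subgroupOf (stab M W)
  have hTN : T ≤ stab M W := fun t ht => F.left.T_stab h ht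
  have key : ∀ a b : ↥(stab M W), a⁻¹ * b ∈ T' ↔ (a : G) * z * (a : G)⁻¹ = b * z * (b : G)⁻¹ := fun a b => by
    show (a : G)⁻¹ * b ∈ T ↔ _
    rw [← F.cent_eq h hna hz hz1, mem_centralizer_singleton_iff]
    constructor
    · intro e
      calc (a : G) * z * (a : G)⁻¹ = a * (z * ((a : G)⁻¹ * b)) * (b : G)⁻¹ := by group
        _ = _ := by rw [← e]; group
    · intro e
      calc (a : G)⁻¹ * b * z = (a : G)⁻¹ * (b * z * (b : G)⁻¹) * b := by group
        _ = _ := by rw [← e]; group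
  let f : ↥(stab M W) ⧸ T' → {w : ↥W // w ≠ 1} := Quotient.lift
    (fun a => ⟨⟨(a : G) * z * (a : G)⁻¹, F.left.stab_conj a.2 hz⟩, fun e => hz1 (conj_eq_one_iff.1 (congrArg Subtype.val e))⟩)
    (fun a b hab => Subtype.ext (Subtype.ext ((key a b).1 (QuotientGroup.leftRel_apply.1 hab))))
  have hf : Function.Bijective f := by
    constructor
    · intro a b
      induction a using Quotient.inductionOn with | _ a => ?_
      induction b using Quotient.inductionOn with | _ b => ?_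
      intro e
      exact QuotientGroup.eq.2 ((key a b).2 (congrArg (fun u : {w : ↥W // w ≠ 1} => ((u : ↥W) : G)) e))
    · rintro ⟨⟨w, hw⟩, hw1⟩
      rcases htr z hz hz1 w hw (fun e => hw1 (Subtype.ext e)) with e | e | e
      · exact ⟨QuotientGroup.mk 1, Subtype.ext (Subtype.ext (by show (1 : G) * z * (1 : G)⁻¹ = w; rw [e]; group))⟩
      · exact ⟨QuotientGroup.mk ⟨x, hxN⟩, Subtype.ext (Subtype.ext e.symm)⟩
      · exact ⟨QuotientGroup.mk ⟨x⁻¹, inv_mem hxN⟩, Subtype.ext (Subtype.ext (by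
          show x⁻¹ * z * x⁻¹⁻¹ = w; rw [inv_inv, e]))⟩
  haveI := Fintype.ofFinite ↥W
  have h3 : Nat.card (↥(stab M W) ⧸ T') = 3 := by
    rw [Nat.card_congr (Equiv.ofBijective f hf), Nat.card_eq_fintype_card, Fintype.card_subtype_compl,
      Fintype.card_subtype_eq, ← Nat.card_eq_fintype_card, F.card]
  rw [T'.card_eq_card_quotient_mul_card_subgroup, h3, Nat.card_congr (subgroupOfEquivOfLe hTN).toEquiv,
    F.card_T h hna]

theorem card_M : Nat.card ↥M = 960 := by
  rw [((stab M W).subgroupOf M).card_eq_card_quotient_mul_card_subgroup, F.left.card_points h, F.card,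
    Nat.card_congr (subgroupOfEquivOfLe (show stab M W ≤ M from inf_le_left)).toEquiv, F.card_stab h hna]

end Flag

end Cfsg.Lib.CITGroups
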