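import Cfsg.Agent.CITGroups.PlaneBasic
import Cfsg.Agent.PrimePowerOrders.StrongEmb
import Mathlib.GroupTheory.IndexNormal

/-!
The plane configuration in a simple group: there are 21 points and 315 involutions.
-/

set_option autoImplicit false
set_option linter.unusedSectionVars false
set_option linter.style.haveILetI false

namespace Cfsg.Lib.CITGroups

open Subgroup Cfsg.Lib.PrimePowerOrders Cfsg.Lib.AutThreeFour

variable {G : Type*} [Group G] [Finite G]

namespace Flag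

variable {M V M' A T W : Subgroup G} (F : Flag M V M' A T W) (h : CIT G) [IsSimpleGroup G]
  (hna : ¬ IsMulCommutative G)
include F h hna

theorem line_congr {c d : G} (hcd : c⁻¹ * d ∈ M') : cj d A = cj c A := by
  rw [show d = c * (c⁻¹ * d) by group, cj_mul]
  congr 1
  refine eq_of_le_of_card_ge ?_ (by rw [card_cj])
  rintro _ ⟨a, ha, rfl⟩
  exact F.right.loc.conjR hcd ha

theorem point_congr {c d : G} (hcd : c⁻¹ * d ∈ M) : cj d V = cj c V := by
  rw [show d = c * (c⁻¹ * d) by group, cj_mul]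
  congr 1
  refine eq_of_le_of_card_ge ?_ (by rw [card_cj])
  rintro _ ⟨a, ha, rfl⟩
  exact F.left.loc.conjR hcd ha

/-- a line meeting the base point is a line through it -/
theorem line_thru {v x : G} (hx : x ∈ V) (hx1 : x ≠ 1) (hxv : x ∈ cj v A) : ∃ c ∈ M, c⁻¹ * v ∈ M' := by
  obtain ⟨c, hc, z, hz, e⟩ := F.left.cover h (show x ∈ omega V by rw [F.omegaV]; exact hx)
  refine ⟨c, hc, F.ln_ti h hna (F.W_le_A hz) (fun e1 => hx1 (by rw [← e, e1]; group)) ?_⟩
  rw [mem_cj] at hxv ⊢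
  simpa [← e, mul_assoc] using hxv

/-- an involution of a point stabiliser lies in the point or in a line through it -/
theorem inv_cases {i : G} (hi : i ∈ M) (hio : orderOf i = 2) : i ∈ V ∨ ∃ c ∈ M, i ∈ cj c A ∧ i ∉ V := by
  haveI : Fact (Nat.Prime 2) := ⟨Nat.prime_two⟩
  obtain ⟨S, hS⟩ := F.exists_sylow h hna
  obtain ⟨P, hP⟩ := (IsPGroup.of_card (n := 1) (by rw [Nat.card_zpowers, ← orderOf_coe (⟨i, hi⟩ : ↥M), hio, pow_one]) :
    IsPGroup 2 ↥(zpowers (⟨i, hi⟩ : ↥M))).exists_le_sylow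
  obtain ⟨⟨c, hc⟩, hce⟩ := MulAction.exists_smul_eq ↥M (S.subtype (hS.le.trans F.left.le)) P
  have h1 := hP (mem_zpowers (⟨i, hi⟩ : ↥M))
  rw [← hce, Sylow.coe_subgroup_smul, Sylow.coe_subtype] at h1
  obtain ⟨⟨t, htM⟩, ht, e⟩ := h1
  have e' : c * t * c⁻¹ = i := congrArg Subtype.val e
  have htT : t ∈ T := hS.le ht
  have ht2 : t * t = 1 := by
    have h2 : i * i = 1 := by rw [← pow_two, ← hio, pow_orderOf_eq_one]
    rw [← e', show c * t * c⁻¹ * (c * t * c⁻¹) = c * (t * t) * c⁻¹ by group] at h2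
    exact conj_eq_one_iff.1 h2
  by_cases hiV : i ∈ V
  · exact Or.inl hiV
  refine Or.inr ⟨c, hc, ?_, hiV⟩
  rcases F.sq_cases h htT ht2 with hh | hh
  · exact absurd (e' ▸ F.left.loc.conjR hc hh) hiV
  · exact ⟨t, hh, e'⟩

/-- No element of order fifteen in a point stabiliser. -/
theorem no_fifteen {x y : G} (hx : x ∈ M) (hy : y ∈ M) (hxo : orderOf x = 3) (hyo : orderOf y = 5)
    (hc : Commute x y) : False := by
  set NM := (stab M W).subgroupOf M
  haveI : Fact (Nat.Prime 3) := ⟨Nat.prime_three⟩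
  have hP : IsPGroup 3 ↥(zpowers (⟨x, hx⟩ : ↥M)) :=
    IsPGroup.of_card (n := 1) (by rw [Nat.card_zpowers, ← orderOf_coe, pow_one]; exact hxo)
  obtain ⟨q, hq⟩ := hP.nonempty_fixed_point_of_prime_not_dvd_card (↥M ⧸ NM)
    (by rw [F.left.card_points h, F.card]; norm_num)
  set c : G := ((q.out : ↥M) : G)
  have hcM : c ∈ M := q.out.2
  set x₁ := c⁻¹ * x * c
  set y₁ := c⁻¹ * y * c
  have hx₁ : x₁ ∈ stab M W := by
    have h1 : (⟨x, hx⟩ : ↥M) • q = q := hq ⟨_, mem_zpowers _⟩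
    rw [← QuotientGroup.out_eq' q, MulAction.Quotient.smul_mk, smul_eq_mul, QuotientGroup.eq] at h1
    have h2 : (x * c)⁻¹ * c ∈ stab M W := h1
    simpa [x₁, mul_assoc] using inv_mem h2
  have hx₁o : orderOf x₁ = 3 := by
    rw [show x₁ = MulAut.conj c⁻¹ x by simp [x₁, mul_assoc], MulEquiv.orderOf_eq, hxo]
  have hy₁o : orderOf y₁ = 5 := by
    rw [show y₁ = MulAut.conj c⁻¹ y by simp [y₁, mul_assoc], MulEquiv.orderOf_eq, hyo]
  have hc₁ : Commute x₁ y₁ := by
    have := hc.map (MulAut.conj c⁻¹).toMonoidHom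
    simpa [x₁, y₁, mul_assoc] using this
  have hy₁M : y₁ ∈ M := M.mul_mem (M.mul_mem (inv_mem hcM) hy) hcM
  have hy5 : y₁ ^ 5 = 1 := by rw [← hy₁o, pow_orderOf_eq_one]
  have hyN : y₁ ∉ stab M W := fun hh => by
    have h1 : orderOf (⟨y₁, hh⟩ : ↥(stab M W)) ∣ Nat.card ↥(stab M W) := _root_.orderOf_dvd_natCard _
    rw [orderOf_mk, hy₁o, F.card_stab h hna] at h1
    norm_num at h1
  have hy2 : y₁ * y₁ ∉ stab M W := fun hh => hyN (by
    have h1 := (stab M W).pow_mem hh 3
    rwa [← pow_two, ← pow_mul, show 2 * 3 = 5 + 1 from rfl, pow_succ, hy5, one_mul] at h1)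
  obtain ⟨a, ha, hak⟩ := F.left.trans h hy₁M hyN (M.mul_mem hy₁M hy₁M) hy2
  have haV : a ∉ V := fun hh => hyN (by
    have h1 : y₁⁻¹ * a * y₁ ∈ stab M W := F.left.R_stab (by simpa using F.left.loc.conjR (inv_mem hy₁M) hh)
    simpa [mul_assoc] using mul_mem h1 hak)
  have hfix : ∀ z : G, Commute x₁ z → z⁻¹ * x₁ * z ∈ stab M W := fun z hz => by
    rw [mul_assoc, hz.eq, inv_mul_cancel_left]; exact hx₁
  have h3 := F.left.three h hy₁M hyN ha haV (mem_base.2 ⟨hx₁, hfix y₁ hc₁⟩) (by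
    have h4 := mul_mem (mul_mem hak (hfix _ (hc₁.mul_right hc₁))) (inv_mem hak)
    simpa [mul_assoc] using h4)
  obtain ⟨j, hj⟩ := two_of_mem F.left.loc.two h3
  rw [hx₁o] at hj
  exact absurd ((Nat.prime_dvd_prime_iff_eq Nat.prime_three Nat.prime_two).1
    (Nat.prime_three.dvd_of_dvd_pow (dvd_of_eq hj))) (by norm_num)

/-- the point of the coset and the base point lie on a line -/
def Collinear (_F : Flag M V M' A T W) (g : G) : Prop :=
  ∃ c ∈ M, ∃ x, x ≠ 1 ∧ x ∈ cj c A ∧ x ∈ cj g V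

omit hna in
theorem card_A_diff : Nat.card {a : ↥A // ¬ (a : G) ∈ V} = 12 := by
  classical
  haveI := Fintype.ofFinite ↥A
  have e : Nat.card {a : ↥A // (a : G) ∈ V} = 4 := by
    rw [← F.card]
    exact Nat.card_congr
      { toFun := fun a => ⟨(a.1 : G), F.inter.le ⟨a.1.2, a.2⟩⟩
        invFun := fun w => ⟨⟨w, F.W_le_A w.2⟩, F.W_le_V w.2⟩
        left_inv := fun a => rfl
        right_inv := fun w => rfl }
  rw [Nat.card_eq_fintype_card] at e
  rw [Nat.card_eq_fintype_card, Fintype.card_subtype_compl, e, ← Nat.card_eq_fintype_card, F.cardA]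

/-- at most 75 involutions in a point stabiliser -/
theorem coset_self {g : G} (hg : g ∈ M) : Nat.card (CosetInv M g) ≤ 75 := by
  classical
  set NM := (stab M W).subgroupOf M
  have hmem : ∀ v : CosetInv M g, (v : G) ∈ M := fun v => by
    simpa using inv_mem (M.mul_mem v.2.2 (inv_mem hg))
  have hv1 : ∀ v : CosetInv M g, (v : G) ≠ 1 := fun v e => by
    have := v.2.1
    rw [e, orderOf_one] at this
    omega
  have hdata : ∀ v : CosetInv M g, (v : G) ∉ V →
      ∃ q : ↥M ⧸ NM, ((q.out : ↥M) : G)⁻¹ * v * (q.out : ↥M) ∈ A ∧ ((q.out : ↥M) : G)⁻¹ * v * (q.out : ↥M) ∉ V := by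
    intro v hvV
    obtain ⟨c, hc, hvc, -⟩ := (F.inv_cases h hna (hmem v) v.2.1).resolve_left hvV
    refine ⟨((⟨c, hc⟩ : ↥M) : ↥M ⧸ NM), ?_, fun hh => hvV ?_⟩
    · set d := (((⟨c, hc⟩ : ↥M) : ↥M ⧸ NM).out : ↥M)
      have hdc : (d : G)⁻¹ * c ∈ stab M W := (QuotientGroup.eq (s := NM)).1 (QuotientGroup.out_eq' _)
      rw [F.line_congr h hna (F.stab_A h hdc), mem_cj] at hvc
      exact hvc
    · set d := (((⟨c, hc⟩ : ↥M) : ↥M ⧸ NM).out : ↥M)
      simpa [mul_assoc] using F.left.loc.conjR d.2 hh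
  choose q hq1 hq2 using hdata
  let f : CosetInv M g → {v : ↥V // v ≠ 1} ⊕ (↥M ⧸ NM) × {a : ↥A // ¬ (a : G) ∈ V} := fun v =>
    if hv : (v : G) ∈ V then Sum.inl ⟨⟨v, hv⟩, fun e => hv1 v (congrArg Subtype.val e)⟩
    else Sum.inr (q v hv, ⟨⟨_, hq1 v hv⟩, hq2 v hv⟩)
  have hf : Function.Injective f := fun u v e => by
    simp only [f] at e
    split_ifs at e with hu hv hv
    · exact Subtype.ext (congrArg (fun z : {v : ↥V // v ≠ 1} => ((z : ↥V) : G)) (Sum.inl.inj e) :)
    · obtain ⟨e1, e2⟩ := Prod.ext_iff.1 (Sum.inr.inj e)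
      have e2' : _ = _ := congrArg (fun z : {a : ↥A // ¬ (a : G) ∈ V} => ((z : ↥A) : G)) e2
      simp only [show q u hu = q v hv from e1] at e2'
      exact Subtype.ext (mul_left_cancel (mul_right_cancel e2'))
  refine (Nat.card_le_card_of_injective f hf).trans (le_of_eq ?_)
  haveI := Fintype.ofFinite ↥V
  rw [Nat.card_sum, Nat.card_prod, F.left.card_points h, F.card, F.card_A_diff h, Nat.card_eq_fintype_card,
    Fintype.card_subtype_compl, Fintype.card_subtype_eq, ← Nat.card_eq_fintype_card, F.cardV]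

/-- at most twelve involutions in the coset of a collinear point -/
theorem coset_collinear {m : G} (hm : m ∈ M') (hmM : m ∉ M) : Nat.card (CosetInv M m) ≤ 12 := by
  classical
  set NM := (stab M' W).subgroupOf M'
  obtain ⟨w, hw, hw1⟩ := F.left.exists_mem_W
  have hvM : ∀ v : CosetInv M m, (v : G) ∉ M := fun v hh => hmM (by simpa using M.mul_mem hh v.2.2)
  have hmem : ∀ v : CosetInv M m, (v : G) ∈ M' := by
    rintro ⟨v, hv2, hvm⟩
    have hvv : v * v = 1 := by rw [← pow_two, ← hv2, pow_orderOf_eq_one]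
    have hpt : cj v V = cj m V := (F.point_congr h hna hvm).symm
    set x := m * w * m⁻¹
    have hxA : x ∈ A := F.right.loc.conjR hm (F.W_le_A hw)
    have hx1 : x ≠ 1 := fun e => hw1 (conj_eq_one_iff.1 e)
    have hxm : x ∈ cj m V := ⟨w, F.W_le_V hw, rfl⟩
    have hyV : v * x * v⁻¹ ∈ V := by
      rw [← hpt, mem_cj] at hxm
      have hvi : v⁻¹ = v := inv_eq_of_mul_eq_one_right hvv
      rw [hvi] at hxm ⊢
      exact hxm
    have hyA : v * x * v⁻¹ ∈ cj v A := ⟨x, hxA, rfl⟩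
    obtain ⟨c, hc, hcv⟩ := F.line_thru h hna hyV (fun e => hx1 (conj_eq_one_iff.1 e)) hyA
    have hc' : c ∈ M' := by
      refine F.two_pts h hna (x := x) (y := v * w * v⁻¹) hmM hc hx1 hxA ⟨w, F.W_le_V hw, rfl⟩
        (fun e => hw1 (conj_eq_one_iff.1 e)) ?_ ?_
      · rw [← F.line_congr h hna hcv]
        exact ⟨w, F.W_le_A hw, rfl⟩
      · rw [← hpt]
        exact ⟨w, F.W_le_V hw, rfl⟩
    simpa using M'.mul_mem hc' hcv
  have hdata : ∀ v : CosetInv M m, ∃ q : ↥M' ⧸ NM,
      (q ≠ ((1 : ↥M') : ↥M' ⧸ NM) ∧ q ≠ ((⟨m, hm⟩ : ↥M') : ↥M' ⧸ NM)) ∧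
      ((q.out : ↥M') : G)⁻¹ * v * (q.out : ↥M') ∈ V := by
    haveI : Fact (Nat.Prime 2) := ⟨Nat.prime_two⟩
    intro v
    obtain ⟨S, hS⟩ := F.exists_sylow h hna
    obtain ⟨P, hP⟩ := (IsPGroup.of_card (n := 1) (by
      rw [Nat.card_zpowers, ← orderOf_coe (⟨v, hmem v⟩ : ↥M'), v.2.1, pow_one]) :
      IsPGroup 2 ↥(zpowers (⟨v, hmem v⟩ : ↥M'))).exists_le_sylow
    obtain ⟨⟨c, hc⟩, hce⟩ := MulAction.exists_smul_eq ↥M' (S.subtype (hS.le.trans F.right.le)) P
    have h1 := hP (mem_zpowers (⟨v, hmem v⟩ : ↥M'))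
    rw [← hce, Sylow.coe_subgroup_smul, Sylow.coe_subtype] at h1
    obtain ⟨⟨t, htM⟩, ht, e⟩ := h1
    have e' : c * t * c⁻¹ = v := congrArg Subtype.val e
    have htT : t ∈ T := hS.le ht
    have ht2 : t * t = 1 := by
      have h2 : (v : G) * v = 1 := by
        have h0 := pow_orderOf_eq_one (v : G)
        rwa [v.2.1, pow_two] at h0
      rw [← e', show c * t * c⁻¹ * (c * t * c⁻¹) = c * (t * t) * c⁻¹ by group] at h2
      exact conj_eq_one_iff.1 h2
    have htV : t ∈ V := (F.sq_cases h htT ht2).resolve_right fun hh =>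
      hvM v (F.left.A_le_M (e' ▸ F.right.loc.conjR hc hh))
    set q := ((⟨c, hc⟩ : ↥M') : ↥M' ⧸ NM)
    set d := (q.out : ↥M')
    have hdc : (d : G)⁻¹ * c ∈ stab M' W := (QuotientGroup.eq (s := NM)).1 (QuotientGroup.out_eq' q)
    rw [← F.stab_eq h] at hdc
    have hdV : (d : G)⁻¹ * v * d ∈ V := by
      have h3 := F.left.loc.conjR hdc.1 htV
      simpa [← e', mul_assoc] using h3
    refine ⟨q, ⟨fun e1 => ?_, fun e1 => ?_⟩, hdV⟩
    · have h4 : (1 : G)⁻¹ * d ∈ stab M' W :=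
        (QuotientGroup.eq (s := NM)).1 (e1.symm.trans (QuotientGroup.out_eq' q).symm)
      rw [inv_one, one_mul, ← F.stab_eq h] at h4
      refine hvM v ?_
      simpa [mul_assoc] using M.mul_mem (M.mul_mem h4.1 (F.left.loc.le hdV)) (inv_mem h4.1)
    · have h4 : m⁻¹ * (d : G) ∈ stab M' W :=
        (QuotientGroup.eq (s := NM)).1 (e1.symm.trans (QuotientGroup.out_eq' q).symm)
      rw [← F.stab_eq h] at h4
      refine hvM v ?_
      have h5 : m⁻¹ * v * m ∈ M := by
        simpa [mul_assoc] using M.mul_mem (M.mul_mem h4.1 (F.left.loc.le hdV)) (inv_mem h4.1)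
      have h6 := M.mul_mem (M.mul_mem v.2.2 h5) (inv_mem v.2.2)
      simpa [mul_assoc] using h6
  choose q hq hqV using hdata
  have hsame : ∀ u v : CosetInv M m, q u = q v →
      (((q u).out : ↥M') : G)⁻¹ * (u : G)⁻¹ * v * ((q u).out : ↥M') ∈ W := by
    intro u v e
    set d := ((q u).out : ↥M')
    have hxV : (d : G)⁻¹ * (u : G)⁻¹ * v * d ∈ V := by
      have h1 := V.mul_mem (inv_mem (hqV u)) (hqV v)
      rw [← e] at h1
      simpa [d, mul_assoc] using h1
    have hxN : (u : G)⁻¹ * v ∈ stab M' W := by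
      rw [← F.stab_eq h, F.mem_stab_iff h]
      refine ⟨?_, M'.mul_mem (inv_mem (hmem u)) (hmem v)⟩
      simpa [mul_assoc] using M.mul_mem u.2.2 (inv_mem v.2.2)
    have hdN : (d : G)⁻¹ ∉ stab M' W := fun hh => (hq u).1 (by
      rw [← QuotientGroup.out_eq' (q u)]
      exact (QuotientGroup.eq (s := NM)).2 (show (d : G)⁻¹ * 1 ∈ stab M' W by rwa [mul_one]))
    have h2 := F.right.fix_point h (inv_mem d.2) hdN hxV (by simpa [mul_assoc] using hxN)
    exact F.inter.le ⟨h2, hxV⟩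
  let rep : (↥M' ⧸ NM) → G := fun j => if hj : ∃ v, q v = j then (hj.choose : G) else 1
  have hrep : ∀ v, ((q v).out : ↥M').1⁻¹ * (rep (q v))⁻¹ * v * ((q v).out : ↥M') ∈ W := fun v => by
    have hj : ∃ u, q u = q v := ⟨v, rfl⟩
    simp only [rep, dif_pos hj]
    have := hsame hj.choose v hj.choose_spec
    rw [hj.choose_spec] at this
    simpa [mul_assoc] using this
  let f : CosetInv M m → {j : ↥M' ⧸ NM // j ≠ ((1 : ↥M') : ↥M' ⧸ NM) ∧ j ≠ ((⟨m, hm⟩ : ↥M') : ↥M' ⧸ NM)} × ↥W :=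
    fun v => (⟨q v, hq v⟩, ⟨_, hrep v⟩)
  have hf : Function.Injective f := fun u v e => by
    obtain ⟨e1, e2⟩ := Prod.ext_iff.1 e
    have e1' : q u = q v := congrArg Subtype.val e1
    have e2' : _ = _ := congrArg Subtype.val e2
    simp only [f, e1'] at e2'
    exact Subtype.ext (mul_left_cancel (mul_right_cancel e2'))
  refine (Nat.card_le_card_of_injective f hf).trans (le_of_eq ?_)
  haveI := Fintype.ofFinite (↥M' ⧸ NM)
  have hne : ((1 : ↥M') : ↥M' ⧸ NM) ≠ ((⟨m, hm⟩ : ↥M') : ↥M' ⧸ NM) := fun e => hmM (by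
    have h1 : (1 : G)⁻¹ * m ∈ stab M' W := (QuotientGroup.eq (s := NM)).1 e
    rw [inv_one, one_mul, ← F.stab_eq h] at h1
    exact h1.1)
  rw [Nat.card_prod, F.card, Nat.card_eq_fintype_card, Fintype.card_subtype]
  have h5 : Fintype.card (↥M' ⧸ NM) = 5 := by
    rw [← Nat.card_eq_fintype_card, F.right.card_points h, F.card]
  rw [show (Finset.univ.filter fun j : ↥M' ⧸ NM => j ≠ ((1 : ↥M') : ↥M' ⧸ NM) ∧ j ≠ ((⟨m, hm⟩ : ↥M') : ↥M' ⧸ NM)) =
    (Finset.univ.erase ((1 : ↥M') : ↥M' ⧸ NM)).erase ((⟨m, hm⟩ : ↥M') : ↥M' ⧸ NM) by ext j; simp [and_comm],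
    Finset.card_erase_of_mem (by simp [hne.symm]), Finset.card_erase_of_mem (by simp), Finset.card_univ, h5]

/-- at most five involutions in the coset of any other point -/
theorem coset_other {g : G} (hg : g ∉ M) (hcol : ¬ F.Collinear g) : Nat.card (CosetInv M g) ≤ 5 := by
  classical
  rcases isEmpty_or_nonempty (CosetInv M g) with he | ⟨⟨u, hu, hug⟩⟩
  · rw [Nat.card_eq_zero.2 (Or.inl he)]; exact Nat.zero_le 5
  have huM : u ∉ M := fun hh => hg (by simpa using M.mul_mem hh hug)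
  have hpt : cj g V = cj u V := F.point_congr h hna hug
  have huu : u * u = 1 := by rw [← pow_two, ← hu, pow_orderOf_eq_one]
  have hui : u⁻¹ = u := inv_eq_of_mul_eq_one_right huu
  have hcolu : ∀ c ∈ M, ∀ x, x ≠ 1 → x ∈ cj c A → x ∈ cj u V → False := fun c hc x hx1 hxA hxV =>
    hcol ⟨c, hc, x, hx1, hxA, hpt ▸ hxV⟩
  have hodd : ¬ 2 ∣ Nat.card ↥(meet M u) := by
    haveI : Fact (Nat.Prime 2) := ⟨Nat.prime_two⟩
    intro hd
    obtain ⟨d, hd⟩ := exists_prime_orderOf_dvd_card' (G := ↥(meet M u)) 2 hd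
    obtain ⟨hiM, hiu⟩ := mem_meet.1 d.2
    set i : G := (d : G)
    have hio : orderOf i = 2 := by rw [orderOf_coe, hd]
    have hi1 : i ≠ 1 := fun e => by rw [e, orderOf_one] at hio; omega
    have hiuo : orderOf (u⁻¹ * i * u) = 2 := by
      rw [show u⁻¹ * i * u = MulAut.conj u⁻¹ i by simp [mul_assoc], MulEquiv.orderOf_eq, hio]
    have hiu1 : u⁻¹ * i * u ≠ 1 := fun e => by rw [e, orderOf_one] at hiuo; omega
    rcases F.inv_cases h hna hiM hio with hiV | ⟨c, hc, hic, -⟩ <;>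
      rcases F.inv_cases h hna hiu hiuo with hjV | ⟨c', hc', hjc, -⟩
    · exact huM (F.pt_ti h hna hiV hi1 (by rw [mem_cj]; exact hjV))
    · refine hcolu c' hc' _ hiu1 hjc ?_
      rw [mem_cj, show u⁻¹ * (u⁻¹ * i * u) * u = (u * u)⁻¹ * i * (u * u) by group, huu]
      simpa using hiV
    · exact hcolu c hc i hi1 hic (by rw [mem_cj]; exact hjV)
    · have hmem : c⁻¹ * (u * c') ∈ M' := by
        refine F.ln_ti h hna (x := c⁻¹ * i * c) (by rw [mem_cj] at hic; exact hic) (fun e => hi1 ?_) ?_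
        · simpa [mul_assoc] using congrArg (MulAut.conj c) e
        · rw [mem_cj] at hjc ⊢
          simpa [mul_assoc] using hjc
      obtain ⟨w, hw, hw1⟩ := F.left.exists_mem_W
      refine hcolu c hc (u * c' * w * (u * c')⁻¹) (fun e => hw1 (conj_eq_one_iff.1 e)) ?_ ?_
      · rw [← F.line_congr h hna hmem]
        exact ⟨w, F.W_le_A hw, rfl⟩
      · rw [mem_cj]
        simpa [mul_assoc] using F.left.loc.conjR hc' (F.W_le_V hw)
  have hmem : ∀ v : CosetInv M g, u * v ∈ meet M u := fun v => by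
    have huv : u⁻¹ * (v : G) ∈ M := by simpa [mul_assoc] using M.mul_mem hug (inv_mem v.2.2)
    have hvv : (v : G) * v = 1 := by
      have h0 := pow_orderOf_eq_one (v : G)
      rwa [v.2.1, pow_two] at h0
    rw [hui] at huv
    refine mem_meet.2 ⟨huv, ?_⟩
    have := inv_mem huv
    rw [mul_inv_rev, inv_eq_of_mul_eq_one_right hvv, hui] at this
    rwa [hui, ← mul_assoc, huu, one_mul]
  have hinj : Function.Injective (fun v : CosetInv M g => (⟨u * v, hmem v⟩ : ↥(meet M u))) :=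
    fun v w e => Subtype.ext (mul_left_cancel (congrArg Subtype.val e))
  have hle := Nat.card_le_card_of_injective _ hinj
  have hd15 : Nat.card ↥(meet M u) ∣ 15 := by
    have hd : Nat.card ↥(meet M u) ∣ 64 * 15 := by
      have h1 := Subgroup.card_dvd_of_le (inf_le_left : meet M u ≤ M)
      rw [F.card_M h hna] at h1
      exact h1
    exact (Nat.Coprime.pow_right 6 ((Nat.prime_two.coprime_iff_not_dvd).2 hodd).symm).dvd_of_dvd_mul_left hd
  by_contra hgt
  have h15 : Nat.card ↥(meet M u) = 15 := by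
    have h1 := Nat.le_of_dvd (by norm_num) hd15
    have h2 : 5 < Nat.card ↥(meet M u) := by omega
    revert hd15
    interval_cases Nat.card ↥(meet M u) <;> simp
  haveI : Fact (Nat.Prime 3) := ⟨Nat.prime_three⟩
  haveI : Fact (Nat.Prime 5) := ⟨by norm_num⟩
  obtain ⟨x, hx⟩ := exists_prime_orderOf_dvd_card' (G := ↥(meet M u)) 3 (by rw [h15]; norm_num)
  obtain ⟨y, hy⟩ := exists_prime_orderOf_dvd_card' (G := ↥(meet M u)) 5 (by rw [h15]; norm_num)
  haveI : (zpowers y).Normal := by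
    refine Subgroup.normal_of_index_eq_minFac_card ?_
    have h1 := (zpowers y).card_mul_index
    rw [Nat.card_zpowers, hy, h15] at h1
    rw [h15, show (15 : ℕ).minFac = 3 by norm_num]
    omega
  obtain ⟨e, he⟩ := mem_powers_iff_mem_zpowers.2
    ((inferInstance : (zpowers y).Normal).conj_mem y (mem_zpowers y) x)
  have he' : y ^ e = x * y * x⁻¹ := he
  have hpow : x * x * x * y * (x * x * x)⁻¹ = y ^ (e * e * e) := by
    rw [show x * x * x * y * (x * x * x)⁻¹ = x * (x * (x * y * x⁻¹) * x⁻¹) * x⁻¹ by group, ← he', ← conj_pow,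
      ← he', ← pow_mul, ← conj_pow, ← he', ← pow_mul]
    ring_nf
  rw [show x * x * x = 1 by rw [← pow_three', ← hx, pow_orderOf_eq_one], one_mul, inv_one, mul_one] at hpow
  have hmod : e * e * e % 5 = 1 := by
    have h1 : y ^ 1 = y ^ (e * e * e) := by rw [pow_one]; exact hpow
    rw [pow_eq_pow_iff_modEq, hy] at h1
    exact h1.symm
  have he5 : e % 5 = 1 := by
    have h1 : e % 5 < 5 := Nat.mod_lt _ (by norm_num)
    rw [Nat.mul_mod, Nat.mul_mod e e 5] at hmod
    revert hmod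
    interval_cases e % 5 <;> simp
  have hcomm : Commute x y := by
    show x * y = y * x
    rw [← mul_inv_eq_iff_eq_mul, ← he', ← pow_mod_orderOf, hy, he5, pow_one]
  exact F.no_fifteen h hna (mem_meet.1 x.2).1 (mem_meet.1 y.2).1 (by rw [orderOf_coe, hx]) (by rw [orderOf_coe, hy])
    (congrArg Subtype.val hcomm.eq)

/-- there are 315 involutions and the order is 20160 -/
theorem card_invol : Nat.card {v : G // orderOf v = 2} = 315 ∧ Nat.card G = 20160 := by
  classical
  obtain ⟨z, hz, hz1⟩ := F.left.exists_mem_W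
  have hzz : z * z = 1 := F.elemV z (F.W_le_V hz)
  have hzo : orderOf z = 2 := orderOf_eq_prime (by rw [pow_two]; exact hzz) hz1
  -- involutions against cosets of the centraliser
  have hI : Nat.card {v : G // orderOf v = 2} = T.index := by
    have key : ∀ a b : G, a⁻¹ * b ∈ T ↔ a * z * a⁻¹ = b * z * b⁻¹ := fun a b => by
      rw [← F.cent_eq h hna hz hz1, mem_centralizer_singleton_iff]
      constructor
      · intro e
        calc a * z * a⁻¹ = a * (z * (a⁻¹ * b)) * b⁻¹ := by group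
          _ = _ := by rw [← e]; group
      · intro e
        calc a⁻¹ * b * z = a⁻¹ * (b * z * b⁻¹) * b := by group
          _ = _ := by rw [← e]; group
    let f : G ⧸ T → {v : G // orderOf v = 2} := Quotient.lift
      (fun a => ⟨a * z * a⁻¹, by rw [← MulAut.conj_apply, MulEquiv.orderOf_eq, hzo]⟩)
      (fun a b hab => Subtype.ext ((key a b).1 (QuotientGroup.leftRel_apply.1 hab)))
    refine (Nat.card_congr (Equiv.ofBijective f ⟨?_, ?_⟩)).symm
    · intro a b
      induction a using Quotient.inductionOn with | _ a => ?_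
      induction b using Quotient.inductionOn with | _ b => ?_
      intro e
      exact QuotientGroup.eq.2 ((key a b).2 (congrArg Subtype.val e))
    · rintro ⟨v, hv⟩
      obtain ⟨c, hc⟩ := F.all_conj h hna (by rw [← pow_two, ← hv, pow_orderOf_eq_one])
        (fun e => by rw [e, orderOf_one] at hv; omega) hz hz1
      exact ⟨QuotientGroup.mk c, Subtype.ext hc⟩
  have hTG : 64 * T.index = Nat.card G := by rw [← F.card_T h hna, card_mul_index]
  have hMG : 960 * M.index = Nat.card G := by rw [← F.card_M h hna, card_mul_index]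
  set NM := (stab M W).subgroupOf M
  set NM' := (stab M' W).subgroupOf M'
  haveI := Fintype.ofFinite (G ⧸ M)
  haveI := Fintype.ofFinite (↥M ⧸ NM)
  haveI := Fintype.ofFinite {j : ↥M' ⧸ NM' // j ≠ ((1 : ↥M') : ↥M' ⧸ NM')}
  -- the collinear points
  let φ : (↥M ⧸ NM) × {j : ↥M' ⧸ NM' // j ≠ ((1 : ↥M') : ↥M' ⧸ NM')} → G ⧸ M := fun p =>
    QuotientGroup.mk (((p.1.out : ↥M) : G) * ((p.2.1.out : ↥M') : G))
  have hjM : ∀ j : {j : ↥M' ⧸ NM' // j ≠ ((1 : ↥M') : ↥M' ⧸ NM')}, ((j.1.out : ↥M') : G) ∉ M := fun j hh =>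
    j.2 (by
      rw [← QuotientGroup.out_eq' j.1]
      refine ((QuotientGroup.eq (s := NM')).2 ?_).symm
      show (1 : G)⁻¹ * _ ∈ stab M' W
      rw [inv_one, one_mul, ← F.stab_eq h, F.mem_stab_iff h]
      exact ⟨hh, (j.1.out : ↥M').2⟩)
  have hφ : Function.Injective φ := by
    rintro ⟨q, j⟩ ⟨q', j'⟩ e
    set c : G := ((q.out : ↥M) : G)
    set c' : G := ((q'.out : ↥M) : G)
    set m : G := ((j.1.out : ↥M') : G)
    set m' : G := ((j'.1.out : ↥M') : G)
    have hmm : (c * m)⁻¹ * (c' * m') ∈ M := QuotientGroup.eq.1 e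
    have hc : c⁻¹ * c' ∈ M := M.mul_mem (inv_mem q.out.2) q'.out.2
    have hm'A : m' * z * m'⁻¹ ∈ A := F.right.loc.conjR j'.1.out.2 (F.W_le_A hz)
    have h1 : c⁻¹ * c' ∈ M' := by
      refine F.two_pts h hna (x := m * z * m⁻¹) (y := (c⁻¹ * c') * (m' * z * m'⁻¹) * (c⁻¹ * c')⁻¹) (hjM j) hc
        (fun e1 => hz1 (conj_eq_one_iff.1 e1)) (F.right.loc.conjR j.1.out.2 (F.W_le_A hz))
        ⟨z, F.W_le_V hz, rfl⟩ (fun e1 => hz1 (conj_eq_one_iff.1 (conj_eq_one_iff.1 e1))) ⟨_, hm'A, rfl⟩ ?_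
      rw [mem_cj]
      simpa [mul_assoc] using F.left.loc.conjR hmm (F.W_le_V hz)
    have hcN : c⁻¹ * c' ∈ stab M W := (F.mem_stab_iff h).2 ⟨hc, h1⟩
    obtain rfl : q = q' := by
      rw [← QuotientGroup.out_eq' q, ← QuotientGroup.out_eq' q']
      exact (QuotientGroup.eq (s := NM)).2 hcN
    refine Prod.ext rfl (Subtype.ext ?_)
    show j.1 = j'.1
    rw [← QuotientGroup.out_eq' j.1, ← QuotientGroup.out_eq' j'.1]
    refine (QuotientGroup.eq (s := NM')).2 ?_
    show m⁻¹ * m' ∈ stab M' W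
    rw [← F.stab_eq h, F.mem_stab_iff h]
    exact ⟨by simpa [c, c', mul_assoc] using hmm, M'.mul_mem (inv_mem j.1.out.2) j'.1.out.2⟩
  have hcard20 : Fintype.card ((↥M ⧸ NM) × {j : ↥M' ⧸ NM' // j ≠ ((1 : ↥M') : ↥M' ⧸ NM')}) = 20 := by
    haveI := Fintype.ofFinite (↥M' ⧸ NM')
    rw [Fintype.card_prod, ← Nat.card_eq_fintype_card, F.left.card_points h, F.card,
      ← Nat.card_eq_fintype_card, Nat.card_eq_fintype_card, Fintype.card_subtype_compl, Fintype.card_subtype_eq,
      ← Nat.card_eq_fintype_card, F.right.card_points h, F.card]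
  set C := Finset.univ.image φ
  have hC : C.card = 20 := by rw [Finset.card_image_of_injective _ hφ, Finset.card_univ, hcard20]
  set o : G ⧸ M := QuotientGroup.mk 1
  have hoC : o ∉ C := by
    simp only [C, Finset.mem_image, Finset.mem_univ, true_and, not_exists]
    rintro ⟨q, j⟩ e
    have h1 : ((((q.out : ↥M) : G)) * ((j.1.out : ↥M') : G))⁻¹ * 1 ∈ M := QuotientGroup.eq.1 e
    refine hjM j ?_
    rw [mul_one, inv_mem_iff] at h1
    simpa using M.mul_mem (inv_mem q.out.2) h1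
  have hN21 : 21 ≤ Fintype.card (G ⧸ M) := by
    have h1 := Finset.card_le_univ (insert o C)
    rw [Finset.card_insert_of_notMem hoC, hC] at h1
    exact h1
  -- the bound
  have hbound : ∀ c : G ⧸ M, Nat.card (CosetInv M c.out) ≤
      5 + (if c = o then 70 else 0) + (if c ∈ C then 7 else 0) := by
    intro c
    by_cases hco : c = o
    · have hgM : c.out ∈ M := by
        have h1 : (1 : G)⁻¹ * c.out ∈ M := QuotientGroup.eq.1 (hco.symm.trans (QuotientGroup.out_eq' c).symm)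
        simpa using h1
      rw [if_pos hco, if_neg (hco ▸ hoC)]
      exact F.coset_self h hna hgM
    rw [if_neg hco]
    by_cases hcC : c ∈ C
    · rw [if_pos hcC]
      simp only [C, Finset.mem_image, Finset.mem_univ, true_and] at hcC
      obtain ⟨⟨q, j⟩, e⟩ := hcC
      set d : G := ((q.out : ↥M) : G)
      set m : G := ((j.1.out : ↥M') : G)
      have hdm : (d * m)⁻¹ * c.out ∈ M := QuotientGroup.eq.1 (e.trans (QuotientGroup.out_eq' c).symm)
      refine le_trans (Nat.card_le_card_of_injective (fun v : CosetInv M c.out =>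
        (⟨d⁻¹ * v * d, by rw [show d⁻¹ * (v : G) * d = MulAut.conj d⁻¹ v by simp [mul_assoc], MulEquiv.orderOf_eq, v.2.1],
          by
            have h2 := M.mul_mem (M.mul_mem (inv_mem q.out.2) v.2.2) (inv_mem hdm)
            simpa [d, m, mul_assoc] using h2⟩ : CosetInv M m)) fun u v e' =>
        Subtype.ext (mul_left_cancel (mul_right_cancel (congrArg Subtype.val e')))) ?_
      exact F.coset_collinear h hna j.1.out.2 (hjM j)
    · rw [if_neg hcC]
      refine F.coset_other h hna (fun hh => hco ?_) ?_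
      · rw [← QuotientGroup.out_eq' c]
        exact QuotientGroup.eq.2 (by simpa using inv_mem hh)
      · rintro ⟨d, hd, x, hx1, hxA, hxg⟩
        refine hcC ?_
        have hxA' : d⁻¹ * x * d ∈ omega A := by rw [F.omegaA]; rw [mem_cj] at hxA; exact hxA
        obtain ⟨m, hm, w, hw, e⟩ := F.right.cover h hxA'
        have hdm : (d * m)⁻¹ * c.out ∈ M := by
          refine F.pt_ti h hna (x := w) (F.W_le_V hw) (fun e1 => hx1 ?_) ?_
          · rw [e1, mul_one, mul_inv_cancel] at e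
            simpa [mul_assoc] using congrArg (MulAut.conj d) e.symm
          · rw [mem_cj] at hxg ⊢
            have e2 : x = (d * m) * w * (d * m)⁻¹ := by
              rw [show (d * m) * w * (d * m)⁻¹ = d * (m * w * m⁻¹) * d⁻¹ by group, e]; group
            rw [e2] at hxg
            simpa [mul_assoc] using hxg
        set q : ↥M ⧸ NM := ((⟨d, hd⟩ : ↥M) : ↥M ⧸ NM)
        set n : G := ((q.out : ↥M) : G)⁻¹ * d
        have hn : n ∈ stab M W := (QuotientGroup.eq (s := NM)).1 (QuotientGroup.out_eq' q)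
        have hnm : n * m ∈ M' := M'.mul_mem (F.stab_A h hn) hm
        set j : ↥M' ⧸ NM' := ((⟨n * m, hnm⟩ : ↥M') : ↥M' ⧸ NM')
        have hn' : ((j.out : ↥M') : G)⁻¹ * (n * m) ∈ stab M' W :=
          (QuotientGroup.eq (s := NM')).1 (QuotientGroup.out_eq' j)
        rw [← F.stab_eq h] at hn'
        have hj : j ≠ ((1 : ↥M') : ↥M' ⧸ NM') := fun e1 => hco (by
          have h4 : (1 : G)⁻¹ * (n * m) ∈ stab M' W := (QuotientGroup.eq (s := NM')).1 e1.symm
          rw [inv_one, one_mul, ← F.stab_eq h] at h4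
          have hmM : m ∈ M := by simpa using M.mul_mem (inv_mem hn.1) h4.1
          rw [← QuotientGroup.out_eq' c]
          refine QuotientGroup.eq.2 ?_
          have h5 := M.mul_mem (M.mul_mem hd hmM) hdm
          simpa [mul_assoc] using h5)
        simp only [C, Finset.mem_image, Finset.mem_univ, true_and]
        refine ⟨(q, ⟨j, hj⟩), ?_⟩
        rw [← QuotientGroup.out_eq' c]
        refine QuotientGroup.eq.2 ?_
        show ((((q.out : ↥M) : G)) * ((j.out : ↥M') : G))⁻¹ * c.out ∈ M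
        have h6 := M.mul_mem hn'.1 hdm
        simpa [n, mul_assoc] using h6
  have e : Nat.card {v : G // orderOf v = 2} = ∑ c : G ⧸ M, Nat.card (CosetInv M c.out) := by
    rw [← Nat.card_sigma]
    refine Nat.card_congr
      { toFun := fun v => ⟨QuotientGroup.mk v.1, v.1, v.2, QuotientGroup.eq.1 (QuotientGroup.out_eq' _).symm⟩
        invFun := fun p => ⟨p.2.1, p.2.2.1⟩
        left_inv := fun v => rfl
        right_inv := ?_ }
    rintro ⟨c, v, hv, hvc⟩
    obtain rfl : QuotientGroup.mk v = c := (QuotientGroup.eq.2 hvc).trans (QuotientGroup.out_eq' c)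
    rfl
  have hsum : Nat.card {v : G // orderOf v = 2} ≤ 5 * Fintype.card (G ⧸ M) + 210 := by
    rw [e]
    refine (Finset.sum_le_sum fun c _ => hbound c).trans (le_of_eq ?_)
    rw [Finset.sum_add_distrib, Finset.sum_add_distrib, Finset.sum_ite_eq', Finset.sum_ite_mem, Finset.univ_inter,
      Finset.sum_const, Finset.sum_const, Finset.card_univ, hC, if_pos (Finset.mem_univ o), smul_eq_mul, smul_eq_mul]
    ring
  have hidx : M.index = Fintype.card (G ⧸ M) := Nat.card_eq_fintype_card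
  rw [hI] at hsum ⊢
  omega

end Flag

end Cfsg.Lib.CITGroups
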