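import Cfsg.Agent.CITGroups.Amalgam
import Cfsg.Agent.Transfer.ThompsonTransfer

/-!
The plane configuration: the common maximal 2-subgroup is a Sylow subgroup of a simple group.
-/

set_option autoImplicit false
set_option linter.unusedSectionVars false
set_option linter.style.haveILetI false

namespace Cfsg.Lib.CITGroups

open Subgroup Cfsg.Lib.PrimePowerOrders Cfsg.Lib.AutThreeFour

variable {G : Type*} [Group G] [Finite G]

/-- A coset of a 2-group on which an element of odd prime order is inverted holds an inverting involution. -/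
theorem exists_inverting (h : CIT G) {K : Subgroup G} (hK : IsPGroup 2 ↥K) {s x : G} {p : ℕ} (hp : p.Prime)
    (hp2 : p ≠ 2) (hx : orderOf x = p) (hxK : x ∈ normalizer (K : Set G)) (hsK : s ∈ normalizer (K : Set G))
    (hs2 : s * s ∈ K) (hinv : s * x * s⁻¹ * x ∈ K) (hs : s ∉ K) :
    ∃ v, v * v = 1 ∧ v ≠ 1 ∧ s⁻¹ * v ∈ K ∧ v * x * v⁻¹ = x⁻¹ := by
  haveI := Fact.mk hp
  have hxm : ∀ v ∈ K, x⁻¹ * v * x ∈ K := fun v hv => by simpa using nrm_conj (inv_mem hxK) hv
  have hsm : ∀ v ∈ K, s⁻¹ * v * s ∈ K := fun v hv => by simpa using nrm_conj (inv_mem hsK) hv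
  have h1 : s⁻¹ * x * s * x ∈ K := by
    have := hxm _ (hsm _ hinv)
    rwa [show x⁻¹ * (s⁻¹ * (s * x * s⁻¹ * x) * s) * x = s⁻¹ * x * s * x by group] at this
  have hstep : ∀ v : G, s⁻¹ * v ∈ K → s⁻¹ * (x * v * x) ∈ K := fun v hv => by
    rw [show s⁻¹ * (x * v * x) = (s⁻¹ * x * s * x) * (x⁻¹ * (s⁻¹ * v) * x) by group]
    exact K.mul_mem h1 (hxm _ hv)
  letI : MulAction ↥(zpowers x) {v : G // s⁻¹ * v ∈ K} :=
    { smul := fun g v => ⟨(g : G) * v * g, by
        obtain ⟨i, hi⟩ := mem_powers_iff_mem_zpowers.2 g.2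
        rw [← hi]
        show s⁻¹ * (x ^ i * v * x ^ i) ∈ K
        clear hi
        induction i with
        | zero => simpa using v.2
        | succ i ih =>
          rw [show x ^ (i + 1) * (v : G) * x ^ (i + 1) = x * (x ^ i * v * x ^ i) * x by
            conv_lhs => arg 1; rw [pow_succ']
            rw [pow_succ]; group]
          exact hstep _ ih⟩
      one_smul := fun v => Subtype.ext (by show ((1 : ↥(zpowers x)) : G) * v * _ = v; simp)
      mul_smul := fun g g' v => Subtype.ext (by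
        show ((g * g' : ↥(zpowers x)) : G) * v * ((g * g' : ↥(zpowers x)) : G) = g * (g' * v * g') * g
        have hc : (g : G) * g' = g' * g := congrArg Subtype.val (mul_comm' g g')
        push_cast
        conv_lhs => arg 2; rw [hc]
        group) }
  have hP : IsPGroup p ↥(zpowers x) := IsPGroup.of_card (n := 1) (by rw [Nat.card_zpowers, hx, pow_one])
  have hcard : Nat.card {v : G // s⁻¹ * v ∈ K} = Nat.card ↥K :=
    Nat.card_congr
      { toFun := fun v => ⟨s⁻¹ * v, v.2⟩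
        invFun := fun k => ⟨s * k, by simpa using k.2⟩
        left_inv := fun v => Subtype.ext (mul_inv_cancel_left _ _)
        right_inv := fun k => Subtype.ext (inv_mul_cancel_left _ _) }
  have hnd : ¬ p ∣ Nat.card {v : G // s⁻¹ * v ∈ K} := by
    haveI : Fact (Nat.Prime 2) := ⟨Nat.prime_two⟩
    rw [hcard]
    intro hd
    obtain ⟨i, hi⟩ := IsPGroup.iff_card.1 hK
    rw [hi] at hd
    exact hp2 ((Nat.prime_dvd_prime_iff_eq hp Nat.prime_two).1 (hp.dvd_of_dvd_pow hd))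
  obtain ⟨⟨v, hv⟩, hvfix⟩ := hP.nonempty_fixed_point_of_prime_not_dvd_card _ hnd
  have hfix : x * v * x = v :=
    congrArg (fun w : {v : G // s⁻¹ * v ∈ K} => (w : G)) (hvfix ⟨x, mem_zpowers x⟩)
  have hvv : v * v ∈ K := by
    rw [show v * v = (s * s) * ((s⁻¹ * (s⁻¹ * v) * s) * (s⁻¹ * v)) by group]
    exact K.mul_mem hs2 (K.mul_mem (hsm _ hv) hv)
  have hxv : v * x * v⁻¹ = x⁻¹ := by
    calc v * x * v⁻¹ = x⁻¹ * (x * v * x) * v⁻¹ := by group
      _ = x⁻¹ := by rw [hfix, mul_inv_cancel_right]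
  refine ⟨v, h.comm_two hp hp2 hx (two_of_mem hK hvv) ?_, fun e => hs (by simpa [e] using hv), hv, hxv⟩
  show x * (v * v) = v * v * x
  calc x * (v * v) = x * v * x * (x⁻¹ * v) := by group
    _ = v * (x⁻¹ * v) := by rw [hfix]
    _ = v * (x⁻¹ * (x * v * x)) := by rw [hfix]
    _ = _ := by group

theorem cj_elem {B : Subgroup G} (hB : Elem B) (g : G) : Elem (cj g B) := by
  rintro _ ⟨b, hb, rfl⟩
  rw [← map_mul, hB b hb, map_one]

/-- every element of the central elementary subgroup is conjugate into the fixed space -/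
theorem Off.cover {M R T A W : Subgroup G} (O : Off M R T A W) (h : CIT G) {u : G} (hu : u ∈ omega R) :
    ∃ c ∈ M, ∃ z ∈ W, c * z * c⁻¹ = u := by
  by_cases huW : u ∈ W
  · exact ⟨1, M.one_mem, u, huW, by group⟩
  obtain ⟨k, hk, hkN⟩ := O.exists_point h
  obtain ⟨w₁, hw₁, w₂, hw₂, e⟩ := O.decomp h hk hkN hu
  have hw₂1 : w₂ ≠ 1 := fun e2 => huW (by rw [e, e2]; simpa using hw₁)
  have hx := O.loc.omega_normal hk (O.W_le_V hw₂)
  obtain ⟨a, ha, hax⟩ := O.surjA _ hx (fun hh => hkN (O.ti h hk hw₂ hw₂1 hh)) w₁ hw₁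
  refine ⟨a * k, M.mul_mem (O.A_le_M ha) hk, w₂, hw₂, ?_⟩
  rw [e, ← hax, cm, inv_mul_cancel_right]
  group

namespace Flag

variable {M V M' A T W : Subgroup G} (F : Flag M V M' A T W) (h : CIT G)
include F

theorem omegaV : omega V = V := omega_eq_of_elem F.elemV
theorem omegaA : omega A = A := omega_eq_of_elem F.left.elem
theorem normV : normalizer (V : Set G) = M := F.left.loc.norm
theorem normA : normalizer (A : Set G) = M' := F.right.loc.norm
theorem V_le : V ≤ T := F.left.toSetup.le_T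
theorem A_le : A ≤ T := F.left.leA
theorem W_le_A : W ≤ A := F.left.W_le_A
theorem W_le_V : W ≤ V := F.right.W_le_A
theorem inter : A ⊓ V = W := by rw [F.left.eqW, F.omegaV]

theorem cardV : Nat.card ↥V = 16 := by
  have := F.left.card
  rwa [F.omegaV, F.card] at this

theorem cardA : Nat.card ↥A = 16 := by
  have := F.right.card
  rwa [F.omegaA, F.card] at this

include h

theorem elem_T {B : Subgroup G} (hBT : B ≤ T) (hB : Elem B) : B ≤ V ∨ B ≤ A :=
  F.left.elem_cases h F.omegaV.symm hBT hB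

theorem sq_cases {x : G} (hx : x ∈ T) (hx2 : x * x = 1) : x ∈ V ∨ x ∈ A := by
  have he : Elem (zpowers x) := fun y hy => by
    obtain ⟨i, rfl⟩ := mem_powers_iff_mem_zpowers.2 hy
    show x ^ i * x ^ i = 1
    rw [← (Commute.refl x).mul_pow, hx2, one_pow]
  exact (F.elem_T h (zpowers_le.2 hx) he).imp (fun e => e (mem_zpowers x)) fun e => e (mem_zpowers x)

theorem elem16 {B : Subgroup G} (hBT : B ≤ T) (hB : Elem B) (h16 : Nat.card ↥B = 16) : B = V ∨ B = A :=
  (F.elem_T h hBT hB).imp (fun e => eq_of_le_of_card_ge e (by rw [h16, F.cardV]))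
    fun e => eq_of_le_of_card_ge e (by rw [h16, F.cardA])

omit h in
theorem V_ne_A : V ≠ A := fun e => by
  obtain ⟨a, ha, haV⟩ := F.left.out
  exact haV (e ▸ ha)

theorem norm_cases {g : G} (hg : g ∈ normalizer (T : Set G)) : cj g V = V ∨ cj g V = A := by
  refine F.elem16 h ?_ (cj_elem F.elemV g) (by rw [card_cj, F.cardV])
  rintro _ ⟨v, hv, rfl⟩
  exact nrm_conj hg (F.V_le hv)

omit h in
theorem mem_M_of_cj {g : G} (e : cj g V = V) : g ∈ M := by
  rw [← F.normV]
  exact mem_nrm fun v hv => e.le ⟨v, hv, rfl⟩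

/-- in a larger 2-group the subgroups are exchanged -/
theorem swap_of {U : Subgroup G} (hU : IsPGroup 2 ↥U) (hTU : T ≤ U) {s : G} (hs : s ∈ U)
    (hsn : s ∈ normalizer (T : Set G)) (hsT : s ∉ T) : cj s V = A := by
  refine (F.norm_cases h hsn).resolve_left fun e => hsT ?_
  have h1 := F.left.max (T ⊔ zpowers s) (sup_le F.left.le (zpowers_le.2 (F.mem_M_of_cj e)))
    (hU.to_le (sup_le hTU (zpowers_le.2 hs))) le_sup_left
  exact h1 ▸ mem_sup_right (mem_zpowers s)

theorem mul_of {U : Subgroup G} (hU : IsPGroup 2 ↥U) (hTU : T ≤ U) {s s' : G} (hs : s ∈ U)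
    (hsn : s ∈ normalizer (T : Set G)) (hsT : s ∉ T) (hs' : s' ∈ U) (hs'n : s' ∈ normalizer (T : Set G))
    (hs'T : s' ∉ T) : s * s' ∈ T := by
  by_contra hne
  have h1 := F.swap_of h hU hTU (mul_mem hs hs') (mul_mem hsn hs'n) hne
  rw [cj_mul, F.swap_of h hU hTU hs' hs'n hs'T] at h1
  have h2 := F.swap_of h hU hTU hs hsn hsT
  have h3 : cj s V = cj s A := h2.trans h1.symm
  exact F.V_ne_A (map_injective (MulAut.conj s).injective h3)

/-- large elementary subgroups of a 2-group over `T` lie in `T` -/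
theorem elem16_le {U : Subgroup G} (hU : IsPGroup 2 ↥U) (hTU : T ≤ U) {E : Subgroup G} (hEU : E ≤ U)
    (hEn : E ≤ normalizer (T : Set G)) (hE : Elem E) (h16 : Nat.card ↥E = 16) : E ≤ T := by
  classical
  by_contra hne
  obtain ⟨e, he, heT⟩ := SetLike.not_le_iff_exists.1 hne
  let f : ↥E → ↥(E ⊓ T) × Bool := fun y => if hy : (y : G) ∈ T then (⟨y, y.2, hy⟩, false)
    else (⟨e * y, E.mul_mem he y.2, F.mul_of h hU hTU (hEU he) (hEn he) heT (hEU y.2) (hEn y.2) hy⟩, true)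
  have hf : Function.Injective f := fun a b k => by
    simp only [f] at k
    split_ifs at k with ha hb hb <;> simp only [Prod.mk.injEq, Subtype.mk.injEq, Bool.false_eq_true,
      Bool.true_eq_false, and_false, and_true] at k
    · exact Subtype.ext (congrArg Subtype.val k :)
    · exact Subtype.ext (mul_left_cancel (congrArg Subtype.val k :))
  have h1 := Nat.card_le_card_of_injective f hf
  rw [Nat.card_prod, h16, Nat.card_eq_fintype_card (α := Bool), Fintype.card_bool] at h1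
  have hsw := F.swap_of h hU hTU (hEU he) (hEn he) heT
  have hsw' : cj e A = V := by
    rw [← hsw, ← cj_mul, hE e he, cj_one]
  have hW : E ⊓ T ≤ W := fun y hy => by
    have hfix : e * y * e⁻¹ = y := by rw [(hE.comm he hy.1).eq, mul_inv_cancel_right]
    rw [← F.inter]
    rcases F.sq_cases h hy.2 (hE y hy.1) with hyV | hyA
    · exact ⟨hfix ▸ hsw.le ⟨y, hyV, rfl⟩, hyV⟩
    · exact ⟨hyA, hfix ▸ hsw'.le ⟨y, hyA, rfl⟩⟩
  have h2 : Nat.card ↥(E ⊓ T) ≤ Nat.card ↥W :=
    Nat.card_le_card_of_injective (inclusion hW) (inclusion_injective _)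
  rw [F.card] at h2
  omega

/-- every 2-group over `T` normalises it -/
theorem le_norm {U : Subgroup G} (hU : IsPGroup 2 ↥U) (hTU : T ≤ U) : U ≤ normalizer (T : Set G) := by
  by_contra hne
  haveI : Fact (Nat.Prime 2) := ⟨Nat.prime_two⟩
  haveI := hU.isNilpotent
  set U₁ := U ⊓ normalizer (T : Set G)
  have hlt : U₁.subgroupOf U < ⊤ := lt_top_iff_ne_top.2 fun e => hne ((subgroupOf_eq_top.1 e).trans inf_le_right)
  obtain ⟨⟨u, huU⟩, hun, hu₁⟩ := SetLike.exists_of_lt (Group.normalizerCondition_of_isNilpotent _ hlt)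
  have hmove : ∀ x ∈ U₁, u * x * u⁻¹ ∈ U₁ := fun x hx => (mem_normalizer_iff.1 hun ⟨x, hx.1⟩).1 hx
  have key : ∀ B : Subgroup G, B ≤ T → Elem B → Nat.card ↥B = 16 → cj u B ≤ T := fun B hB hBe hB16 => by
    have hle : cj u B ≤ U₁ := by
      rintro _ ⟨b, hb, rfl⟩
      exact hmove b ⟨hTU (hB hb), le_normalizer (hB hb)⟩
    exact F.elem16_le h hU hTU (hle.trans inf_le_left) (hle.trans inf_le_right) (cj_elem hBe u)
      (by rw [card_cj, hB16])
  refine hu₁ ⟨huU, mem_nrm fun t ht => ?_⟩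
  obtain ⟨a, ha, r, hr, rfl⟩ := F.left.T_decomp h ht
  show u * (a * r) * u⁻¹ ∈ T
  rw [show u * (a * r) * u⁻¹ = (u * a * u⁻¹) * (u * r * u⁻¹) by group]
  exact T.mul_mem (key A F.A_le F.left.elem F.cardA ⟨a, ha, rfl⟩) (key V F.V_le F.elemV F.cardV ⟨r, hr, rfl⟩)

theorem over_sq {U : Subgroup G} (hU : IsPGroup 2 ↥U) (hTU : T ≤ U) {x : G} (hx : x ∈ U) : x * x ∈ T := by
  by_cases hxT : x ∈ T
  · exact T.mul_mem hxT hxT
  · exact F.mul_of h hU hTU hx (F.le_norm h hU hTU hx) hxT hx (F.le_norm h hU hTU hx) hxT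

theorem over_elem16 {U : Subgroup G} (hU : IsPGroup 2 ↥U) (hTU : T ≤ U) {E : Subgroup G} (hEU : E ≤ U)
    (hE : Elem E) (h16 : Nat.card ↥E = 16) : E = V ∨ E = A :=
  F.elem16 h (F.elem16_le h hU hTU hEU (hEU.trans (F.le_norm h hU hTU)) hE h16) hE h16

omit h in
theorem T_le_cent (h' : CIT G) {w : G} (hw : w ∈ W) : T ≤ centralizer ({w} : Set G) := fun t ht =>
  mem_centralizer_singleton_iff.2 (((F.left.mem_T h').1 ht).2 w hw).eq

theorem cent_two {w : G} (hw : w ∈ W) (hw1 : w ≠ 1) : IsPGroup 2 ↥(centralizer ({w} : Set G)) :=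
  h.isPGroup_centralizer (two_of_mem F.left.two (F.A_le (F.W_le_A hw))) hw1

/-- an element of order three transitive on the involutions of `W` -/
theorem exists_three : ∃ x ∈ stab M W, orderOf x = 3 ∧ x ∉ T ∧
    ∀ w ∈ W, w ≠ 1 → ∀ w' ∈ W, w' ≠ 1 → w' = w ∨ w' = x * w * x⁻¹ ∨ w' = x⁻¹ * w * x := by
  classical
  obtain ⟨k, hk, hkN⟩ := F.left.exists_point h
  obtain ⟨a₁, ha₁, ha₁V⟩ := F.left.out
  obtain ⟨a₂, ha₂, ha₂V, hne⟩ : ∃ a ∈ A, a ∉ V ∧ a * a₁⁻¹ ∉ W := by
    by_contra hcon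
    push Not at hcon
    let f : ↥A → ↥W × Bool := fun a => if ha : (a : G) ∈ V then (⟨a, F.inter.le ⟨a.2, ha⟩⟩, false)
      else (⟨_, hcon a a.2 ha⟩, true)
    have hf : Function.Injective f := fun a b e => by
      simp only [f] at e
      split_ifs at e with ha hb hb <;> simp only [Prod.mk.injEq, Subtype.mk.injEq, Bool.false_eq_true,
        Bool.true_eq_false, and_false, and_true] at e
      · exact Subtype.ext e
      · exact Subtype.ext (mul_right_cancel e)
    have h1 := Nat.card_le_card_of_injective f hf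
    rw [Nat.card_prod, F.cardA, F.card, Nat.card_eq_fintype_card (α := Bool), Fintype.card_bool] at h1
    omega
  obtain ⟨g, hg, hga⟩ := F.left.conj_elem h hk hkN ha₁ ha₁V ha₂ ha₂V
  have hgV : g ∉ V := fun hgV => hne <| F.inter.le ⟨A.mul_mem ha₂ (inv_mem ha₁), by
    rw [show a₂ * a₁⁻¹ = (g * a₁ * g⁻¹ * a₂⁻¹)⁻¹ * (g * (a₁ * g⁻¹ * a₁⁻¹)) by group]
    exact V.mul_mem (inv_mem hga) (V.mul_mem hgV (F.left.loc.conjR (F.left.A_le_M ha₁) (inv_mem hgV)))⟩
  have hg2 : ¬ Two g := fun h2 => hgV (F.left.two_base h hk hkN hg h2)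
  obtain ⟨p, n, hp, hp2, hn⟩ := exists_odd_prime hg2
  set x := g ^ n
  have hxb : x ∈ base M W k := pow_mem hg n
  have hxN := (mem_base.1 hxb).1
  have hfix : ∀ i : ℕ, 0 < i → i < p → ∀ w ∈ W, w ≠ 1 → x ^ i * w * (x ^ i)⁻¹ ≠ w := fun i hi0 hip w hw hw1 e => by
    have hmem := F.left.fpf h hk hkN (pow_mem hxb i) hw hw1 (mul_inv_eq_iff_eq_mul.1 e)
    have ho : orderOf (x ^ i) = p := by
      rw [orderOf_pow' _ hi0.ne', hn, ((hp.coprime_iff_not_dvd).2 fun hd => absurd (Nat.le_of_dvd hi0 hd) (by omega)).gcd_eq_one,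
        Nat.div_one]
    obtain ⟨j, hj⟩ := two_of_mem F.left.loc.two hmem
    rw [ho] at hj
    exact hp2 ((Nat.prime_dvd_prime_iff_eq hp Nat.prime_two).1 (hp.dvd_of_dvd_pow (dvd_of_eq hj)))
  have key : ∀ w ∈ W, w ≠ 1 → p = 3 ∧ ∀ w' ∈ W, w' ≠ 1 → ∃ i < p, x ^ i * w * (x ^ i)⁻¹ = w' := by
    intro w hw hw1
    haveI := Fintype.ofFinite ↥W
    let f : Fin p → {u : ↥W // u ≠ 1} := fun i => ⟨⟨x ^ (i : ℕ) * w * (x ^ (i : ℕ))⁻¹,
      F.left.stab_conj (pow_mem hxN _) hw⟩, fun e => hw1 (conj_eq_one_iff.1 (congrArg Subtype.val e))⟩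
    have hf : Function.Injective f := by
      intro i j e
      have e' : x ^ (i : ℕ) * w * (x ^ (i : ℕ))⁻¹ = x ^ (j : ℕ) * w * (x ^ (j : ℕ))⁻¹ :=
        congrArg (fun u : {u : ↥W // u ≠ 1} => ((u : ↥W) : G)) e
      have main : ∀ a b : ℕ, a < b → b < p → x ^ a * w * (x ^ a)⁻¹ ≠ x ^ b * w * (x ^ b)⁻¹ := fun a b hab hb e => by
        refine hfix (b - a) (by omega) (by omega) w hw hw1 ?_
        rw [show x ^ (b - a) = (x ^ a)⁻¹ * x ^ b by rw [eq_inv_mul_iff_mul_eq, ← pow_add]; congr 1; omega,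
          show (x ^ a)⁻¹ * x ^ b * w * ((x ^ a)⁻¹ * x ^ b)⁻¹ = (x ^ a)⁻¹ * (x ^ b * w * (x ^ b)⁻¹) * x ^ a by group,
          ← e]
        group
      rcases lt_trichotomy (i : ℕ) j with hlt | heq | hlt
      · exact absurd e' (main _ _ hlt j.2)
      · exact Fin.ext heq
      · exact absurd e'.symm (main _ _ hlt i.2)
    have hc : Fintype.card {u : ↥W // u ≠ 1} = 3 := by
      rw [Fintype.card_subtype_compl, Fintype.card_subtype_eq, ← Nat.card_eq_fintype_card, F.card]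
    have h1 := Fintype.card_le_of_injective f hf
    rw [hc, Fintype.card_fin] at h1
    have hp3 : p = 3 := by have := hp.two_le; omega
    refine ⟨hp3, fun w' hw' hw'1 => ?_⟩
    obtain ⟨i, hi⟩ := ((Fintype.bijective_iff_injective_and_card f).2 ⟨hf, by rw [hc, Fintype.card_fin, hp3]⟩).2
      ⟨⟨w', hw'⟩, fun e => hw'1 (congrArg Subtype.val e)⟩
    exact ⟨i, i.2, congrArg (fun u : {u : ↥W // u ≠ 1} => ((u : ↥W) : G)) hi⟩
  obtain ⟨w₀, hw₀, hw₀1⟩ := F.left.exists_mem_W
  have hp3 := (key w₀ hw₀ hw₀1).1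
  have hxo : orderOf x = 3 := by rw [hn, hp3]
  refine ⟨x, hxN, hxo, fun hxT => ?_, fun w hw hw1 w' hw' hw'1 => ?_⟩
  · obtain ⟨j, hj⟩ := two_of_mem F.left.two hxT
    rw [hxo] at hj
    exact absurd ((Nat.prime_dvd_prime_iff_eq Nat.prime_three Nat.prime_two).1
      (Nat.prime_three.dvd_of_dvd_pow (dvd_of_eq hj))) (by norm_num)
  · obtain ⟨i, hi, hiw⟩ := (key w hw hw1).2 w' hw' hw'1
    rw [hp3] at hi
    have hx3 : x ^ 3 = 1 := by rw [← hxo, pow_orderOf_eq_one]
    interval_cases i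
    · exact Or.inl (by simpa using hiw.symm)
    · exact Or.inr (Or.inl (by simpa using hiw.symm))
    · refine Or.inr (Or.inr ?_)
      rw [← hiw, show x ^ 2 = x⁻¹ from eq_inv_of_mul_eq_one_left (by rw [← pow_succ, hx3]), inv_inv]

/-- a 2-element commuting with an involution of `W` in the point stabiliser lies in `T` -/
theorem stab_cent {g w : G} (hg : g ∈ stab M W) (hw : w ∈ W) (hw1 : w ≠ 1) (hc : g * w * g⁻¹ = w) : g ∈ T :=
  F.left.two_mem h hg (two_of_mem (F.cent_two h hw hw1) (mem_centralizer_singleton_iff.2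
    (mul_inv_eq_iff_eq_mul.1 hc)))

/-- every element of `T` squaring to one is conjugate into `W` -/
theorem conj_into_W {u : G} (hu : u ∈ T) (hu2 : u * u = 1) (hu1 : u ≠ 1) :
    ∃ g z, z ∈ W ∧ z ≠ 1 ∧ g * z * g⁻¹ = u := by
  have key : ∀ {N R B : Subgroup G} (_ : Off N R T B W), u ∈ omega R → ∃ g z, z ∈ W ∧ z ≠ 1 ∧ g * z * g⁻¹ = u := by
    intro N R B O huR
    obtain ⟨c, -, z, hz, e⟩ := O.cover h huR
    exact ⟨c, z, hz, fun e1 => hu1 (by rw [← e, e1]; group), e⟩
  rcases F.sq_cases h hu hu2 with hV | hA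
  · exact key F.left (by rw [F.omegaV]; exact hV)
  · exact key F.right (by rw [F.omegaA]; exact hA)

variable [IsSimpleGroup G] (hna : ¬ IsMulCommutative G)
include hna

/-- **The common subgroup is a Sylow subgroup.** -/
theorem sylow_eq (S : Sylow 2 G) (hTS : T ≤ (S : Subgroup G)) : (S : Subgroup G) = T := by
  classical
  haveI : Fact (Nat.Prime 2) := ⟨Nat.prime_two⟩
  by_contra hne
  obtain ⟨s, hsS, hsT⟩ := SetLike.exists_of_lt (lt_of_le_of_ne hTS (Ne.symm hne))
  have hsn := F.le_norm h S.2 hTS hsS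
  have hsw := F.swap_of h S.2 hTS hsS hsn hsT
  obtain ⟨x, hxN, hxo, hxT, htrans⟩ := F.exists_three h
  have hxn : x ∈ normalizer (T : Set G) := mem_nrm fun t ht => F.left.stab_nrm h hxN ht
  -- the element of order three is inverted
  set y := s * x * s⁻¹ with hydef
  have hss : s * s ∈ T := F.over_sq h S.2 hTS hsS
  have hswA : cj s A = V := by
    conv_lhs => rw [← hsw, ← cj_mul]
    have hT' : ∀ t ∈ T, cj t V = V := fun t ht => by
      refine (F.norm_cases h (le_normalizer ht)).resolve_right fun e => F.V_ne_A ?_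
      refine eq_of_le_of_card_ge (fun v hv => e.le ?_) (by rw [F.cardV, F.cardA])
      rw [mem_cj]
      simpa using F.left.loc.conjR (inv_mem (F.left.le ht)) hv
    exact hT' _ hss
  have hsiA : cj s⁻¹ V = A := by rw [← hswA, ← cj_mul, inv_mul_cancel, cj_one]
  have hxA : cj x A = A := by
    refine (F.elem16 h ?_ (cj_elem F.left.elem x) (by rw [card_cj, F.cardA])).resolve_left fun e => ?_
    · rintro _ ⟨v, hv, rfl⟩
      exact nrm_conj hxn (F.A_le hv)
    · obtain ⟨a, ha, haV⟩ := F.left.out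
      have h1 : x * a * x⁻¹ ∈ V := e.le ⟨a, ha, rfl⟩
      exact haV (by simpa [mul_assoc] using F.left.loc.conjR (inv_mem hxN.1) h1)
  have hyN : y ∈ stab M W := by
    have hyn : y ∈ normalizer (T : Set G) := mul_mem (mul_mem hsn hxn) (inv_mem hsn)
    have hyV : cj y V = V := by rw [hydef, cj_mul, cj_mul, hsiA, hxA, hswA]
    refine ⟨F.mem_M_of_cj hyV, mem_nrm fun w hw => ?_⟩
    obtain ⟨a, ha, haV⟩ := F.left.out
    have hyat : y * a * y⁻¹ ∈ T := nrm_conj hyn (F.A_le ha)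
    refine F.left.fix_cent h ((F.left.mem_T h).1 hyat).1 ((F.left.mem_T h).1 hyat).2 (fun hh => haV ?_)
      (F.left.loc.omega_normal (F.mem_M_of_cj hyV) (F.left.W_le_V hw)) ?_
    · simpa [mul_assoc] using F.left.loc.conjR (inv_mem (F.mem_M_of_cj hyV)) hh
    · exact (F.left.A_cent ha w hw).map (MulAut.conj y).toMonoidHom
  obtain ⟨w₀, hw₀, hw₀1⟩ := F.left.exists_mem_W
  have hyT : y ∉ T := fun hh => hxT (by
    have := nrm_conj (inv_mem hsn) hh
    simpa [hydef, mul_assoc] using this)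
  have hw₁ := F.left.stab_conj hxN hw₀
  have hyw := F.left.stab_conj hyN hw₀
  have hyw1 : y * w₀ * y⁻¹ ≠ 1 := fun e => hw₀1 (conj_eq_one_iff.1 e)
  have hinv : s * x * s⁻¹ * x ∈ T := by
    rcases htrans w₀ hw₀ hw₀1 _ hyw hyw1 with e | e | e
    · exact absurd (F.stab_cent h hyN hw₀ hw₀1 e) hyT
    · exfalso
      have h1 : x⁻¹ * y ∈ T := F.stab_cent h (mul_mem (inv_mem hxN) hyN) hw₀ hw₀1 (by
        rw [show x⁻¹ * y * w₀ * (x⁻¹ * y)⁻¹ = x⁻¹ * (y * w₀ * y⁻¹) * x by group, e]; group)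
      refine hsT (h.fixed_mem F.left.two Nat.prime_three (by norm_num) hxo hxn hsn (two_of_mem S.2 hsS) ?_)
      have h2 : x * (x⁻¹ * y) * x⁻¹ ∈ T := nrm_conj hxn h1
      rw [show x * s * x⁻¹ * s⁻¹ = (x * (x⁻¹ * y) * x⁻¹)⁻¹ by simp only [hydef]; group]
      exact inv_mem h2
    · have h1 : x * y ∈ T := F.stab_cent h (mul_mem hxN hyN) hw₀ hw₀1 (by
        rw [show x * y * w₀ * (x * y)⁻¹ = x * (y * w₀ * y⁻¹) * x⁻¹ by group, e]; group)
      have h2 := nrm_conj (inv_mem hxn) h1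
      simpa [hydef, mul_assoc] using h2
  obtain ⟨v, hvv, hv1, hsv, hvx⟩ :=
    exists_inverting h F.left.two Nat.prime_three (by norm_num) hxo hxn hsn hss hinv hsT
  have hvS : v ∈ (S : Subgroup G) := by simpa using mul_mem hsS (hTS hsv)
  have hvT : v ∉ T := fun hh => hsT (by simpa using inv_mem (mul_mem hsv (inv_mem hh)))
  have hvn := F.le_norm h S.2 hTS hvS
  have hvi : v⁻¹ = v := inv_eq_of_mul_eq_one_right hvv
  have hvV := F.swap_of h S.2 hTS hvS hvn hvT
  have hvA : cj v A = V := by rw [← hvV, ← cj_mul, hvv, cj_one]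
  -- transfer
  have hidx : (T.subgroupOf (S : Subgroup G)).index = 2 := by
    refine Subgroup.index_eq_two_iff.2 ⟨⟨v, hvS⟩, fun b => ?_⟩
    show Xor' ((b : G) * v ∈ T) ((b : G) ∈ T)
    by_cases hb : (b : G) ∈ T
    · exact Or.inr ⟨hb, fun hh => hvT (by simpa using mul_mem (inv_mem hb) hh)⟩
    · exact Or.inl ⟨F.mul_of h S.2 hTS b.2 (F.le_norm h S.2 hTS b.2) hb hvS hvn hvT, hb⟩
  have hTi : T.index = 2 * (S : Subgroup G).index := by
    rw [← relIndex_mul_index hTS, show T.relIndex (S : Subgroup G) = 2 from hidx]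
  have hvo : orderOf v = 2 := orderOf_eq_prime (by rw [pow_two]; exact hvv) hv1
  obtain ⟨g₁, hg₁⟩ : ∃ g, g⁻¹ * v * g ∈ T := by
    by_contra hcon
    push Not at hcon
    obtain ⟨N, hN, hNi, -⟩ := Cfsg.Lib.Transfer.exists_index_two_not_mem T
      (Nat.odd_iff.2 (Nat.two_dvd_ne_zero.1 S.not_dvd_index)) hTi hvo hcon
    rcases IsSimpleGroup.eq_bot_or_eq_top_of_normal N hN with e | e <;> rw [e] at hNi
    · rw [Subgroup.index_bot] at hNi
      haveI := isCyclic_of_prime_card hNi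
      letI : CommGroup G := IsCyclic.commGroup
      exact hna ⟨⟨fun a b => mul_comm a b⟩⟩
    · rw [Subgroup.index_top] at hNi; omega
  obtain ⟨g₂, z, hz, hz1, hgz⟩ := F.conj_into_W h hg₁
    (by rw [show g₁⁻¹ * v * g₁ * (g₁⁻¹ * v * g₁) = g₁⁻¹ * (v * v) * g₁ by group, hvv]; group)
    (fun e => hv1 (by simpa [mul_assoc] using congrArg (MulAut.conj g₁) e))
  set g := g₁ * g₂
  have hgv : g * z * g⁻¹ = v := by
    rw [show g * z * g⁻¹ = g₁ * (g₂ * z * g₂⁻¹) * g₁⁻¹ by simp only [g]; group, hgz]; group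
  -- fixed elements
  have hvW : ∀ w ∈ W, v * w * v⁻¹ ∈ W := fun w hw => by
    rw [← F.inter]
    exact ⟨hvV.le ⟨w, F.W_le_V hw, rfl⟩, hvA.le ⟨w, F.W_le_A hw, rfl⟩⟩
  obtain ⟨w, hw, hvw⟩ : ∃ w ∈ W, v * w * v ≠ w := by
    by_contra hcon
    push Not at hcon
    have e1 : v * (x * w₀ * x⁻¹) * v = x⁻¹ * w₀ * x := by
      have hxi : v * x⁻¹ * v⁻¹ = x := by
        rw [show v * x⁻¹ * v⁻¹ = (v * x * v⁻¹)⁻¹ by group, hvx, inv_inv]
      calc v * (x * w₀ * x⁻¹) * v = (v * x * v⁻¹) * (v * w₀ * v⁻¹) * (v * x⁻¹ * v⁻¹) * (v * v) := by group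
        _ = x⁻¹ * (v * w₀ * v⁻¹) * x := by rw [hvx, hxi, hvv, mul_one]
        _ = x⁻¹ * w₀ * x := by rw [show v * w₀ * v⁻¹ = v * w₀ * v by rw [hvi], hcon w₀ hw₀]
    rw [hcon _ hw₁] at e1
    refine hxT (F.stab_cent h hxN hw₁ (fun e => hw₀1 (conj_eq_one_iff.1 e)) ?_)
    have hx2 : x * x = x⁻¹ := eq_inv_of_mul_eq_one_left (by rw [← pow_three', ← hxo, pow_orderOf_eq_one])
    calc x * (x * w₀ * x⁻¹) * x⁻¹ = (x * x) * w₀ * (x * x)⁻¹ := by group
      _ = x⁻¹ * w₀ * x := by rw [hx2, inv_inv]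
      _ = _ := e1.symm
  obtain ⟨a, ha, haV⟩ := F.left.out
  set a' := v * a * v with ha'def
  have ha'V : a' ∈ V := by
    have := hvA.le (⟨a, ha, rfl⟩ : v * a * v⁻¹ ∈ cj v A)
    rwa [hvi] at this
  have ha'A : a' ∉ A := fun hh => haV (by
    have := hvA.le (⟨a', hh, rfl⟩ : v * a' * v⁻¹ ∈ cj v A)
    rwa [hvi, ha'def, show v * (v * a * v) * v = (v * v) * a * (v * v) by group, hvv, one_mul, mul_one] at this)
  have hai := F.left.elem.inv ha
  have ha'i := F.elemV.inv ha'V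
  set c := cm a a' with hcdef
  have hcW : c ∈ W := F.left.cmW a ha a' (by rw [F.omegaV]; exact ha'V)
  have hc1 : c ≠ 1 := fun e => ha'A (F.W_le_A
    (F.left.fix a ha haV a' (by rw [F.omegaV]; exact ha'V) (cm_eq_one.1 e)))
  have hci : c⁻¹ = c := F.left.elem.inv (F.W_le_A hcW)
  have hcc : c = a * a' * a * a' := by rw [hcdef, cm, hai, ha'i]
  have hvm : ∀ p q : G, v * (p * q) * v = (v * p * v) * (v * q * v) := fun p q => by
    rw [show v * p * v * (v * q * v) = v * p * (v * v) * (q * v) by group, hvv, mul_one, mul_assoc, mul_assoc,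
      mul_assoc]
  have hva' : v * a' * v = a := by
    rw [ha'def, show v * (v * a * v) * v = (v * v) * a * (v * v) by group, hvv, one_mul, mul_one]
  have hac : a * a' * c = a' * a := by
    rw [hcc, show a * a' * (a * a' * a * a') = (a * a' * a * a') * (a * a') by group, ← hcc, ← hci]
    rw [hcdef, cm]; group
  have hvc : v * c * v = c := by
    conv_lhs => rw [hcc]
    rw [hvm, hvm, hvm, ← ha'def, hva']
    calc a' * a * a' * a = a'⁻¹ * a⁻¹ * a'⁻¹ * a⁻¹ := by rw [hai, ha'i]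
      _ = (a * a' * a * a')⁻¹ := by group
      _ = c := by rw [← hcc, hci]
  set d := w * (v * w * v) with hddef
  have hvwW : v * w * v ∈ W := by have := hvW w hw; rwa [hvi] at this
  have hdW : d ∈ W := W.mul_mem hw hvwW
  have hwi : w * w = 1 := F.left.elem w (F.W_le_A hw)
  have hwc : Commute w (v * w * v) := F.left.elem.comm (F.W_le_A hw) (F.W_le_A hvwW)
  have hd1 : d ≠ 1 := fun e => hvw (by
    rw [hddef, mul_eq_one_iff_inv_eq, inv_eq_of_mul_eq_one_right hwi] at e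
    exact e.symm)
  have hvd : v * d * v = d := by
    rw [hddef, show v * (w * (v * w * v)) * v = v * w * v * w * (v * v) by group, hvv, mul_one, ← hwc.eq]
  have hcd : c = d := by
    by_contra hne'
    let K : Subgroup G := W ⊓ centralizer ({v} : Set G)
    have hmem : ∀ u ∈ W, v * u * v = u → u ∈ K := fun u hu hh => ⟨hu, mem_centralizer_singleton_iff.2 (by
      calc u * v = (v * u * v) * v := by rw [hh]
        _ = v * u * (v * v) := by group
        _ = v * u := by rw [hvv, mul_one])⟩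
    haveI := Fintype.ofFinite ↥K
    let f : Fin 3 → ↥K := ![1, ⟨c, hmem c hcW hvc⟩, ⟨d, hmem d hdW hvd⟩]
    have hf : Function.Injective f := by
      intro i j e
      fin_cases i <;> fin_cases j <;> first
        | rfl
        | exact absurd (congrArg Subtype.val e) (by first
            | exact hne' | exact Ne.symm hne' | exact hc1 | exact Ne.symm hc1 | exact hd1 | exact Ne.symm hd1)
    have h3 := Fintype.card_le_of_injective f hf
    rw [Fintype.card_fin, ← Nat.card_eq_fintype_card] at h3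
    have hKW : K ≤ W := inf_le_left
    have h4 := Subgroup.card_dvd_of_le hKW
    rw [F.card] at h4
    have h5 := Nat.le_of_dvd (by norm_num) h4
    have h6 : Nat.card ↥K = 4 := by
      interval_cases hK : Nat.card ↥K
      · norm_num at h4
      · rfl
    have h7 := eq_of_le_of_card_ge hKW (by rw [F.card, h6])
    have h8 := mem_centralizer_singleton_iff.1 (h7.ge hw).2
    exact hvw (by rw [← h8, mul_assoc, hvv, mul_one])
  set x' := a * a' * w with hx'def
  have hx'T : x' ∈ T := T.mul_mem (T.mul_mem (F.A_le ha) (F.V_le ha'V)) (F.A_le (F.W_le_A hw))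
  have hcmw : ∀ t ∈ T, Commute t w := fun t ht => ((F.left.mem_T h).1 ht).2 w hw
  have hfixx : v * x' * v = x' := by
    rw [hx'def, hvm, hvm, ← ha'def, hva', ← hac, hcd, hddef, mul_assoc (a * a'), mul_assoc w,
      F.left.elem _ (F.W_le_A hvwW), mul_one]
  set y := x' * x' with hydef'
  have hyW : y ∈ W := by
    have e : y = c := by
      rw [hydef', hx'def, show a * a' * w * (a * a' * w) = a * a' * (w * (a * a')) * w by group,
        ← (hcmw _ (T.mul_mem (F.A_le ha) (F.V_le ha'V))).eq, show a * a' * (a * a' * w) * w =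
        a * a' * a * a' * (w * w) by group, hwi, mul_one, hcdef, cm, hai, ha'i]
    rw [e]; exact hcW
  have hy1 : y ≠ 1 := by
    intro e
    rcases F.sq_cases h hx'T e with hV | hA
    · have h1 := V.mul_mem (V.mul_mem hV (inv_mem (F.W_le_V hw))) (inv_mem ha'V)
      rw [hx'def, mul_inv_cancel_right, mul_inv_cancel_right] at h1
      exact haV h1
    · have h1 := A.mul_mem (inv_mem ha) (A.mul_mem hA (inv_mem (F.W_le_A hw)))
      rw [hx'def, mul_inv_cancel_right, inv_mul_cancel_left] at h1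
      exact ha'A h1
  have hyv : g⁻¹ * y * g ∈ T := by
    have h1 : g⁻¹ * x' * g ∈ centralizer ({z} : Set G) := mem_centralizer_singleton_iff.2 (by
      have hc : v * x' = x' * v := by
        calc v * x' = v * x' * (v * v) := by rw [hvv, mul_one]
          _ = (v * x' * v) * v := by group
          _ = x' * v := by rw [hfixx]
      rw [← hgv] at hc
      simpa [mul_assoc] using (congrArg (MulAut.conj g⁻¹) hc).symm)
    have h2 := F.over_sq h (F.cent_two h hz hz1) (F.T_le_cent h hz) h1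
    rwa [show g⁻¹ * x' * g * (g⁻¹ * x' * g) = g⁻¹ * y * g by simp only [hydef']; group] at h2
  have hyy : g⁻¹ * y * g * (g⁻¹ * y * g) = 1 := by
    rw [show g⁻¹ * y * g * (g⁻¹ * y * g) = g⁻¹ * (y * y) * g by group, F.left.elem y (F.W_le_A hyW)]; group
  obtain ⟨B, hBe, hB16, hyB, hzB⟩ : ∃ B : Subgroup G, Elem B ∧ Nat.card ↥B = 16 ∧ g⁻¹ * y * g ∈ B ∧ z ∈ B := by
    rcases F.sq_cases h hyv hyy with hh | hh
    · exact ⟨V, F.elemV, F.cardV, hh, F.W_le_V hz⟩
    · exact ⟨A, F.left.elem, F.cardA, hh, F.W_le_A hz⟩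
  have hyg : y ∈ cj g B := by rw [mem_cj]; exact hyB
  have hle : cj g B ≤ centralizer ({y} : Set G) := fun u hu =>
    mem_centralizer_singleton_iff.2 (comm_of_sq (cj_elem hBe g) hu hyg)
  have hBT := F.elem16_le h (F.cent_two h hyW hy1) (F.T_le_cent h hyW) hle
    (hle.trans (F.le_norm h (F.cent_two h hyW hy1) (F.T_le_cent h hyW))) (cj_elem hBe g) (by rw [card_cj, hB16])
  exact hvT (hBT (by rw [mem_cj, ← hgv]; simpa [mul_assoc] using hzB))

end Flag

end Cfsg.Lib.CITGroups
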