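import Cfsg.Agent.CITGroups.Offender
import Cfsg.Agent.AutThreeFour.Core

/-!
The conjugates of the fixed space of an offending subgroup form a spread, on which the local group acts as a
doubly transitive group in which only the normal subgroup fixes three points.
-/

set_option autoImplicit false
set_option linter.unusedSectionVars false
set_option linter.style.haveILetI false

namespace Cfsg.Lib.CITGroups

open Subgroup Cfsg.Lib.PrimePowerOrders

variable {G : Type*} [Group G] [Finite G]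

/-- the stabiliser of the fixed space -/
def stab (M W : Subgroup G) : Subgroup G := M ⊓ normalizer (W : Set G)

/-- the stabiliser of two points -/
def base (M W : Subgroup G) (k : G) : Subgroup G := stab M W ⊓ (stab M W).map (MulAut.conj k).toMonoidHom

theorem mem_base {M W : Subgroup G} {k g : G} : g ∈ base M W k ↔ g ∈ stab M W ∧ k⁻¹ * g * k ∈ stab M W := by
  rw [base, mem_inf, conj_mem_map]

theorem Two.conj {g : G} (hg : Two g) (c : G) : Two (c * g * c⁻¹) := by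
  obtain ⟨k, hk⟩ := hg
  exact ⟨k, by rw [show c * g * c⁻¹ = MulAut.conj c g from rfl, MulEquiv.orderOf_eq, hk]⟩

theorem two_of_sq {K : Subgroup G} (hK : IsPGroup 2 ↥K) {c : G} (hc : c * c ∈ K) : Two c := by
  by_contra hn
  obtain ⟨r, i, hr, hr2, hri⟩ := exists_odd_prime hn
  obtain ⟨k, hk⟩ := two_of_mem hK (K.pow_mem hc i)
  rw [← pow_two, ← pow_mul, mul_comm, pow_mul, orderOf_pow' _ two_ne_zero, hri,
    ((Nat.coprime_primes hr Nat.prime_two).2 hr2).gcd_eq_one, Nat.div_one] at hk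
  exact hr2 ((Nat.prime_dvd_prime_iff_eq hr Nat.prime_two).1 (hr.dvd_of_dvd_pow (dvd_of_eq hk)))

theorem cm_one_right (a : G) : cm a 1 = 1 := by simp [cm]

theorem conj_two_sup {H : Subgroup G} {t : G} (hH : IsPGroup 2 ↥H) (ht : Two t)
    (hn : t ∈ normalizer (H : Set G)) : IsPGroup 2 ↥(H ⊔ zpowers t) := by
  obtain ⟨k, hk⟩ := ht
  exact hH.to_sup_of_normal_left' (IsPGroup.of_card (n := k) (by rw [Nat.card_zpowers, hk])) (zpowers_le.2 hn)

namespace Off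

variable {M R T A W : Subgroup G} (O : Off M R T A W) (h : CIT G)
include O

theorem W_le_A : W ≤ A := O.eqW.le.trans inf_le_left
theorem W_le_V : W ≤ omega R := O.eqW.le.trans inf_le_right
theorem A_le_M : A ≤ M := O.leA.trans O.le

theorem commR {v r : G} (hv : v ∈ omega R) (hr : r ∈ R) : Commute r v := (hv.2.1 r hr).symm

theorem one_lt : 1 < Nat.card ↥W := by
  have h1 : 1 < Nat.card ↥(omega R) := by
    by_contra hle
    exact omega_ne_bot O.loc.two O.loc.ne (eq_bot_of_card_le _ (by omega))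
  rw [O.card] at h1
  nlinarith

theorem exists_mem_W : ∃ w ∈ W, w ≠ 1 := by
  by_contra hcon
  push Not at hcon
  have := O.one_lt
  rw [(eq_bot_iff_forall W).2 hcon, card_bot] at this
  omega

theorem exists_not_W : ∃ v ∈ omega R, v ∉ W := by
  by_contra hcon
  push Not at hcon
  have h1 : Nat.card ↥(omega R) ≤ Nat.card ↥W :=
    Nat.card_le_card_of_injective (inclusion (fun v hv => hcon v hv)) (inclusion_injective _)
  have := O.one_lt
  rw [O.card] at h1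
  nlinarith

theorem cm_W {a w : G} (ha : a ∈ A) (hw : w ∈ W) : cm a w = 1 := cm_eq_one.2 (O.elem.comm ha (O.W_le_A hw))

/-- commutators with an element of the coset give the same -/
theorem cm_congr {r a : G} (ha : a ∈ A) (hr : r ∈ R) {v : G} (hv : v ∈ omega R) : cm (r * a) v = cm a v := by
  have h1 := O.commR (O.loc.omega_normal (O.A_le_M ha) hv) hr
  rw [cm, cm, show r * a * v * (r * a)⁻¹ = r * (a * v * a⁻¹) * r⁻¹ by group, h1.eq, mul_inv_cancel_right]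

theorem cm_congr' {r a : G} (ha : a ∈ A) (hr : r ∈ R) {v : G} (hv : v ∈ omega R) : cm (a * r) v = cm a v := by
  have h1 := O.commR hv hr
  rw [cm, cm, show a * r * v * (a * r)⁻¹ = a * (r * v * r⁻¹) * a⁻¹ by group, h1.eq, mul_inv_cancel_right]

theorem cm_mul {a v v' : G} (ha : a ∈ A) (hv : v ∈ omega R) (hv' : v' ∈ omega R) :
    cm a (v * v') = cm a v * cm a v' := by
  rw [show cm a (v * v') = cm a v * (v * cm a v' * v⁻¹) by simp only [cm]; group,
    ((elem_omega R).comm hv (O.cm_mem (O.A_le_M ha) hv')).eq, mul_inv_cancel_right]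

/-- equal commutators differ inside the fixed space -/
theorem mem_W_of_cm_eq {a v v' : G} (ha : a ∈ A) (haR : a ∉ R) (hv : v ∈ omega R) (hv' : v' ∈ omega R)
    (e : cm a v = cm a v') : v⁻¹ * v' ∈ W := by
  refine O.fix a ha haR _ ((omega R).mul_mem (inv_mem hv) hv') ?_
  rw [← cm_eq_one, O.cm_mul ha (inv_mem hv) hv', ← e, ← O.cm_mul ha (inv_mem hv) hv, inv_mul_cancel, cm_one_right]

theorem cmVW {v : G} (hv : v ∈ omega R) {a : G} (ha : a ∈ A) : cm a v ∈ W := O.cmW a ha v hv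

theorem stab_le : stab M W ≤ M := inf_le_left

theorem stab_conj {g w : G} (hg : g ∈ stab M W) (hw : w ∈ W) : g * w * g⁻¹ ∈ W := nrm_conj hg.2 hw

theorem exists_out : ∃ a ∈ A, a ∉ R := O.out

include h

/-- the centraliser of the fixed space -/
theorem mem_cent {c : G} (hc : c ∈ M) (hcW : ∀ w ∈ W, Commute c w) : ∃ a ∈ A, ∃ r ∈ R, c = a * r := by
  obtain ⟨w₀, hw₀, hw₀1⟩ := O.exists_mem_W
  set P := M ⊓ centralizer (W : Set G)
  have hP : IsPGroup 2 ↥P := (h.isPGroup_centralizer (two_of_mem O.two (O.V_T (O.W_le_V hw₀))) hw₀1).to_le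
    (inf_le_right.trans (centralizer_le (Set.singleton_subset_iff.2 hw₀)))
  have hcP : c ∈ P := ⟨hc, mem_centralizer_iff.2 fun w hw => (hcW w hw).symm.eq⟩
  have hVP : omega R ≤ P := fun v hv => ⟨O.loc.le (omega_le R hv),
    mem_centralizer_iff.2 fun w hw => ((elem_omega R).comm (O.W_le_V hw) hv).eq⟩
  obtain ⟨v, hv, hvW⟩ := O.exists_not_W
  obtain ⟨y, hy, hyW, hcy⟩ := descent hP hcP hVP (fun y hy => O.cm_mem hc hy) hv hvW
  obtain ⟨a, ha, hay⟩ := O.surjA y hy hyW _ hcy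
  refine ⟨a, ha, a⁻¹ * c, ?_, by group⟩
  by_contra hdR
  have hdM : a⁻¹ * c ∈ M := M.mul_mem (inv_mem (O.A_le_M ha)) hc
  have haP : a ∈ P := ⟨O.A_le_M ha, mem_centralizer_iff.2 fun w hw => (O.elem.comm (O.W_le_A hw) ha).eq⟩
  have hdy : Commute (a⁻¹ * c) y := by
    have e : c * y * c⁻¹ = a * y * a⁻¹ := by
      simp only [cm] at hay
      exact (mul_right_cancel hay).symm
    rw [← cm_eq_one]
    simp only [cm]
    rw [show a⁻¹ * c * y * (a⁻¹ * c)⁻¹ = a⁻¹ * (c * y * c⁻¹) * a by group, e]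
    group
  let K : Subgroup G := omega R ⊓ centralizer ({a⁻¹ * c} : Set G)
  have hWK : W < K := by
    refine lt_of_le_of_ne (fun w hw => ⟨O.W_le_V hw, mem_centralizer_singleton_iff.2 ?_⟩) fun e => hyW
      (e.ge ⟨hy, mem_centralizer_singleton_iff.2 hdy.symm.eq⟩)
    exact (((O.elem.comm ha (O.W_le_A hw)).inv_left).mul_left (hcW w hw)).symm.eq
  have h1 := O.toSetup.fixed_sq_le h hdM (two_of_mem hP (P.mul_mem (inv_mem haP) hcP)) hdR K inf_le_left
    fun w hw => mem_centralizer_singleton_iff.1 hw.2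
  rw [O.card] at h1
  have h2 : Nat.card ↥K ≤ Nat.card ↥W := Nat.mul_self_le_mul_self_iff.1 h1
  exact hWK.ne (eq_of_le_of_card_ge hWK.le h2)

/-- in the centraliser of the fixed space only the normal subgroup fixes more -/
theorem fix_cent {c v : G} (hc : c ∈ M) (hcW : ∀ w ∈ W, Commute c w) (hcR : c ∉ R) (hv : v ∈ omega R)
    (hcv : Commute c v) : v ∈ W := by
  obtain ⟨a, ha, r, hr, rfl⟩ := O.mem_cent h hc hcW
  refine O.fix a ha (fun haR => hcR (R.mul_mem haR hr)) v hv ?_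
  rw [← cm_eq_one, ← O.cm_congr' ha hr hv, cm_eq_one]
  exact hcv

omit h in
theorem A_cent {a : G} (ha : a ∈ A) : ∀ w ∈ W, Commute a w := fun _ hw => O.elem.comm ha (O.W_le_A hw)

omit h in
theorem R_cent {r : G} (hr : r ∈ R) : ∀ w ∈ W, Commute r w := fun _ hw => O.commR (O.W_le_V hw) hr

omit h in
theorem nrm_cent {g : G} (hg : g ∈ stab M W) :
    g ∈ normalizer ((M ⊓ centralizer (W : Set G) : Subgroup G) : Set G) := by
  refine mem_nrm fun e he => ⟨M.mul_mem (M.mul_mem hg.1 he.1) (inv_mem hg.1), mem_centralizer_iff.2 fun w hw => ?_⟩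
  have h1 : g⁻¹ * w * g ∈ W := by simpa using O.stab_conj (inv_mem hg) hw
  have := congrArg (MulAut.conj g) (mem_centralizer_iff.1 he.2 _ h1)
  simpa [mul_assoc] using this

/-- normalising the centraliser is normalising the fixed space -/
theorem mem_stab {g : G} (hg : g ∈ M) (hn : g ∈ normalizer ((M ⊓ centralizer (W : Set G) : Subgroup G) : Set G)) :
    g ∈ stab M W := by
  obtain ⟨a, ha, haR⟩ := O.exists_out
  refine ⟨hg, mem_nrm fun w hw => ?_⟩
  have haE : a ∈ M ⊓ centralizer (W : Set G) :=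
    ⟨O.A_le_M ha, mem_centralizer_iff.2 fun x hx => (O.A_cent ha x hx).symm.eq⟩
  have he : g * a * g⁻¹ ∈ M ⊓ centralizer (W : Set G) := nrm_conj hn haE
  refine O.fix_cent h he.1 (fun x hx => (mem_centralizer_iff.1 he.2 x hx).symm) (fun hR => haR ?_)
    (O.loc.omega_normal hg (O.W_le_V hw)) ?_
  · simpa [mul_assoc] using O.loc.conjR (inv_mem hg) hR
  · exact (O.A_cent ha w hw).map (MulAut.conj g).toMonoidHom

/-- Two conjugates of the centraliser normalising each other coincide. -/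
theorem mutual_norm {k : G} (hk : k ∈ M)
    (h1 : ∀ e ∈ M ⊓ centralizer (W : Set G),
      k * e * k⁻¹ ∈ normalizer ((M ⊓ centralizer (W : Set G) : Subgroup G) : Set G))
    (h2 : ∀ e ∈ M ⊓ centralizer (W : Set G),
      k⁻¹ * e * k ∈ normalizer ((M ⊓ centralizer (W : Set G) : Subgroup G) : Set G)) : k ∈ stab M W := by
  by_contra hkN
  set E := M ⊓ centralizer (W : Set G)
  obtain ⟨w₁, hw₁, hw₁1⟩ := O.exists_mem_W
  have hEp : IsPGroup 2 ↥E := (h.isPGroup_centralizer (two_of_mem O.two (O.V_T (O.W_le_V hw₁))) hw₁1).to_le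
    (inf_le_right.trans (centralizer_le (Set.singleton_subset_iff.2 hw₁)))
  have disj : ∀ c ∈ E, k⁻¹ * c * k ∈ E → c ∈ R := by
    intro c hc hck
    by_contra hcR
    refine hkN ⟨hk, mem_nrm fun w hw => ?_⟩
    refine O.fix_cent h hc.1 (fun x hx => (mem_centralizer_iff.1 hc.2 x hx).symm) hcR
      (O.loc.omega_normal hk (O.W_le_V hw)) ?_
    have h1 : Commute (k⁻¹ * c * k) w := (mem_centralizer_iff.1 hck.2 w hw).symm
    simpa [mul_assoc] using h1.map (MulAut.conj k).toMonoidHom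
  set E' := E.map (MulAut.conj k).toMonoidHom
  have hP : IsPGroup 2 ↥(E ⊔ E') := hEp.to_sup_of_normal_right' (hEp.map _) fun e he => mem_nrm fun x hx => by
    rw [conj_mem_map] at hx ⊢
    have := nrm_conj (h2 e he) hx
    simpa [mul_assoc] using this
  obtain ⟨a₁, ha₁, ha₁R⟩ := O.exists_out
  have hAE : A ≤ E := fun a ha => ⟨O.A_le_M ha, mem_centralizer_iff.2 fun x hx => (O.A_cent ha x hx).symm.eq⟩
  suffices hall : ∀ e ∈ E, k * e * k⁻¹ ∈ R by
    refine ha₁R ?_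
    have := O.loc.conjR (inv_mem hk) (hall a₁ (hAE ha₁))
    simpa [mul_assoc] using this
  intro e he
  set e' := k * e * k⁻¹ with he'def
  have he'M : e' ∈ M := M.mul_mem (M.mul_mem hk he.1) (inv_mem hk)
  have he'N : e' ∈ stab M W := O.mem_stab h he'M (h1 e he)
  have hcomm : ∀ a ∈ A, cm e' a ∈ R := fun a ha => by
    refine disj _ (E.mul_mem (nrm_conj (h1 e he) (hAE ha)) (inv_mem (hAE ha))) ?_
    rw [show k⁻¹ * cm e' a * k = e * ((k⁻¹ * a * k) * e⁻¹ * (k⁻¹ * a * k)⁻¹) by simp only [he'def, cm]; group]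
    exact E.mul_mem he (nrm_conj (h2 a (hAE ha)) (inv_mem he))
  obtain ⟨w₀, hw₀, hw₀1, hfix0⟩ := descent (W := ⊥) hP (c := e') (mem_sup_right ⟨e, he, rfl⟩)
    (Y := W) (fun w hw => mem_sup_left (⟨O.A_le_M (O.W_le_A hw),
      mem_centralizer_iff.2 fun x hx => (O.A_cent (O.W_le_A hw) x hx).symm.eq⟩ : w ∈ E))
    (fun w hw => W.mul_mem (O.stab_conj he'N hw) (inv_mem hw)) hw₁ (by rwa [mem_bot])
  rw [mem_bot] at hw₀1 hfix0
  have hw₀e : e' * w₀ * e'⁻¹ = w₀ := mul_inv_eq_one.1 hfix0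
  have hV : ∀ v ∈ omega R, v⁻¹ * (e' * v * e'⁻¹) ∈ W := by
    intro v hv
    by_cases hvW : v ∈ W
    · exact W.mul_mem (inv_mem hvW) (O.stab_conj he'N hvW)
    obtain ⟨a, ha, hav⟩ := O.surjA v hv hvW w₀ hw₀
    have haR : a ∉ R := fun haR => hw₀1 (by rw [← hav, cm_eq_one]; exact O.commR hv haR)
    refine O.mem_W_of_cm_eq ha haR hv (O.loc.omega_normal he'M hv) ?_
    have hr := hcomm a ha
    conv_lhs => rw [hav, ← hw₀e, ← hav, cm_conj, show e' * a * e'⁻¹ = cm e' a * a by simp [cm]]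
    rw [O.cm_congr ha hr (O.loc.omega_normal he'M hv)]
  refine disj e' ⟨he'M, mem_centralizer_iff.2 fun w hw => ?_⟩ (by simpa [he'def, mul_assoc] using he)
  obtain ⟨v, hv, hvw⟩ := O.surjV a₁ ha₁ ha₁R w hw
  have hu := hV v hv
  have e1 : e' * w * e'⁻¹ = w := by
    rw [← hvw, cm_conj, show e' * a₁ * e'⁻¹ = cm e' a₁ * a₁ by simp [cm],
      O.cm_congr ha₁ (hcomm a₁ ha₁) (O.loc.omega_normal he'M hv),
      show e' * v * e'⁻¹ = v * (v⁻¹ * (e' * v * e'⁻¹)) by group,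
      O.cm_mul ha₁ hv (O.W_le_V hu), O.cm_W ha₁ hu, mul_one]
  exact (mul_inv_eq_iff_eq_mul.1 e1).symm

/-- The conjugates of the fixed space meet trivially. -/
theorem ti {g w : G} (hg : g ∈ M) (hw : w ∈ W) (hw1 : w ≠ 1) (hgw : g * w * g⁻¹ ∈ W) : g ∈ stab M W := by
  haveI : Fact (Nat.Prime 2) := ⟨Nat.prime_two⟩
  set E := M ⊓ centralizer (W : Set G)
  set u := g * w * g⁻¹
  set P := M ⊓ centralizer ({u} : Set G)
  have hP : IsPGroup 2 ↥P := (h.isPGroup_centralizer (two_of_mem O.two (O.V_T (O.W_le_V hgw)))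
    (fun e => hw1 (conj_eq_one_iff.1 e))).to_le inf_le_right
  have hEP : E ≤ P := fun e he => ⟨he.1, mem_centralizer_singleton_iff.2 (mem_centralizer_iff.1 he.2 u hgw).symm⟩
  have hgP : ∀ e ∈ E, g * e * g⁻¹ ∈ P := fun e he => ⟨M.mul_mem (M.mul_mem hg he.1) (inv_mem hg),
    mem_centralizer_singleton_iff.2
      ((Commute.map ((mem_centralizer_iff.1 he.2 w hw).symm : Commute e w) (MulAut.conj g).toMonoidHom).eq)⟩
  by_cases hboth : P ≤ normalizer (E : Set G) ∧ P ≤ normalizer ((E.map (MulAut.conj g).toMonoidHom : Subgroup G) : Set G)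
  · refine O.mutual_norm h hg (fun e he => hboth.1 (hgP e he)) fun e he => mem_nrm fun x hx => ?_
    have := conj_mem_map.1 (nrm_conj (hboth.2 (hEP he)) (⟨x, hx, rfl⟩ : g * x * g⁻¹ ∈ E.map (MulAut.conj g).toMonoidHom))
    simpa [E, mul_assoc] using this
  exfalso
  obtain ⟨k₀, hk₀, hk₀P, hnot⟩ : ∃ k₀ ∈ M, (∀ e ∈ E, k₀ * e * k₀⁻¹ ∈ P) ∧
      ¬ P ≤ normalizer ((E.map (MulAut.conj k₀).toMonoidHom : Subgroup G) : Set G) := by
    rcases not_and_or.1 hboth with hn | hn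
    · refine ⟨1, M.one_mem, fun e he => by simpa using hEP he, ?_⟩
      rwa [show E.map (MulAut.conj (1 : G)).toMonoidHom = E by ext x; rw [conj_mem_map]; simp]
    · exact ⟨g, hg, hgP, hn⟩
  set E₀ := E.map (MulAut.conj k₀).toMonoidHom
  set Q := P ⊓ normalizer (E₀ : Set G)
  have hlt : Q.subgroupOf P < ⊤ := lt_top_iff_ne_top.2 fun e => hnot ((subgroupOf_eq_top.1 e).trans inf_le_right)
  haveI := hP.isNilpotent
  obtain ⟨⟨s, hsP⟩, hsn, hsQ⟩ := SetLike.exists_of_lt (Group.normalizerCondition_of_isNilpotent _ hlt)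
  have hsQ' : ∀ x ∈ Q, s * x * s⁻¹ ∈ Q := fun x hx => (mem_normalizer_iff.1 hsn ⟨x, hx.1⟩).1 hx
  have hsQ'' : ∀ x ∈ Q, s⁻¹ * x * s ∈ Q := fun x hx => by
    have := nrm_conj (inv_mem (mem_nrm hsQ')) hx
    simpa using this
  have hEQ : ∀ e ∈ E, k₀ * e * k₀⁻¹ ∈ Q := fun e he => ⟨hk₀P e he, le_normalizer ⟨e, he, rfl⟩⟩
  have back : ∀ q ∈ Q, k₀⁻¹ * q * k₀ ∈ normalizer (E : Set G) := fun q hq => mem_nrm fun x hx => by
    have := conj_mem_map.1 (nrm_conj hq.2 (⟨x, hx, rfl⟩ : k₀ * x * k₀⁻¹ ∈ E₀))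
    simpa [mul_assoc] using this
  set k := k₀⁻¹ * s * k₀ with hkdef
  have hkM : k ∈ M := M.mul_mem (M.mul_mem (inv_mem hk₀) hsP.1) hk₀
  have hkN : k ∈ stab M W := by
    refine O.mutual_norm h hkM (fun e he => ?_) fun e he => ?_
    · rw [show k * e * k⁻¹ = k₀⁻¹ * (s * (k₀ * e * k₀⁻¹) * s⁻¹) * k₀ by simp only [hkdef]; group]
      exact back _ (hsQ' _ (hEQ e he))
    · rw [show k⁻¹ * e * k = k₀⁻¹ * (s⁻¹ * (k₀ * e * k₀⁻¹) * s) * k₀ by simp only [hkdef]; group]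
      exact back _ (hsQ'' _ (hEQ e he))
  refine hsQ ⟨hsP, mem_nrm fun x hx => ?_⟩
  rw [conj_mem_map] at hx ⊢
  have := nrm_conj (O.nrm_cent hkN) hx
  simpa [hkdef, E, mul_assoc] using this

/-- there is a second point -/
theorem exists_point : ∃ k ∈ M, k ∉ stab M W := by
  by_contra hcon
  push Not at hcon
  obtain ⟨a, ha, haR⟩ := O.exists_out
  obtain ⟨w, hw, hw1⟩ := O.exists_mem_W
  refine haR (O.loc.o2 (M ⊓ centralizer (W : Set G)) inf_le_left
    ((h.isPGroup_centralizer (two_of_mem O.two (O.V_T (O.W_le_V hw))) hw1).to_le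
      (inf_le_right.trans (centralizer_le (Set.singleton_subset_iff.2 hw))))
    (fun g hg e he => nrm_conj (O.nrm_cent (hcon g hg)) he)
    ⟨O.A_le_M ha, mem_centralizer_iff.2 fun x hx => (O.A_cent ha x hx).symm.eq⟩)

/-- two points span -/
theorem decomp {k v : G} (hk : k ∈ M) (hkN : k ∉ stab M W) (hv : v ∈ omega R) :
    ∃ w₁ ∈ W, ∃ w₂ ∈ W, v = w₁ * (k * w₂ * k⁻¹) := by
  let f : ↥W × ↥W → ↥(omega R) := fun p => ⟨p.1 * (k * p.2 * k⁻¹),
    (omega R).mul_mem (O.W_le_V p.1.2) (O.loc.omega_normal hk (O.W_le_V p.2.2))⟩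
  have hf : Function.Injective f := fun p q e => by
    have e' : (p.1 : G) * (k * p.2 * k⁻¹) = q.1 * (k * q.2 * k⁻¹) := congrArg Subtype.val e
    have h1 : k * ((q.2 : G) * (p.2 : G)⁻¹) * k⁻¹ ∈ W := by
      rw [show k * ((q.2 : G) * (p.2 : G)⁻¹) * k⁻¹ = (q.1 : G)⁻¹ * p.1 by
        rw [eq_inv_mul_iff_mul_eq, show (q.1 : G) * (k * (q.2 * (p.2 : G)⁻¹) * k⁻¹) =
          q.1 * (k * q.2 * k⁻¹) * (k * p.2 * k⁻¹)⁻¹ by group, ← e', mul_inv_cancel_right]]
      exact W.mul_mem (inv_mem q.1.2) p.1.2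
    have h2 : (q.2 : G) * (p.2 : G)⁻¹ = 1 := by
      by_contra hne
      exact hkN (O.ti h hk (W.mul_mem q.2.2 (inv_mem p.2.2)) hne h1)
    have h3 : (q.2 : G) = p.2 := mul_inv_eq_one.1 h2
    rw [h3] at e'
    exact Prod.ext (Subtype.ext (mul_right_cancel e')) (Subtype.ext h3.symm)
  obtain ⟨⟨w₁, w₂⟩, e⟩ := (hf.bijective_of_nat_card_le (by rw [Nat.card_prod, O.card])).2 ⟨v, hv⟩
  exact ⟨w₁, w₁.2, w₂, w₂.2, (congrArg Subtype.val e).symm⟩

theorem decomp_unique {k w₁ w₂ u₁ u₂ : G} (hk : k ∈ M) (hkN : k ∉ stab M W) (hw₁ : w₁ ∈ W) (hw₂ : w₂ ∈ W)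
    (hu₁ : u₁ ∈ W) (hu₂ : u₂ ∈ W) (e : w₁ * (k * w₂ * k⁻¹) = u₁ * (k * u₂ * k⁻¹)) : w₁ = u₁ := by
  have h1 : k * (u₂ * w₂⁻¹) * k⁻¹ ∈ W := by
    rw [show k * (u₂ * w₂⁻¹) * k⁻¹ = u₁⁻¹ * w₁ by
      rw [eq_inv_mul_iff_mul_eq, show u₁ * (k * (u₂ * w₂⁻¹) * k⁻¹) = u₁ * (k * u₂ * k⁻¹) * (k * w₂ * k⁻¹)⁻¹ by group,
        ← e, mul_inv_cancel_right]]
    exact W.mul_mem (inv_mem hu₁) hw₁
  have h3 : u₂ = w₂ := by
    by_contra hne
    exact hkN (O.ti h hk (W.mul_mem hu₂ (inv_mem hw₂)) (fun e => hne (mul_inv_eq_one.1 e)) h1)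
  rw [h3] at e
  exact mul_right_cancel e

/-- `A` is transitive on the other points -/
theorem trans {k g : G} (hk : k ∈ M) (hkN : k ∉ stab M W) (hg : g ∈ M) (hgN : g ∉ stab M W) :
    ∃ a ∈ A, (a * k)⁻¹ * g ∈ stab M W := by
  obtain ⟨w, hw, hw1⟩ := O.exists_mem_W
  have hv := O.loc.omega_normal hg (O.W_le_V hw)
  obtain ⟨w₁, hw₁, w₂, hw₂, e⟩ := O.decomp h hk hkN hv
  have hgwW : g * w * g⁻¹ ∉ W := fun hh => hgN (O.ti h hg hw hw1 hh)
  have hw2 : w₂ ≠ 1 := fun e2 => hgwW (by rw [e, e2]; simpa using hw₁)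
  have hxV := O.loc.omega_normal hk (O.W_le_V hw₂)
  obtain ⟨a, ha, hax⟩ := O.surjA _ hxV (fun hh => hkN (O.ti h hk hw₂ hw2 hh)) w₁ hw₁
  refine ⟨a, ha, ?_⟩
  have e2 : a * k * w₂ * (a * k)⁻¹ = g * w * g⁻¹ := by
    rw [e, ← hax, cm, inv_mul_cancel_right]
    group
  have h1 : (g⁻¹ * (a * k)) * w₂ * (g⁻¹ * (a * k))⁻¹ = w := by
    rw [show (g⁻¹ * (a * k)) * w₂ * (g⁻¹ * (a * k))⁻¹ = g⁻¹ * (a * k * w₂ * (a * k)⁻¹) * g by group, e2]
    group
  have := inv_mem (O.ti h (M.mul_mem (inv_mem hg) (M.mul_mem (O.A_le_M ha) hk)) hw₂ hw2 (h1.symm ▸ hw))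
  rwa [mul_inv_rev, inv_inv] at this

omit h in
theorem A_stab {a : G} (ha : a ∈ A) : a ∈ stab M W := ⟨O.A_le_M ha, mem_nrm fun w hw => by
  rw [(O.A_cent ha w hw).eq, mul_inv_cancel_right]; exact hw⟩

omit h in
theorem R_stab {r : G} (hr : r ∈ R) : r ∈ stab M W := ⟨O.loc.le hr, mem_nrm fun w hw => by
  rw [(O.R_cent hr w hw).eq, mul_inv_cancel_right]; exact hw⟩

/-- an element of `A` fixing another point lies in the normal subgroup -/
theorem fix_point {k a : G} (hk : k ∈ M) (hkN : k ∉ stab M W) (ha : a ∈ A) (hak : k⁻¹ * a * k ∈ stab M W) :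
    a ∈ R := by
  by_contra haR
  obtain ⟨w, hw, hw1⟩ := O.exists_mem_W
  have hx := O.loc.omega_normal hk (O.W_le_V hw)
  have hc := O.cmW a ha _ hx
  have e : cm a (k * w * k⁻¹) = k * ((k⁻¹ * a * k) * w * (k⁻¹ * a * k)⁻¹ * w⁻¹) * k⁻¹ := by simp only [cm]; group
  by_cases h1 : (k⁻¹ * a * k) * w * (k⁻¹ * a * k)⁻¹ * w⁻¹ = 1
  · rw [h1, mul_one, mul_inv_cancel] at e
    exact hkN (O.ti h hk hw hw1 (O.fix a ha haR _ hx (cm_eq_one.1 e)))
  · exact hkN (O.ti h hk (W.mul_mem (O.stab_conj hak hw) (inv_mem hw)) h1 (e ▸ hc))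

/-- the 2-elements of a point stabiliser centralise the point -/
theorem two_cent {t : G} (ht : t ∈ stab M W) (h2 : Two t) : ∀ w ∈ W, Commute t w := by
  by_contra hcon
  set E := M ⊓ centralizer (W : Set G)
  have hEiff : ∀ c, c ∈ E ↔ c ∈ M ∧ ∀ w ∈ W, Commute c w := fun c =>
    ⟨fun hc => ⟨hc.1, fun w hw => (mem_centralizer_iff.1 hc.2 w hw).symm⟩,
      fun hc => ⟨hc.1, mem_centralizer_iff.2 fun w hw => (hc.2 w hw).symm.eq⟩⟩
  have htE : t ∉ E := fun hh => hcon ((hEiff t).1 hh).2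
  obtain ⟨w₁, hw₁, hw₁1⟩ := O.exists_mem_W
  have hEp : IsPGroup 2 ↥E := (h.isPGroup_centralizer (two_of_mem O.two (O.V_T (O.W_le_V hw₁))) hw₁1).to_le
    (inf_le_right.trans (centralizer_le (Set.singleton_subset_iff.2 hw₁)))
  have hRE : R ≤ E := fun r hr => (hEiff r).2 ⟨O.loc.le hr, O.R_cent hr⟩
  have hAE : A ≤ E := fun a ha => (hEiff a).2 ⟨O.A_le_M ha, O.A_cent ha⟩
  obtain ⟨k, hk, hkN⟩ := O.exists_point h
  have htk : t * k ∉ stab M W := fun hh => hkN (by simpa using mul_mem (inv_mem ht) hh)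
  obtain ⟨a, ha, hak⟩ := O.trans h hk hkN (M.mul_mem ht.1 hk) htk
  set t' := a⁻¹ * t with ht'def
  have ht'N : t' ∈ stab M W := mul_mem (inv_mem (O.A_stab ha)) ht
  have ht'k : k⁻¹ * t' * k ∈ stab M W := by
    rw [show k⁻¹ * t' * k = (a * k)⁻¹ * (t * k) by simp only [ht'def]; group]
    exact hak
  have hP1 : IsPGroup 2 ↥(E ⊔ zpowers t) := conj_two_sup hEp h2 (O.nrm_cent ht)
  have ht'P : t' ∈ E ⊔ zpowers t := mul_mem (mem_sup_left (inv_mem (hAE ha))) (mem_sup_right (mem_zpowers t))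
  have ht'2 : Two t' := two_of_mem hP1 ht'P
  have ht'R : t' ∉ R := fun hh => htE (by
    have := E.mul_mem (hAE ha) (hRE hh)
    simpa [ht'def] using this)
  obtain ⟨a₁, ha₁, ha₁R⟩ := O.exists_out
  have getE : ∀ u ∈ stab M W, Two u → ∃ y ∈ E, y ∉ R ∧ cm u y ∈ R := fun u hu hu2 =>
    descent (conj_two_sup hEp hu2 (O.nrm_cent hu)) (mem_sup_right (mem_zpowers u)) le_sup_left
      (fun y hy => E.mul_mem (nrm_conj (O.nrm_cent hu) hy) (inv_mem hy)) (hAE ha₁) ha₁R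
  obtain ⟨y, hy, hyR, hty⟩ := getE t' ht'N ht'2
  obtain ⟨y', hy', hy'R, hty'⟩ := getE (k⁻¹ * t' * k) ht'k (by simpa using ht'2.conj k⁻¹)
  obtain ⟨P, hP, hPM, hRP, hPc⟩ := O.toSetup.exists_mod_centralizer h ht'N.1 ht'2 ht'R
  have hz : k * y' * k⁻¹ ∈ P := by
    refine hPc _ (M.mul_mem (M.mul_mem hk hy'.1) (inv_mem hk)) ?_
    rw [show cm t' (k * y' * k⁻¹) = k * cm (k⁻¹ * t' * k) y' * k⁻¹ by simp only [cm]; group]
    exact O.loc.conjR hk hty'
  obtain ⟨w, hw, hw1, hwP⟩ := exists_fixed hP (((omega_le R).trans hRP)) (omega_ne_bot O.loc.two O.loc.ne)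
    fun p hp v hv => O.cm_mem (hPM hp) hv
  have hwW : w ∈ W := O.fix_cent h hy.1 ((hEiff y).1 hy).2 hyR hw (hwP y (hPc y hy.1 hty))
  have hw'W : k⁻¹ * w * k ∈ W := by
    have hwV : k⁻¹ * w * k ∈ omega R := by simpa using O.loc.omega_normal (inv_mem hk) hw
    refine O.fix_cent h hy'.1 ((hEiff y').1 hy').2 hy'R hwV ?_
    simpa [mul_assoc] using (hwP _ hz).map (MulAut.conj k⁻¹).toMonoidHom
  refine hkN (O.ti h hk hw'W (fun e => hw1 ?_) (by simpa [mul_assoc] using hwW))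
  simpa [mul_assoc] using congrArg (MulAut.conj k) e

/-- the maximal 2-subgroup is the centraliser of the fixed space -/
theorem mem_T {t : G} : t ∈ T ↔ t ∈ M ∧ ∀ w ∈ W, Commute t w := by
  have hback : ∀ c, c ∈ M → (∀ w ∈ W, Commute c w) → c ∈ T := fun c hc hcW => by
    obtain ⟨a, ha, r, hr, rfl⟩ := O.mem_cent h hc hcW
    exact T.mul_mem (O.leA ha) (O.toSetup.le_T hr)
  refine ⟨fun ht => ⟨O.le ht, ?_⟩, fun hc => hback t hc.1 hc.2⟩
  set E := M ⊓ centralizer (W : Set G)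
  have hET : E ≤ T := fun c hc => hback c hc.1 fun w hw => (mem_centralizer_iff.1 hc.2 w hw).symm
  by_contra hcon
  haveI : Fact (Nat.Prime 2) := ⟨Nat.prime_two⟩
  haveI := O.two.isNilpotent
  have hlt : E.subgroupOf T < ⊤ := lt_top_iff_ne_top.2 fun e =>
    hcon fun w hw => (mem_centralizer_iff.1 (subgroupOf_eq_top.1 e ht).2 w hw).symm
  obtain ⟨⟨s, hsT⟩, hsn, hsE⟩ := SetLike.exists_of_lt (Group.normalizerCondition_of_isNilpotent _ hlt)
  have hsN : s ∈ stab M W := O.mem_stab h (O.le hsT) (mem_nrm fun x hx => (mem_normalizer_iff.1 hsn ⟨x, hET hx⟩).1 hx)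
  exact hsE ⟨O.le hsT, mem_centralizer_iff.2 fun w hw => (O.two_cent h hsN (two_of_mem O.two hsT) w hw).symm.eq⟩

theorem two_mem {t : G} (ht : t ∈ stab M W) (h2 : Two t) : t ∈ T :=
  (O.mem_T h).2 ⟨ht.1, O.two_cent h ht h2⟩

theorem T_decomp {t : G} (ht : t ∈ T) : ∃ a ∈ A, ∃ r ∈ R, t = a * r :=
  O.mem_cent h ((O.mem_T h).1 ht).1 ((O.mem_T h).1 ht).2

theorem T_stab {t : G} (ht : t ∈ T) : t ∈ stab M W := by
  obtain ⟨a, ha, r, hr, rfl⟩ := O.T_decomp h ht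
  exact mul_mem (O.A_stab ha) (O.R_stab hr)

theorem stab_nrm {g t : G} (hg : g ∈ stab M W) (ht : t ∈ T) : g * t * g⁻¹ ∈ T := by
  have hc := nrm_conj (O.nrm_cent hg) (⟨O.le ht, mem_centralizer_iff.2 fun w hw =>
    (((O.mem_T h).1 ht).2 w hw).symm.eq⟩ : t ∈ M ⊓ centralizer (W : Set G))
  exact (O.mem_T h).2 ⟨hc.1, fun w hw => (mem_centralizer_iff.1 hc.2 w hw).symm⟩

/-- a 2-element fixing two points lies in the normal subgroup -/
theorem two_base {k g : G} (hk : k ∈ M) (hkN : k ∉ stab M W) (hg : g ∈ base M W k) (h2 : Two g) : g ∈ R := by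
  obtain ⟨hgN, hgk⟩ := mem_base.1 hg
  obtain ⟨a, ha, r, hr, rfl⟩ := O.T_decomp h (O.two_mem h hgN h2)
  refine R.mul_mem (O.fix_point h hk hkN ha ?_) hr
  have := mul_mem hgk (inv_mem (O.R_stab (O.loc.conjR (inv_mem hk) hr)))
  simpa [mul_assoc] using this

/-- the stabiliser of two points acts without fixed points on the fixed space -/
theorem fpf {k g w : G} (hk : k ∈ M) (hkN : k ∉ stab M W) (hg : g ∈ base M W k) (hw : w ∈ W) (hw1 : w ≠ 1)
    (hc : Commute g w) : g ∈ R :=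
  O.two_base h hk hkN hg (h.two_of_comm (two_of_mem O.two (O.V_T (O.W_le_V hw))) hw1 hc)

/-- only the normal subgroup fixes three points -/
theorem three {k g a : G} (hk : k ∈ M) (hkN : k ∉ stab M W) (ha : a ∈ A) (haR : a ∉ R) (hg : g ∈ base M W k)
    (hgak : (a * k)⁻¹ * g * (a * k) ∈ stab M W) : g ∈ R := by
  obtain ⟨hgN, hgk⟩ := mem_base.1 hg
  obtain ⟨a', ha', r, hr, e⟩ := O.T_decomp h (O.stab_nrm h hgN (O.leA ha))
  have haa : a⁻¹ * a' ∈ R := by
    refine O.fix_point h hk hkN (A.mul_mem (inv_mem ha) ha') ?_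
    have h1 : k⁻¹ * (a⁻¹ * a') * k * (k⁻¹ * r * k) * (k⁻¹ * g * k) ∈ stab M W := by
      rw [show k⁻¹ * (a⁻¹ * a') * k * (k⁻¹ * r * k) * (k⁻¹ * g * k) = k⁻¹ * a⁻¹ * (a' * r) * g * k by group, ← e]
      simpa [mul_assoc] using hgak
    have h2 : k⁻¹ * r * k ∈ stab M W := O.R_stab (by simpa using O.loc.conjR (inv_mem hk) hr)
    simpa [mul_assoc] using mul_mem (mul_mem h1 (inv_mem hgk)) (inv_mem h2)
  obtain ⟨P, hP, -, -, hPc⟩ := O.toSetup.exists_mod_centralizer h (O.A_le_M ha) (two_of_mem O.two (O.leA ha)) haR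
  refine O.two_base h hk hkN hg (two_of_mem hP (hPc g hgN.1 ?_))
  have h1 : cm g a ∈ R := by
    have h2 : cm g a = (a' * a⁻¹) * (a * r * a⁻¹) := by
      rw [cm, e]; group
    rw [h2, ← (O.elem.comm (inv_mem ha) ha').eq]
    exact R.mul_mem haa (O.loc.conjR (O.A_le_M ha) hr)
  have h3 : cm a g = (cm g a)⁻¹ := by simp only [cm]; group
  rw [h3]
  exact inv_mem h1

end Off

end Cfsg.Lib.CITGroups
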