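import Cfsg.Agent.CITGroups.Spread

/-!
The involutions exchanging two points of the spread, and the commutation rule they give between the stabiliser
of a point and the commutator map.
-/

set_option autoImplicit false
set_option linter.unusedSectionVars false
set_option linter.style.haveILetI false

namespace Cfsg.Lib.CITGroups

open Subgroup Cfsg.Lib.PrimePowerOrders

variable {G : Type*} [Group G] [Finite G]

namespace Off

variable {M R T A W : Subgroup G} (O : Off M R T A W) (h : CIT G)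
include O h

/-- The stabiliser of two points is transitive on the elements of `A` modulo the normal subgroup. -/
theorem conj_elem {k a₁ a₂ : G} (hk : k ∈ M) (hkN : k ∉ stab M W) (ha₁ : a₁ ∈ A) (ha₁R : a₁ ∉ R) (ha₂ : a₂ ∈ A)
    (ha₂R : a₂ ∉ R) : ∃ g ∈ base M W k, g * a₁ * g⁻¹ * a₂⁻¹ ∈ R := by
  haveI := O.loc.normal
  set K := R.subgroupOf M
  set π := QuotientGroup.mk' K
  set b : ↥M := ⟨k * a₁ * k⁻¹, M.mul_mem (M.mul_mem hk (O.A_le_M ha₁)) (inv_mem hk)⟩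
  have key : ∀ a (ha : a ∈ A), a ∉ R → IsConj (π b) (π ⟨a, O.A_le_M ha⟩) := by
    intro a ha haR
    set a' : ↥M := ⟨a, O.A_le_M ha⟩
    have hx : π a' * π a' = 1 := by rw [← map_mul, show a' * a' = 1 from Subtype.ext (O.elem a ha), map_one]
    have hy : π b * π b = 1 := by
      rw [← map_mul, show b * b = 1 from Subtype.ext (show k * a₁ * k⁻¹ * (k * a₁ * k⁻¹) = 1 by
        rw [show k * a₁ * k⁻¹ * (k * a₁ * k⁻¹) = k * (a₁ * a₁) * k⁻¹ by group, O.elem a₁ ha₁]; group), map_one]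
    refine conj_of_odd hx hy ?_
    by_contra hodd
    rw [Nat.not_odd_iff_even, even_iff_two_dvd] at hodd
    set u := π a' * π b
    set cb := u ^ (orderOf u / 2)
    have hcb : orderOf cb = 2 := orderOf_pow_orderOf_div (orderOf_pos u).ne' hodd
    have hcc : cb * cb = 1 := by rw [← pow_two, ← hcb, pow_orderOf_eq_one]
    have hinv : ∀ y : ↥M ⧸ K, y * u * y⁻¹ = u⁻¹ → Commute cb y := fun y hy' => by
      have : y * cb * y⁻¹ = cb := by rw [← conj_pow, hy', inv_pow]; exact inv_eq_of_mul_eq_one_right hcc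
      exact (mul_inv_eq_iff_eq_mul.1 this).symm
    have hxi := inv_eq_of_mul_eq_one_right hx
    have hyi := inv_eq_of_mul_eq_one_right hy
    have h1 : Commute cb (π a') := hinv _ (by simp only [u]; rw [mul_inv_rev, hxi, hyi, ← mul_assoc, hx, one_mul])
    have h2 : Commute cb (π b) := hinv _ (by
      simp only [u]
      rw [mul_inv_rev, hxi, hyi, show π b * (π a' * π b) * π b = π b * π a' * (π b * π b) by group, hy, mul_one])
    obtain ⟨c, hc⟩ := QuotientGroup.mk'_surjective K cb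
    have hcR : (c : G) ∉ R := fun hh => by
      rw [show π c = 1 from (QuotientGroup.eq_one_iff c).2 hh] at hc
      rw [← hc, orderOf_one] at hcb
      omega
    have hc2 : (c : G) * c ∈ R := (QuotientGroup.eq_one_iff (c * c)).1 (show π (c * c) = 1 by rw [map_mul, hc, hcc])
    obtain ⟨P, hP, hPM, hRP, hPc⟩ := O.toSetup.exists_mod_centralizer h c.2 (two_of_sq O.loc.two hc2) hcR
    have hmem : ∀ y : ↥M, Commute cb (π y) → (y : G) ∈ P := fun y hy' => hPc _ y.2 <|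
      (QuotientGroup.eq_one_iff (c * y * c⁻¹ * y⁻¹)).1 (show π (c * y * c⁻¹ * y⁻¹) = 1 by
        rw [map_mul, map_mul, map_mul, map_inv, map_inv, hc, hy'.eq, mul_inv_cancel_right, mul_inv_cancel])
    obtain ⟨w, hw, hw1, hwP⟩ := exists_fixed hP ((omega_le R).trans hRP) (omega_ne_bot O.loc.two O.loc.ne)
      fun p hp v hv => O.cm_mem (hPM hp) hv
    have hwW : w ∈ W := O.fix a ha haR w hw (hwP a (hmem a' h1))
    have hw'W : k⁻¹ * w * k ∈ W := by
      refine O.fix a₁ ha₁ ha₁R _ (by simpa using O.loc.omega_normal (inv_mem hk) hw) ?_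
      simpa [b, mul_assoc] using (hwP _ (hmem b h2)).map (MulAut.conj k⁻¹).toMonoidHom
    refine hkN (O.ti h hk hw'W (fun e => hw1 ?_) (by simpa [mul_assoc] using hwW))
    simpa [mul_assoc] using congrArg (MulAut.conj k) e
  obtain ⟨c, hc⟩ := isConj_iff.1 ((key a₁ ha₁ ha₁R).symm.trans (key a₂ ha₂ ha₂R))
  obtain ⟨g, rfl⟩ := QuotientGroup.mk'_surjective K c
  have hg : (g : G) * a₁ * (g : G)⁻¹ * a₂⁻¹ ∈ R :=
    (QuotientGroup.eq_one_iff (g * (⟨a₁, O.A_le_M ha₁⟩ : ↥M) * g⁻¹ * (⟨a₂, O.A_le_M ha₂⟩ : ↥M)⁻¹)).1 (by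
      show π _ = 1
      rw [map_mul, map_mul, map_mul, map_inv, map_inv, hc, mul_inv_cancel])
  have hgN : (g : G) ∈ stab M W := by
    refine ⟨g.2, mem_nrm fun w hw => ?_⟩
    have hT : (g : G) * a₁ * (g : G)⁻¹ ∈ T := by
      simpa using T.mul_mem (O.toSetup.le_T hg) (O.leA ha₂)
    obtain ⟨hTM, hTW⟩ := (O.mem_T h).1 hT
    refine O.fix_cent h hTM hTW (fun hh => ha₁R ?_) (O.loc.omega_normal g.2 (O.W_le_V hw))
      ((O.A_cent ha₁ w hw).map (MulAut.conj (g : G)).toMonoidHom)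
    simpa [mul_assoc] using O.loc.conjR (inv_mem g.2) hh
  have hgk : (g : G) * k ∉ stab M W := fun hh => hkN (by simpa using mul_mem (inv_mem hgN) hh)
  obtain ⟨a, ha, hak⟩ := O.trans h hk hkN (M.mul_mem g.2 hk) hgk
  refine ⟨a⁻¹ * g, mem_base.2 ⟨mul_mem (inv_mem (O.A_stab ha)) hgN, ?_⟩, ?_⟩
  · rw [show k⁻¹ * (a⁻¹ * (g : G)) * k = (a * k)⁻¹ * (g * k) by group]
    exact hak
  · have e : a⁻¹ * (g : G) * a₁ * (a⁻¹ * g)⁻¹ * a₂⁻¹ =
        (a⁻¹ * ((g : G) * a₁ * (g : G)⁻¹ * a₂⁻¹) * a) * (a⁻¹ * (a₂ * a) * a₂⁻¹) := by group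
    rw [e, (O.elem.comm ha₂ ha).eq, inv_mul_cancel_left, mul_inv_cancel, mul_one]
    simpa using O.loc.conjR (inv_mem (O.A_le_M ha)) hg

/-- An involution modulo the normal subgroup exchanging two given points and fixing a prescribed third. -/
theorem exists_swap {k a : G} (hk : k ∈ M) (hkN : k ∉ stab M W) (ha : a ∈ A) (haR : a ∉ R) :
    ∃ s ∈ M, k⁻¹ * s ∈ stab M W ∧ s * k ∈ stab M W ∧ s * s ∈ R ∧ (a * k)⁻¹ * s * (a * k) ∈ T := by
  classical
  haveI : Fact (Nat.Prime 2) := ⟨Nat.prime_two⟩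
  have hki : k⁻¹ ∉ stab M W := fun hh => hkN (inv_mem_iff.1 hh)
  obtain ⟨a₁, ha₁, ha₁k⟩ := O.trans h hk hkN (inv_mem hk) hki
  set g := k * a₁ with hgdef
  have hg1 : k⁻¹ * g ∈ stab M W := by simpa [hgdef] using O.A_stab ha₁
  have hg2 : g * k ∈ stab M W := by
    have := inv_mem ha₁k
    simpa [hgdef, mul_assoc] using this
  have hgM : g ∈ M := M.mul_mem hk (O.A_le_M ha₁)
  have hgg : g * g ∈ base M W k := mem_base.2 ⟨by simpa [mul_assoc] using mul_mem hg2 hg1,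
    by simpa [mul_assoc] using mul_mem hg1 hg2⟩
  obtain ⟨e, m, hm, hgo⟩ := Nat.exists_eq_two_pow_mul_odd (orderOf_pos g).ne'
  obtain ⟨j, rfl⟩ := hm
  set s := g ^ (2 * j + 1) with hsdef
  have hsplit : s = g * (g * g) ^ j := by rw [hsdef, pow_succ', pow_mul, pow_two]
  have hj := mem_base.1 (pow_mem hgg j)
  have hs1 : k⁻¹ * s ∈ stab M W := by rw [hsplit, ← mul_assoc]; exact mul_mem hg1 hj.1
  have hs2 : s * k ∈ stab M W := by
    rw [hsplit, show g * (g * g) ^ j * k = g * k * (k⁻¹ * (g * g) ^ j * k) by group]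
    exact mul_mem hg2 hj.2
  have hs : Two s := by
    obtain ⟨i, -, hi⟩ := (Nat.dvd_prime_pow Nat.prime_two).1 (orderOf_dvd_of_pow_eq_one (x := s) (n := 2 ^ e) (by
      rw [hsdef, ← pow_mul, mul_comm, ← hgo, pow_orderOf_eq_one]))
    exact ⟨i, hi⟩
  have hsM : s ∈ M := pow_mem hgM _
  have hss : s * s ∈ R := by
    refine O.two_base h hk hkN (mem_base.2 ⟨by simpa [mul_assoc] using mul_mem hs2 hs1,
      by simpa [mul_assoc] using mul_mem hs1 hs2⟩) ?_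
    obtain ⟨i, hi⟩ := hs
    exact two_of_mem (IsPGroup.of_card (n := i) (by rw [Nat.card_zpowers, hi]) : IsPGroup 2 ↥(zpowers s))
      (mul_mem (mem_zpowers s) (mem_zpowers s))
  have hsN : s ∉ stab M W := fun hh => hkN (by simpa using inv_mem (mul_mem hs1 (inv_mem hh)))
  -- a fixed point
  obtain ⟨Q, hQ⟩ := (O.two.comap_of_injective M.subtype M.subtype_injective :
    IsPGroup 2 ↥(T.subgroupOf M)).exists_le_sylow
  have hQT : (Q : Subgroup ↥M).map M.subtype = T := O.max _ (map_subtype_le _) (Q.2.map _)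
    fun t ht => ⟨⟨t, O.le ht⟩, hQ ht, rfl⟩
  obtain ⟨i, hi⟩ := hs
  obtain ⟨P, hP⟩ := (IsPGroup.of_card (n := i) (by rw [Nat.card_zpowers, ← orderOf_coe (⟨s, hsM⟩ : ↥M), hi]) :
    IsPGroup 2 ↥(zpowers (⟨s, hsM⟩ : ↥M))).exists_le_sylow
  obtain ⟨c, hc⟩ := MulAction.exists_smul_eq ↥M Q P
  obtain ⟨t, ht, htc⟩ : ∃ t ∈ T, (c : G) * t * (c : G)⁻¹ = s := by
    have h1 := hP (mem_zpowers _)
    rw [← hc, Sylow.coe_subgroup_smul] at h1
    obtain ⟨u, hu, e⟩ := h1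
    exact ⟨u, hQT.le ⟨u, hu, rfl⟩, congrArg Subtype.val e⟩
  have hkc : k⁻¹ * (c : G) ∉ stab M W := fun hh => by
    have h1 : k⁻¹ * s * k ∈ stab M W := by
      have := mul_mem (mul_mem hh (O.T_stab h ht)) (inv_mem hh)
      rw [← htc]
      simpa [mul_assoc] using this
    exact hkN (by simpa [mul_assoc] using mul_mem (inv_mem hs1) h1)
  have hcN : (c : G) ∉ stab M W := fun hh => hsN (htc ▸ mul_mem (mul_mem hh (O.T_stab h ht)) (inv_mem hh))
  obtain ⟨a₀, ha₀, hac⟩ := O.trans h hk hkN c.2 hcN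
  have ha₀R : a₀ ∉ R := fun hh => hkc (by
    have h2 : k⁻¹ * a₀ * k ∈ stab M W := O.R_stab (by simpa using O.loc.conjR (inv_mem hk) hh)
    simpa [mul_assoc] using mul_mem h2 hac)
  have hsak : (a₀ * k)⁻¹ * s * (a₀ * k) ∈ T := by
    have := O.stab_nrm h hac ht
    rw [← htc]
    simpa [mul_assoc] using this
  obtain ⟨g', hg', hga⟩ := O.conj_elem h hk hkN ha₀ ha₀R ha haR
  obtain ⟨hg'N, hg'k⟩ := mem_base.1 hg'
  refine ⟨g' * s * g'⁻¹, M.mul_mem (M.mul_mem hg'N.1 hsM) (inv_mem hg'N.1), ?_, ?_, ?_, ?_⟩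
  · simpa [mul_assoc] using mul_mem (mul_mem hg'k hs1) (inv_mem hg'N)
  · simpa [mul_assoc] using mul_mem (mul_mem hg'N hs2) (inv_mem hg'k)
  · rw [show g' * s * g'⁻¹ * (g' * s * g'⁻¹) = g' * (s * s) * g'⁻¹ by group]
    exact O.loc.conjR hg'N.1 hss
  · set r := g' * a₀ * g'⁻¹ * a⁻¹ with hr
    set r' := g'⁻¹ * r * g' with hr'
    have hr'R : r' ∈ R := by simpa [hr'] using O.loc.conjR (inv_mem hg'N.1) hga
    set n := k⁻¹ * g' * k
    set r'' := (a₀ * k)⁻¹ * r' * (a₀ * k) with hr''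
    have hr''R : r'' ∈ R := by
      simpa [hr''] using O.loc.conjR (inv_mem (M.mul_mem (O.A_le_M ha₀) hk)) hr'R
    have e : (a * k)⁻¹ * (g' * s * g'⁻¹) * (a * k) =
        n * (r'' * ((a₀ * k)⁻¹ * s * (a₀ * k)) * r''⁻¹) * n⁻¹ := by
      simp only [n, hr'', hr', hr]
      group
    rw [e]
    exact O.stab_nrm h hg'k (T.mul_mem (T.mul_mem (O.toSetup.le_T hr''R) hsak) (inv_mem (O.toSetup.le_T hr''R)))

/-- The exchanging involution describes the commutator map. -/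
theorem swap_formula {k a s w : G} (hk : k ∈ M) (hkN : k ∉ stab M W) (ha : a ∈ A) (hs1 : k⁻¹ * s ∈ stab M W)
    (hs2 : s * k ∈ stab M W) (hs3 : (a * k)⁻¹ * s * (a * k) ∈ T) (hw : w ∈ W) :
    cm a (k * w * k⁻¹) = s * (k * w * k⁻¹) * s⁻¹ := by
  set c := cm a (k * w * k⁻¹) with hc
  have hcW : c ∈ W := O.cmW a ha _ (O.loc.omega_normal hk (O.W_le_V hw))
  set u := (a * k) * w * (a * k)⁻¹ with hu
  have hu' : u = c * (k * w * k⁻¹) := by simp only [hu, hc, cm]; group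
  have hsu : s * u * s⁻¹ = u := by
    have h1 := (((O.mem_T h).1 hs3).2 w hw).map (MulAut.conj (a * k)).toMonoidHom
    simp only [MulEquiv.coe_toMonoidHom, MulAut.conj_apply] at h1
    rw [show a * k * ((a * k)⁻¹ * s * (a * k)) * (a * k)⁻¹ = s by group, ← hu] at h1
    exact mul_inv_eq_iff_eq_mul.2 h1.eq
  have hsx : s * (k * w * k⁻¹) * s⁻¹ ∈ W := by simpa [mul_assoc] using O.stab_conj hs2 hw
  have hsc : s * c * s⁻¹ = k * ((k⁻¹ * s) * c * (k⁻¹ * s)⁻¹) * k⁻¹ := by group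
  have h2 : s * (k * w * k⁻¹) * s⁻¹ * (s * c * s⁻¹) = c * (k * w * k⁻¹) := by
    rw [show s * (k * w * k⁻¹) * s⁻¹ * (s * c * s⁻¹) = s * ((k * w * k⁻¹) * c) * s⁻¹ by group,
      ((elem_omega R).comm (O.loc.omega_normal hk (O.W_le_V hw)) (O.W_le_V hcW)).eq, ← hu', hsu, hu']
  rw [hsc] at h2
  exact (O.decomp_unique h hk hkN hsx (O.stab_conj hs1 hcW) hcW hw h2).symm

/-- The exchanging involution inverts the stabiliser of the two points. -/
theorem inverts {k s g : G} (hk : k ∈ M) (hkN : k ∉ stab M W) (hsM : s ∈ M) (hs1 : k⁻¹ * s ∈ stab M W)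
    (hs2 : s * k ∈ stab M W) (hss : s * s ∈ R) (hg : g ∈ base M W k) : s * g * s⁻¹ * g ∈ R := by
  haveI := O.loc.normal
  have hsR : s ∉ R := fun hh => hkN (by simpa using inv_mem (mul_mem hs1 (inv_mem (O.R_stab hh))))
  obtain ⟨P, hP, -, -, hPc⟩ := O.toSetup.exists_mod_centralizer h hsM (two_of_sq O.loc.two hss) hsR
  set K := R.subgroupOf M
  set π := QuotientGroup.mk' K
  set z : ↥M := ⟨s, hsM⟩
  have hz : π z * π z = 1 := by rw [← map_mul]; exact (QuotientGroup.eq_one_iff _).2 hss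
  have hzi : (π z)⁻¹ = π z := inv_eq_of_mul_eq_one_right hz
  have hgM : g ∈ M := (mem_base.1 hg).1.1
  have key := Cfsg.Lib.AutThreeFour.inverts_of_fpf hz (((base M W k).subgroupOf M).map π) ?_ ?_
    (π ⟨g, hgM⟩) ⟨⟨g, hgM⟩, hg, rfl⟩
  · have h1 : π (z * (⟨g, hgM⟩ : ↥M) * z⁻¹ * (⟨g, hgM⟩ : ↥M)) = 1 := by
      rw [map_mul, map_mul, map_mul, map_inv, hzi, key, inv_mul_cancel]
    exact (QuotientGroup.eq_one_iff (z * (⟨g, hgM⟩ : ↥M) * z⁻¹ * (⟨g, hgM⟩ : ↥M))).1 h1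
  · rintro _ ⟨n, hn, rfl⟩
    obtain ⟨hnN, hnk⟩ := mem_base.1 hn
    refine ⟨z * n * z⁻¹, mem_base.2 ⟨?_, ?_⟩, by rw [map_mul, map_mul, map_inv, hzi]⟩
    · simpa [z, mul_assoc] using mul_mem (mul_mem hs2 hnk) (inv_mem hs2)
    · simpa [z, mul_assoc] using mul_mem (mul_mem hs1 hnN) (inv_mem hs1)
  · rintro _ ⟨n, hn, rfl⟩ hc
    refine (QuotientGroup.eq_one_iff n).2 (O.two_base h hk hkN hn (two_of_mem hP (hPc n n.2 ?_)))
    exact (QuotientGroup.eq_one_iff (z * n * z⁻¹ * n⁻¹)).1 (show π (z * n * z⁻¹ * n⁻¹) = 1 by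
      rw [map_mul, map_mul, map_mul, map_inv, map_inv, ← hc, mul_inv_cancel_right, mul_inv_cancel])

/-- The commutator map turns conjugation by the stabiliser of a point into the inverse conjugation. -/
theorem key {g a v : G} (hg : g ∈ stab M W) (ha : a ∈ A) (hv : v ∈ omega R) :
    cm a (g * v * g⁻¹) = g⁻¹ * cm a v * g := by
  obtain ⟨k, hk, hkN⟩ := O.exists_point h
  have hgk : g * k ∉ stab M W := fun hh => hkN (by simpa using mul_mem (inv_mem hg) hh)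
  obtain ⟨a₀, ha₀, hak⟩ := O.trans h hk hkN (M.mul_mem hg.1 hk) hgk
  set g₀ := a₀⁻¹ * g with hg₀
  have hb : g₀ ∈ base M W k := mem_base.2 ⟨mul_mem (inv_mem (O.A_stab ha₀)) hg,
    by rw [show k⁻¹ * g₀ * k = (a₀ * k)⁻¹ * (g * k) by simp only [hg₀]; group]; exact hak⟩
  obtain ⟨hg₀N, hg₀k⟩ := mem_base.1 hb
  set u := g₀ * v * g₀⁻¹ with hu
  have huV : u ∈ omega R := O.loc.omega_normal hg₀N.1 hv
  have hcv := O.cmW a ha v hv
  have hl : cm a (g * v * g⁻¹) = cm a u := by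
    rw [show g * v * g⁻¹ = cm a₀ u * u by simp only [hu, hg₀, cm]; group,
      O.cm_mul ha (O.W_le_V (O.cmW a₀ ha₀ u huV)) huV, O.cm_W ha (O.cmW a₀ ha₀ u huV), one_mul]
  have hr : g⁻¹ * cm a v * g = g₀⁻¹ * cm a v * g₀ := by
    rw [show g⁻¹ * cm a v * g = g₀⁻¹ * (a₀⁻¹ * (cm a v * a₀)) * g₀ by simp only [hg₀]; group,
      ← (O.A_cent ha₀ _ hcv).eq, inv_mul_cancel_left]
  rw [hl, hr]
  by_cases haR : a ∈ R
  · rw [cm_eq_one.2 (O.commR huV haR), cm_eq_one.2 (O.commR hv haR)]; group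
  obtain ⟨w₁, hw₁, w₂, hw₂, rfl⟩ := O.decomp h hk hkN hv
  obtain ⟨s, hsM, hs1, hs2, hss, hs3⟩ := O.exists_swap h hk hkN ha haR
  have hxV := O.loc.omega_normal hk (O.W_le_V hw₂)
  have hn := O.stab_conj hg₀k hw₂
  set n := k⁻¹ * g₀ * k with hndef
  have hx' : g₀ * (k * w₂ * k⁻¹) * g₀⁻¹ = k * (n * w₂ * n⁻¹) * k⁻¹ := by simp only [hndef]; group
  rw [hu, show g₀ * (w₁ * (k * w₂ * k⁻¹)) * g₀⁻¹ = g₀ * w₁ * g₀⁻¹ * (k * (n * w₂ * n⁻¹) * k⁻¹) by
      rw [← hx']; group,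
    O.cm_mul ha (O.W_le_V (O.stab_conj hg₀N hw₁)) (O.loc.omega_normal hk (O.W_le_V hn)),
    O.cm_W ha (O.stab_conj hg₀N hw₁), one_mul, O.cm_mul ha (O.W_le_V hw₁) hxV, O.cm_W ha hw₁, one_mul,
    O.swap_formula h hk hkN ha hs1 hs2 hs3 hn, O.swap_formula h hk hkN ha hs1 hs2 hs3 hw₂, ← hx']
  set x := k * w₂ * k⁻¹
  have hr0 := O.inverts h hk hkN hsM hs1 hs2 hss hb
  rw [show s * (g₀ * x * g₀⁻¹) * s⁻¹ =
    (s * g₀ * s⁻¹ * g₀) * (g₀⁻¹ * (s * x * s⁻¹) * g₀) * (s * g₀ * s⁻¹ * g₀)⁻¹ by group]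
  have hv' : g₀⁻¹ * (s * x * s⁻¹) * g₀ ∈ omega R := by
    simpa using O.loc.omega_normal (inv_mem hg₀N.1) (O.loc.omega_normal hsM hxV)
  rw [(O.commR hv' hr0).eq, mul_inv_cancel_right]

end Off

end Cfsg.Lib.CITGroups
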